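import Cfsg.Agent.Coprime.Action
import Cfsg.Agent.OddOrder.BG1Stab
import Cfsg.Agent.Solvable.Frattini

/-!
Small lemmas on coprime action on `p`-groups.

* `three_subgroups_le`: the three subgroups lemma modulo a subgroup normalised by all three.
* `coprime_card`: a `p'`-group and a `p`-group have coprime orders.
* `commute_of_commute_fixed` (Thompson's `A × B` lemma): a `p'`-element commuting with the
  `p`-group `A` and centralising `C_P(A)` centralises the `p`-group `P`.
* `pxq`: the same for subgroups.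
-/

set_option autoImplicit false

open scoped commutatorElement
open Subgroup

namespace CfsgLib.LocalEven48

variable {G : Type*} [Group G] {p : ℕ}

/-- Three subgroups lemma modulo a subgroup normalised by all three subgroups. -/
theorem three_subgroups_le {H₁ H₂ H₃ N : Subgroup G} (n1 : H₁ ≤ normalizer (N : Set G))
    (n2 : H₂ ≤ normalizer (N : Set G)) (n3 : H₃ ≤ normalizer (N : Set G))
    (h1 : ⁅⁅H₂, H₃⁆, H₁⁆ ≤ N) (h2 : ⁅⁅H₃, H₁⁆, H₂⁆ ≤ N) : ⁅⁅H₁, H₂⁆, H₃⁆ ≤ N := by
  set M := normalizer (N : Set G) with hM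
  have hNM : N ≤ M := le_normalizer
  have hn : (N.subgroupOf M).Normal := (normal_subgroupOf_iff_le_normalizer hNM).mpr le_rfl
  set f := QuotientGroup.mk' (N.subgroupOf M) with hf
  have key : ∀ A B C : Subgroup G, A ≤ M → B ≤ M → C ≤ M →
      (⁅⁅A, B⁆, C⁆ ≤ N ↔ ⁅⁅(A.subgroupOf M).map f, (B.subgroupOf M).map f⁆,
        (C.subgroupOf M).map f⁆ = ⊥) := by
    intro A B C hA hB hC
    rw [← map_commutator, ← map_commutator, Subgroup.map_eq_bot_iff, hf, QuotientGroup.ker_mk']
    rw [← map_subtype_le_map_subtype, map_commutator, map_commutator,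
      map_subgroupOf_eq_of_le hA, map_subgroupOf_eq_of_le hB, map_subgroupOf_eq_of_le hC,
      map_subgroupOf_eq_of_le hNM]
  rw [key _ _ _ n1 n2 n3]
  exact commutator_commutator_eq_bot_of_rotate ((key _ _ _ n2 n3 n1).mp h1)
    ((key _ _ _ n3 n1 n2).mp h2)

theorem coprime_of_pow {n : ℕ} [Fact p.Prime] (hn : ¬ p ∣ n) (k : ℕ) : n.Coprime (p ^ k) :=
  Nat.Coprime.pow_right k ((Nat.Prime.coprime_iff_not_dvd Fact.out).mpr hn).symm

/-- A group of order prime to `p` and a finite `p`-group have coprime orders. -/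
theorem coprime_card [Finite G] [Fact p.Prime] {P B : Subgroup G} (hP : IsPGroup p P)
    (hB : ¬ p ∣ Nat.card B) : (Nat.card B).Coprime (Nat.card P) := by
  obtain ⟨k, hk⟩ := IsPGroup.iff_card.mp hP
  rw [hk]
  exact coprime_of_pow hB k

theorem coprime_orderOf [Finite G] [Fact p.Prime] {P : Subgroup G} (hP : IsPGroup p P) {b : G}
    (hb : (orderOf b).Coprime p) : (orderOf b).Coprime (Nat.card P) := by
  obtain ⟨k, hk⟩ := IsPGroup.iff_card.mp hP
  rw [hk]
  exact hb.pow_right k

/-- A `p`-group `A` normalising the `p`-group `P` and an `A`-invariant proper subgroup `C` of it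
fixes a nontrivial coset. -/
theorem exists_not_mem_commutator_mem [Finite G] [Fact p.Prime] {P A C : Subgroup G}
    (hP : IsPGroup p P) (hA : IsPGroup p A) (hnA : A ≤ normalizer (P : Set G)) (hC : ¬ P ≤ C) :
    ∃ x ∈ P, x ∉ C ∧ ∀ a ∈ A, ⁅a, x⁆ ∈ C := by
  set T := P ⊔ A with hT
  have hTp : IsPGroup p T := hP.to_sup_of_normal_left' hA hnA
  have := hTp.isNilpotent
  by_contra hcon
  push Not at hcon
  apply hC
  have key : ∀ i, ¬ P ≤ C → ∃ x ∈ P, x ∉ C ∧ ∃ t : T, (t : G) = x ∧
      t ∈ Subgroup.lowerCentralSeries (⊤ : Subgroup T) i := by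
    intro i hPC
    induction i with
    | zero =>
      obtain ⟨x, hx, hxC⟩ := SetLike.not_le_iff_exists.mp hPC
      exact ⟨x, hx, hxC, ⟨x, mem_sup_left hx⟩, rfl, by simp⟩
    | succ i ih =>
      obtain ⟨x, hx, hxC, t, rfl, ht⟩ := ih
      obtain ⟨a, ha, hax⟩ := hcon _ hx hxC
      refine ⟨⁅a, (t : G)⁆, ?_, hax, ⁅(⟨a, mem_sup_right ha⟩ : T), t⁆, rfl, ?_⟩
      · exact P.mul_mem ((mem_normalizer_iff.mp (hnA ha) _).mp hx) (P.inv_mem hx)
      · rw [Subgroup.lowerCentralSeries_succ, commutator_comm]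
        exact commutator_mem_commutator (mem_top _) ht
  by_contra hPC
  obtain ⟨n, hn⟩ := Subgroup.nilpotent_iff_lowerCentralSeries.mp ‹Group.IsNilpotent T›
  obtain ⟨x, -, hxC, t, rfl, ht⟩ := key n hPC
  rw [hn, mem_bot] at ht
  exact hxC (by rw [ht]; exact C.one_mem)

/-- **Thompson's `A × B` lemma**, for an element. -/
theorem commute_of_commute_fixed [Finite G] [Fact p.Prime] {P A : Subgroup G} {b : G}
    (hP : IsPGroup p P) (hA : IsPGroup p A) (hnA : A ≤ normalizer (P : Set G))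
    (hb : b ∈ normalizer (P : Set G)) (hcop : (orderOf b).Coprime p)
    (hbA : ∀ a ∈ A, Commute a b)
    (hfix : ∀ x ∈ P, (∀ a ∈ A, Commute a x) → Commute b x) : ∀ x ∈ P, Commute b x := by
  set C := P ⊓ centralizer ({b} : Set G) with hC
  have memC : ∀ x, x ∈ C ↔ x ∈ P ∧ Commute b x := fun x => by
    rw [hC, mem_inf, mem_centralizer_singleton_iff]
    exact and_congr_right fun _ => ⟨fun h => h.symm, fun h => h.symm⟩
  set D := P ⊓ centralizer (C : Set G) with hD
  have hzp : centralizer (zpowers b : Set G) = centralizer ({b} : Set G) := by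
    rw [zpowers_eq_closure, centralizer_closure]
  by_cases hDC : D ≤ C
  · have := hP.isNilpotent
    have := OddOrder.Stab.le_centralizer_of_nilpotent_faithful (H := P) (A := zpowers b)
      inferInstance (zpowers_le.mpr hb)
      (by rw [Nat.card_zpowers]; exact coprime_orderOf hP hcop) (by rw [hzp]; exact hDC)
    intro x hx
    exact (mem_centralizer_iff.mp (this (mem_zpowers b)) x hx).symm
  exfalso
  have hAC : ∀ a ∈ A, ∀ c ∈ C, a * c * a⁻¹ ∈ C := fun a ha c hc => by
    rw [memC] at hc ⊢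
    refine ⟨(mem_normalizer_iff.mp (hnA ha) c).mp hc.1, ?_⟩
    exact ((hbA a ha).symm.mul_right hc.2).mul_right (hbA a ha).symm.inv_right
  have hAD : A ≤ normalizer (D : Set G) := by
    rw [le_normalizer_iff]
    intro a ha x hx
    refine mem_inf.mpr ⟨(mem_normalizer_iff.mp (hnA ha) x).mp (mem_inf.mp hx).1, ?_⟩
    rw [mem_centralizer_iff]
    intro c hc
    have h1 := mem_centralizer_iff.mp (mem_inf.mp hx).2 _ (hAC a⁻¹ (A.inv_mem ha) c hc)
    calc c * (a * x * a⁻¹) = a * (a⁻¹ * c * a⁻¹⁻¹ * x) * a⁻¹ := by group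
      _ = a * (x * (a⁻¹ * c * a⁻¹⁻¹)) * a⁻¹ := by rw [h1]
      _ = a * x * a⁻¹ * c := by group
  obtain ⟨x, hxD, hxC, hax⟩ := exists_not_mem_commutator_mem
    (hP.to_le inf_le_left) hA hAD hDC
  obtain ⟨hxP, hxc⟩ := mem_inf.mp hxD
  set y := ⁅b, x⁆ with hy
  have hyP : y ∈ P := P.mul_mem ((mem_normalizer_iff.mp hb x).mp hxP) (P.inv_mem hxP)
  have hyA : ∀ a ∈ A, Commute a y := by
    intro a ha
    set c := ⁅a, x⁆ with hc
    obtain ⟨-, hbc⟩ := (memC c).mp (hax a ha)
    have hyc : c * y = y * c := by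
      have h1 : b * c * b⁻¹ = c := by rw [hbc.eq, mul_inv_cancel_right]
      have h2 := mem_centralizer_iff.mp hxc c (hax a ha)
      calc c * y = c * (b * x * b⁻¹) * x⁻¹ := by rw [hy, commutatorElement_def]; group
        _ = b * (c * x) * b⁻¹ * x⁻¹ := by
          conv_lhs => rw [← h1]
          group
        _ = b * (x * c) * b⁻¹ * x⁻¹ := by rw [h2]
        _ = b * x * b⁻¹ * c * x⁻¹ := by
          conv_rhs => rw [← h1]
          group
        _ = y * (x * c) * x⁻¹ := by rw [hy, commutatorElement_def]; group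
        _ = y * (c * x) * x⁻¹ := by rw [h2]
        _ = y * c := by group
    have e1 : a * x * a⁻¹ = c * x := by rw [hc, commutatorElement_def]; group
    have e2 : a * b * a⁻¹ = b := by rw [(hbA a ha).eq, mul_inv_cancel_right]
    show a * y = y * a
    calc a * y = (a * b * a⁻¹) * (a * x * a⁻¹) * (a * b * a⁻¹)⁻¹ * (a * x * a⁻¹)⁻¹ * a := by
          rw [hy, commutatorElement_def]; group
      _ = b * c * b⁻¹ * (b * x * b⁻¹) * x⁻¹ * c⁻¹ * a := by rw [e1, e2]; group
      _ = c * (b * x * b⁻¹) * x⁻¹ * c⁻¹ * a := by rw [hbc.eq, mul_inv_cancel_right]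
      _ = c * y * c⁻¹ * a := by rw [hy, commutatorElement_def]; group
      _ = y * a := by rw [hyc]; group
  have hby := hfix y hyP hyA
  exact hxC ((memC x).mpr ⟨hxP,
    OddOrder.Stab.commute_of_stab_mem hby hyP (coprime_orderOf hP hcop)⟩)

/-- **Thompson's `A × B` lemma**, for subgroups. -/
theorem pxq [Finite G] [Fact p.Prime] {P A B : Subgroup G}
    (hP : IsPGroup p P) (hA : IsPGroup p A) (hB : ¬ p ∣ Nat.card B)
    (hnA : A ≤ normalizer (P : Set G)) (hnB : B ≤ normalizer (P : Set G))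
    (hAB : B ≤ centralizer (A : Set G))
    (hfix : P ⊓ centralizer (A : Set G) ≤ centralizer (B : Set G)) :
    B ≤ centralizer (P : Set G) := by
  intro b hb x hx
  refine (commute_of_commute_fixed hP hA hnA (hnB hb) ?_ (fun a ha => hAB hb a ha) ?_ x hx).symm
  · simpa using (coprime_of_pow hB 1).coprime_dvd_left (orderOf_dvd_natCard B hb)
  · intro y hy hya
    exact hfix (mem_inf.mpr ⟨hy, fun a ha => hya a ha⟩) b hb

/-- A subgroup normalising `X` and `Y` normalises their join. -/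
theorem le_normalizer_sup {B X Y : Subgroup G} (hX : B ≤ normalizer (X : Set G))
    (hY : B ≤ normalizer (Y : Set G)) : B ≤ normalizer ((X ⊔ Y : Subgroup G) : Set G) := fun b hb =>
  mem_normalizer_iff_map_conj_eq.mpr (by
    rw [Subgroup.map_sup, mem_normalizer_iff_map_conj_eq.mp (hX hb),
      mem_normalizer_iff_map_conj_eq.mp (hY hb)])

end CfsgLib.LocalEven48
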