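import Cfsg.Prelude.Def_CaseTheorems
import Cfsg.Prelude.Def_LocalEven
import Cfsg.Prelude.Def_Involutions
import Cfsg.Prelude.Def_Transfer
import Cfsg.Agent.Components.FStar
import Cfsg.Agent.LocalStructure.Cores
import Cfsg.Agent.OddOrder.BG9.Noncyclic
import Mathlib.GroupTheory.Sylow

/-!
`S₄`-free 2-locals of characteristic 2: given a characteristic subgroup of each 2-group that is
normal in every `S₄`-free group of characteristic 2 over it, the maximal 2-locals are strongly
embedded.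
-/

set_option autoImplicit false

universe u

namespace CfsgLib.LocalEven48.SFreeLocals

open Subgroup Cfsg

/-- The content of Stellmacher's theorem on `S₄`-free groups. -/
def HasW : Prop :=
  ∀ (S : Type u) [Group S] [Finite S] [Nontrivial S], IsPGroup 2 S →
    ∃ W : Subgroup S, W ≠ ⊥ ∧ W.Characteristic ∧ ∀ (G : Type u) [Group G] [Finite G] (τ : S →* G),
      Function.Injective τ → (∃ P : Sylow 2 G, (P : Subgroup G) = τ.range) →
      (¬ ∃ (K R : Subgroup G) (_ : (R.subgroupOf K).Normal),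
        Nonempty ((K ⧸ R.subgroupOf K) ≃* Equiv.Perm (Fin 4))) →
      centralizer (pCore 2 G : Set G) ≤ pCore 2 G → (W.map τ).Normal

variable {G : Type u} [Group G]

/-- `T` is a maximal 2-subgroup of `H`. -/
def MaxTwo (H T : Subgroup G) : Prop :=
  Maximal (fun Q : Subgroup G => Q ≤ H ∧ IsPGroup 2 Q) T

theorem exists_maxTwo [Finite G] {H D : Subgroup G} (hD : IsPGroup 2 D) (hDH : D ≤ H) :
    ∃ T, D ≤ T ∧ MaxTwo H T := by
  obtain ⟨T, hle, hT⟩ := Set.Finite.exists_le_maximal
    (Set.toFinite {Q : Subgroup G | Q ≤ H ∧ IsPGroup 2 Q}) ⟨hDH, hD⟩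
  exact ⟨T, hle, hT⟩

/-- A maximal 2-subgroup as a Sylow subgroup. -/
theorem MaxTwo.exists_sylow {H T : Subgroup G} (hT : MaxTwo H T) :
    ∃ P : Sylow 2 H, (P : Subgroup H) = T.subgroupOf H := by
  refine ⟨⟨T.subgroupOf H, hT.prop.2.comap_subtype, fun {Q} hQ hle => ?_⟩, rfl⟩
  refine le_antisymm (fun x hx => mem_subgroupOf.2 ?_) hle
  refine hT.2 ⟨map_subtype_le Q, hQ.map _⟩ ?_ (mem_map_of_mem H.subtype hx)
  rw [← map_subgroupOf_eq_of_le hT.prop.1]
  exact map_mono hle

theorem MaxTwo.conj [Finite G] {H T T' : Subgroup G} (hT : MaxTwo H T) (hT' : MaxTwo H T') :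
    ∃ h ∈ H, T.map (MulAut.conj h).toMonoidHom = T' := by
  haveI : Fact (Nat.Prime 2) := ⟨Nat.prime_two⟩
  obtain ⟨P, hP⟩ := hT.exists_sylow
  obtain ⟨P', hP'⟩ := hT'.exists_sylow
  obtain ⟨h, hh⟩ := MulAction.exists_smul_eq ↥H P P'
  refine ⟨(h : G), h.2, ?_⟩
  have e := congrArg (fun Q : Sylow 2 H => (Q : Subgroup H).map H.subtype) hh
  simp only [Sylow.coe_subgroup_smul, hP', map_subgroupOf_eq_of_le hT'.prop.1] at e
  rw [← e, hP]
  ext x
  simp only [mem_map, MulEquiv.toMonoidHom_eq_coe, MonoidHom.coe_coe, MulAut.conj_apply,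
    Subgroup.pointwise_smul_def, Subgroup.coe_subtype, mem_subgroupOf]
  constructor
  · rintro ⟨y, hy, rfl⟩
    exact ⟨h * ⟨y, hT.prop.1 hy⟩ * h⁻¹, ⟨⟨y, hT.prop.1 hy⟩, hy, rfl⟩, rfl⟩
  · rintro ⟨_, ⟨y, hy, rfl⟩, rfl⟩
    exact ⟨(y : G), hy, rfl⟩

theorem lt_normalizer_of_lt [Finite G] {D T : Subgroup G} (hT : IsPGroup 2 T) (h : D < T) :
    D < T ⊓ normalizer (D : Set G) := by
  haveI : Fact (Nat.Prime 2) := ⟨Nat.prime_two⟩
  rw [inf_comm]
  exact CfsgLib.OddOrder.lt_normalizer_inf_of_lt hT h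

variable [Finite G]

theorem maximal_isStronglyEmbedded (hW : HasW.{u}) (heven : Even (Nat.card G))
    (hO : pCore 2 G = ⊥)
    (hloc : ∀ M : Subgroup G, IsTwoLocal M →
      IsOfCharacteristicTwo ↥M ∧ ¬ Involves (Equiv.Perm (Fin 4)) ↥M)
    (M : Subgroup G) (hM : IsMaximalTwoLocal M) : IsStronglyEmbedded M := by
  classical
  haveI : Fact (Nat.Prime 2) := ⟨Nat.prime_two⟩
  -- the subgroup attached to a nontrivial 2-group
  have hfun : ∀ T : Subgroup G, IsPGroup 2 T → T ≠ ⊥ → ∃ W : Subgroup G, W ≠ ⊥ ∧ W ≤ T ∧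
      normalizer (T : Set G) ≤ normalizer (W : Set G) ∧
      ∀ H : Subgroup G, IsTwoLocal H → MaxTwo H T → H ≤ normalizer (W : Set G) := by
    intro T hT hTne
    haveI : Nontrivial ↥T := (nontrivial_iff_ne_bot T).2 hTne
    obtain ⟨W, hWne, hWc, hWn⟩ := hW ↥T hT
    haveI := hWc
    refine ⟨W.map T.subtype, fun e => hWne ?_, map_subtype_le W,
      CfsgLib.Components.normalizer_le_normalizer_map_subtype T W, fun H hH hTH => ?_⟩
    · exact (map_eq_bot_iff_of_injective W T.subtype_injective).1 e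
    obtain ⟨P, hP⟩ := hTH.exists_sylow
    haveI hn := hWn ↥H (inclusion hTH.prop.1) (inclusion_injective hTH.prop.1)
      ⟨P, by rw [hP, ← inclusion_range hTH.prop.1]⟩ (hloc H hH).2 (hloc H hH).1
    have e : (W.map (inclusion hTH.prop.1)).map H.subtype = W.map T.subtype := by
      rw [map_map]; rfl
    rw [← e]
    refine le_trans ?_ (le_normalizer_map _)
    rw [normalizer_eq_top, ← MonoidHom.range_eq_map, range_subtype]
  obtain ⟨S₀⟩ : Nonempty (Sylow 2 G) := inferInstance
  set S : Subgroup G := (S₀ : Subgroup G)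
  have hSne : S ≠ ⊥ := by
    intro e
    have h1 := S₀.card_eq_multiplicity
    rw [show (S₀ : Subgroup G) = S from rfl, e, card_bot] at h1
    have : 0 < (Nat.card G).factorization 2 :=
      Nat.prime_two.factorization_pos_of_dvd Nat.card_pos.ne' heven.two_dvd
    exact (Nat.one_lt_pow this.ne' one_lt_two).ne h1
  obtain ⟨W₀, hW₀ne, hW₀S, hW₀N, hW₀H⟩ := hfun S S₀.isPGroup' hSne
  set M₀ := normalizer (W₀ : Set G) with hM₀
  have hW₀p : IsPGroup 2 W₀ := S₀.isPGroup'.to_le hW₀S
  have hM₀loc : IsTwoLocal M₀ := ⟨W₀, hW₀p, hW₀ne, rfl⟩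
  have hSM₀ : S ≤ M₀ := le_normalizer.trans hW₀N
  have hmapLocal : ∀ (g : G) (H : Subgroup G), IsTwoLocal H →
      IsTwoLocal (H.map (MulAut.conj g).toMonoidHom) := by
    rintro g _ ⟨T, hT, hTne, rfl⟩
    refine ⟨T.map (MulAut.conj g).toMonoidHom, hT.map _, fun e => hTne ?_, ?_⟩
    · exact (map_eq_bot_iff_of_injective T (MulAut.conj g).injective).1 e
    · exact map_equiv_normalizer_eq T (MulAut.conj g)
  -- every 2-local lies in a conjugate of `M₀`
  have hcontain : ∀ n, ∀ H : Subgroup G, IsTwoLocal H → ∀ T, MaxTwo H T → T ≠ ⊥ →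
      Nat.card G ≤ Nat.card T + n → ∃ g : G, H ≤ M₀.map (MulAut.conj g).toMonoidHom := by
    intro n
    induction n using Nat.strong_induction_on with
    | _ n ih =>
      intro H hH T hT hTne hn
      obtain ⟨P, hTP⟩ := hT.prop.2.exists_le_sylow
      rcases eq_or_lt_of_le hTP with e | hlt
      · obtain ⟨g, hg⟩ := MulAction.exists_smul_eq G S₀ P
        refine ⟨g, ?_⟩
        have hTS : T.map (MulAut.conj g⁻¹).toMonoidHom = S := by
          rw [e, ← hg, Sylow.coe_subgroup_smul]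
          ext x
          simp only [mem_map, MulEquiv.toMonoidHom_eq_coe, MonoidHom.coe_coe, MulAut.conj_apply,
            Subgroup.pointwise_smul_def, inv_inv]
          constructor
          · rintro ⟨_, ⟨y, hy, rfl⟩, rfl⟩
            have : g⁻¹ * (g * y * g⁻¹) * g = y := by group
            exact this.symm ▸ hy
          · intro hx
            exact ⟨g * x * g⁻¹, ⟨x, hx, rfl⟩, by group⟩
        have hmax : MaxTwo (H.map (MulAut.conj g⁻¹).toMonoidHom) S := by
          refine ⟨⟨hTS ▸ map_mono hT.prop.1, S₀.isPGroup'⟩, fun Q hQ hle => ?_⟩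
          exact (S₀.is_maximal' hQ.2 hle).le
        have := hW₀H _ (hmapLocal g⁻¹ H hH) hmax
        intro x hx
        refine ⟨g⁻¹ * x * g, this ⟨x, hx, by simp⟩, ?_⟩
        simp [mul_assoc]
      · obtain ⟨W, hWne, hWT, hWN, hWH⟩ := hfun T hT.prop.2 hTne
        have hWp : IsPGroup 2 W := hT.prop.2.to_le hWT
        obtain ⟨T₁, hle₁, hT₁⟩ := exists_maxTwo (H := normalizer (W : Set G))
          (P.isPGroup'.to_le (inf_le_left : (P : Subgroup G) ⊓ normalizer (T : Set G) ≤ P))
          (inf_le_right.trans hWN)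
        have hlt₁ : T < T₁ := (lt_normalizer_of_lt P.isPGroup' hlt).trans_le hle₁
        have hcard : Nat.card T < Nat.card T₁ := by
          by_contra hge
          exact hlt₁.ne (Subgroup.eq_of_le_of_card_ge hlt₁.le (not_lt.1 hge))
        have hle_card : Nat.card T₁ ≤ Nat.card G := card_le_card_group T₁
        obtain ⟨g, hg⟩ := ih (Nat.card G - Nat.card T₁) (by omega) (normalizer (W : Set G))
          ⟨W, hWp, hWne, rfl⟩ T₁ hT₁
          (fun e => not_lt_bot (e ▸ hlt₁ : T < ⊥)) (by omega)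
        exact ⟨g, (hWH H hH hT).trans hg⟩
  have hlocal : ∀ H : Subgroup G, IsTwoLocal H → ∃ g : G, H ≤ M₀.map (MulAut.conj g).toMonoidHom := by
    intro H hH
    obtain ⟨U, hU, hUne, e⟩ := hH
    obtain ⟨T, hUT, hT⟩ := exists_maxTwo (H := H) hU (e ▸ le_normalizer)
    exact hcontain (Nat.card G) H ⟨U, hU, hUne, e⟩ T hT
      (fun e' => hUne (le_bot_iff.1 (e' ▸ hUT))) (Nat.le_add_left _ _)
  have hsmul : ∀ g : G, g ∈ M₀ → M₀.map (MulAut.conj g).toMonoidHom = M₀ := fun g hg =>
    mem_normalizer_iff_map_conj_eq.1 (le_normalizer hg)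
  -- `M₀` is strongly embedded
  have hM₀top : M₀ ≠ ⊤ := by
    intro e
    haveI : W₀.Normal := normalizer_eq_top_iff.1 e
    exact hW₀ne (le_bot_iff.1 (hO ▸ CfsgLib.LocalStructure.le_pCore hW₀p))
  have hTI : ∀ n, ∀ g : G, g ∉ M₀ → ∀ D : Subgroup G,
      MaxTwo (M₀ ⊓ M₀.map (MulAut.conj g).toMonoidHom) D → D ≠ ⊥ →
      Nat.card G ≤ Nat.card D + n → False := by
    intro n
    induction n using Nat.strong_induction_on with
    | _ n ih =>
      intro g hg D hD hDne hn
      obtain ⟨S₁, hDS₁, hS₁⟩ := exists_maxTwo hD.prop.2 (hD.prop.1.trans inf_le_left)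
      obtain ⟨S₂, hDS₂, hS₂⟩ := exists_maxTwo hD.prop.2 (hD.prop.1.trans inf_le_right)
      have hmaxS : MaxTwo M₀ S := ⟨⟨hSM₀, S₀.isPGroup'⟩, fun Q hQ hle => (S₀.is_maximal' hQ.2 hle).le⟩
      have hD' := hD.prop.1.trans inf_le_right
      by_cases hfull : Nat.card S ≤ Nat.card D
      · -- `D` is a Sylow subgroup of `G`
        have hDp : D.map (MulAut.conj g⁻¹).toMonoidHom ≤ M₀ := by
          rintro _ ⟨x, hx, rfl⟩
          obtain ⟨y, hy, rfl⟩ := hD' hx
          simpa [mul_assoc] using hy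
        have hmaxD : ∀ {D' : Subgroup G}, IsPGroup 2 D' → D' ≤ M₀ → Nat.card S ≤ Nat.card D' →
            MaxTwo M₀ D' := by
          intro D' h1 h2 h3
          refine ⟨⟨h2, h1⟩, fun Q hQ hle => ?_⟩
          obtain ⟨P, hQP⟩ := hQ.2.exists_le_sylow
          have : Nat.card (P : Subgroup G) = Nat.card S := by
            rw [P.card_eq_multiplicity, S₀.card_eq_multiplicity]
          have e := Subgroup.eq_of_le_of_card_ge (hle.trans hQP) (this.le.trans h3)
          exact hQP.trans e.ge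
        obtain ⟨a, ha, hSD⟩ := hmaxS.conj (hmaxD hD.prop.2 (hD.prop.1.trans inf_le_left) hfull)
        obtain ⟨c, hc, hSD'⟩ := hmaxS.conj (hmaxD (hD.prop.2.map _) hDp
          (by rwa [card_map_of_injective (MulAut.conj g⁻¹).injective]))
        have hn' : c⁻¹ * g⁻¹ * a ∈ normalizer (S : Set G) := by
          refine mem_normalizer_fintype fun x hx => ?_
          have h1 : g⁻¹ * (a * x * a⁻¹) * g ∈ D.map (MulAut.conj g⁻¹).toMonoidHom :=
            ⟨a * x * a⁻¹, hSD ▸ ⟨x, hx, rfl⟩, by simp⟩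
          rw [← hSD'] at h1
          obtain ⟨y, hy, hye⟩ := h1
          simp only [MulEquiv.toMonoidHom_eq_coe, MonoidHom.coe_coe, MulAut.conj_apply] at hye
          have : c⁻¹ * g⁻¹ * a * x * (c⁻¹ * g⁻¹ * a)⁻¹ = c⁻¹ * (g⁻¹ * (a * x * a⁻¹) * g) * c := by
            group
          rw [this, ← hye, show c⁻¹ * (c * y * c⁻¹) * c = y by group]
          exact hy
        refine hg ?_
        have := mul_mem (mul_mem hc (hW₀N hn')) (inv_mem ha)
        rw [show c * (c⁻¹ * g⁻¹ * a) * a⁻¹ = g⁻¹ by group] at this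
        exact inv_mem_iff.1 this
      · have hlt₁ : D < S₁ := by
          refine lt_of_le_of_ne hDS₁ fun e => hfull ?_
          obtain ⟨a, -, hSa⟩ := hmaxS.conj hS₁
          rw [e, ← hSa, card_map_of_injective (MulAut.conj a).injective]
        have hlt₂ : D < S₂ := by
          refine lt_of_le_of_ne hDS₂ fun e => hfull ?_
          have hS' : MaxTwo (M₀.map (MulAut.conj g).toMonoidHom)
              (S.map (MulAut.conj g).toMonoidHom) := by
            refine ⟨⟨map_mono hSM₀, S₀.isPGroup'.map _⟩, fun Q hQ hle => ?_⟩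
            obtain ⟨P, hQP⟩ := hQ.2.exists_le_sylow
            have hc : Nat.card (P : Subgroup G) = Nat.card ↥(S.map (MulAut.conj g).toMonoidHom) := by
              rw [card_map_of_injective (MulAut.conj g).injective, P.card_eq_multiplicity,
                S₀.card_eq_multiplicity]
            exact hQP.trans (Subgroup.eq_of_le_of_card_ge (hle.trans hQP) hc.le).ge
          obtain ⟨a, -, hSa⟩ := hS'.conj hS₂
          rw [e, ← hSa, card_map_of_injective (MulAut.conj a).injective,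
            card_map_of_injective (MulAut.conj g).injective]
        obtain ⟨k, hk⟩ := hlocal (normalizer (D : Set G)) ⟨D, hD.prop.2, hDne, rfl⟩
        by_cases hkM : k ∈ M₀
        · -- then `N(D) ≤ M₀` and `D` is not maximal in the intersection
          rw [hsmul k hkM] at hk
          have hlt := lt_normalizer_of_lt hS₂.prop.2 hlt₂
          exact hlt.not_ge (hD.2 ⟨le_inf (inf_le_right.trans hk) (inf_le_left.trans hS₂.prop.1),
            hS₂.prop.2.to_le inf_le_left⟩ hlt.le)
        · obtain ⟨D₁, hle₁, hD₁⟩ := exists_maxTwo (H := M₀ ⊓ M₀.map (MulAut.conj k).toMonoidHom)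
            (hS₁.prop.2.to_le (inf_le_left : S₁ ⊓ normalizer (D : Set G) ≤ S₁))
            (le_inf (inf_le_left.trans hS₁.prop.1) (inf_le_right.trans hk))
          have hlt := (lt_normalizer_of_lt hS₁.prop.2 hlt₁).trans_le hle₁
          have hcard : Nat.card D < Nat.card D₁ := by
            by_contra hge
            exact hlt.ne (Subgroup.eq_of_le_of_card_ge hlt.le (not_lt.1 hge))
          have hle_card : Nat.card D₁ ≤ Nat.card G := card_le_card_group D₁
          exact ih (Nat.card G - Nat.card D₁) (by omega) k hkM D₁ hD₁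
            (fun e => not_lt_bot (e ▸ hlt : D < ⊥)) (by omega)
  have hSE : ∀ g : G, g ∉ M₀ → Odd (Nat.card ↥(M₀ ⊓ M₀.map (MulAut.conj g).toMonoidHom)) := by
    intro g hg
    by_contra hodd
    rw [Nat.not_odd_iff_even, even_iff_two_dvd] at hodd
    obtain ⟨x, hx⟩ := exists_prime_orderOf_dvd_card'
      (G := ↥(M₀ ⊓ M₀.map (MulAut.conj g).toMonoidHom)) 2 hodd
    obtain ⟨D, hxD, hD⟩ := exists_maxTwo (H := M₀ ⊓ M₀.map (MulAut.conj g).toMonoidHom)
      (D := zpowers (x : G))
      (IsPGroup.of_card (n := 1) (by rw [Nat.card_zpowers, orderOf_coe, hx, pow_one]))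
      (zpowers_le.2 x.2)
    refine hTI (Nat.card G) g hg D hD (fun e => ?_) (Nat.le_add_left _ _)
    have : (x : G) = 1 := mem_bot.1 (e ▸ hxD (mem_zpowers _))
    rw [← orderOf_coe, this, orderOf_one] at hx
    norm_num at hx
  -- the given maximal 2-local is a conjugate of `M₀`
  obtain ⟨g, hg⟩ := hlocal M hM.1
  have hMeq := hM.2 _ (hmapLocal g M₀ hM₀loc) hg
  subst hMeq
  refine ⟨fun e => hM₀top ?_, ?_, fun x hx => ?_⟩
  · apply map_injective (f := (MulAut.conj g).toMonoidHom) (MulAut.conj g).injective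
    rw [e, map_top_of_surjective _ (MulAut.conj g).surjective]
  · rw [card_map_of_injective (MulAut.conj g).injective, even_iff_two_dvd]
    refine dvd_trans ?_ (card_dvd_of_le hSM₀)
    obtain ⟨n, hn⟩ := IsPGroup.iff_card.1 S₀.isPGroup'
    rw [hn]
    refine dvd_pow_self 2 fun e => hSne (Subgroup.card_eq_one.1 ?_)
    rw [hn, e, pow_zero]
  · have hx' : g⁻¹ * x * g ∉ M₀ := fun hm => hx ⟨_, hm, by simp [mul_assoc]⟩
    have e : M₀.map (MulAut.conj g).toMonoidHom ⊓
        (M₀.map (MulAut.conj g).toMonoidHom).map (MulAut.conj x).toMonoidHom =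
        (M₀ ⊓ M₀.map (MulAut.conj (g⁻¹ * x * g)).toMonoidHom).map (MulAut.conj g).toMonoidHom := by
      rw [map_inf _ _ _ (MulAut.conj g).injective, map_map, map_map]
      congr 2
      ext y
      simp [mul_assoc]
    rw [e, card_map_of_injective (MulAut.conj g).injective]
    exact hSE _ hx'

end CfsgLib.LocalEven48.SFreeLocals
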