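import Cfsg.Agent.LocalEven48.AsymLTools
import Cfsg.Agent.Small.BaerSuzuki

/-!
The asymmetric L-lemma.
-/

namespace CfsgLib.LocalEven48.AsymL

open Subgroup Cfsg CfsgLib.LocalStructure
open scoped commutatorElement Pointwise

variable {G : Type*} [Group G] [Finite G]

/-- The hypotheses of the asymmetric L-lemma. -/
structure Ctx (p : ℕ) [Fact p.Prime] (S : Sylow p G) (M H L : Subgroup G) : Prop where
  hG : IsOfParabolicCharacteristic p G
  hSM : (S : Subgroup G) ≤ M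
  hM : IsInFrakM p M
  hasym : ¬ IsSymmetricIn (largestPReducedOf p M)
  hH : IsInFrakH p M H
  hLH : L ≤ H
  hYL : largestPReducedOf p M ≤ L
  hYO : ¬ largestPReducedOf p M ≤ pCoreOf p L
  hmin : ∀ L' : Subgroup G, L' ≤ L → largestPReducedOf p M ≤ L' →
    ¬ largestPReducedOf p M ≤ pCoreOf p L' → L' = L

variable {p : ℕ} [Fact p.Prime] {S : Sylow p G} {M H L : Subgroup G}

local notation "𝐘" => largestPReducedOf p M
local notation "𝐐" => pCoreOf p M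
local notation "𝐀" => pCoreOf p H
local notation "𝐁" => (largestPReducedOf p M ⊓ pCoreOf p H : Subgroup _)
local notation "𝐂" => (pCoreOf p H ⊓ centralizer (SetLike.coe (largestPReducedOf p M)) : Subgroup _)

theorem yElab : IsElementaryAbelian p 𝐘 := (isReducedIn_largest M).elab'

theorem yComm : 𝐘 ≤ centralizer (𝐘 : Set G) := le_centralizer_of_isElementaryAbelian yElab

theorem conjElab (g : G) : conjS g 𝐘 ≤ centralizer (conjS g 𝐘 : Set G) := by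
  rw [centralizer_conjS]; exact conjS_mono yComm

namespace Ctx

variable (c : Ctx p S M H L)
include c

theorem wc : IsWeaklyClosedSubgroup p 𝐐 := asym_wc c.hG S c.hSM c.hM c.hasym

theorem yQ : 𝐘 ≤ 𝐐 := (isReducedIn_largest M).le_pCoreOf

theorem qY : 𝐐 ≤ Subgroup.normalizer (𝐘 : Set G) :=
  frakM_core_le_centralizer.trans (centralizer_le_normalizer _)

theorem qH : 𝐐 ≤ H := c.hH.2.1

theorem yH : 𝐘 ≤ H := c.yQ.trans c.qH

theorem aY : 𝐀 ≤ Subgroup.normalizer (𝐘 : Set G) :=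
  (frakH_core_le_normalizer c.wc c.qH).trans (frakM_normalizer_core S c.hSM c.hM)

theorem hA : H ≤ Subgroup.normalizer (𝐀 : Set G) := le_normalizer_pCoreOf H

theorem conjA {l : G} (hl : l ∈ H) : conjS l 𝐀 = 𝐀 := conj_map_eq_of_mem_normalizer (c.hA hl)

theorem aConjY {l : G} (hl : l ∈ H) : 𝐀 ≤ Subgroup.normalizer (conjS l 𝐘 : Set G) := by
  rw [normalizer_conjS, ← c.conjA hl]
  exact conjS_mono c.aY

theorem charPH : H ⊓ centralizer (𝐀 : Set G) ≤ 𝐀 :=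
  (CfsgLib.LocalStructure.charP_iff H).1 c.hH.1

theorem sup_eq : L ⊔ 𝐐 = H :=
  IsInFrakH.eq_of_le c.hH le_sup_right (sup_le c.hLH c.qH) fun h =>
    c.hYO ((le_inf h c.hYL).trans (pCoreOf_inf_le le_sup_left))

theorem conjY_le {g : G} (hg : g ∈ L) : conjS g 𝐘 ≤ L :=
  (conjS_mono c.hYL).trans (conj_map_eq_of_mem_normalizer (Subgroup.le_normalizer hg)).le

theorem le_core {X : Subgroup G} (h1 : 𝐘 ≤ X) (h2 : X < L) : 𝐘 ≤ pCoreOf p X :=
  by_contra fun h => h2.ne (c.hmin X h2.le h1 h)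

theorem gen_or_pGroup {g : G} (hg : g ∈ L) :
    𝐘 ⊔ conjS g 𝐘 = L ∨ IsPGroup p ↥(𝐘 ⊔ conjS g 𝐘) := by
  set X := 𝐘 ⊔ conjS g 𝐘 with hX
  rcases (sup_le c.hYL (c.conjY_le hg) : X ≤ L).eq_or_lt with h | h
  · exact Or.inl h
  refine Or.inr ?_
  have h1 : 𝐘 ≤ pCoreOf p X := c.le_core le_sup_left h
  have hlt : conjS g⁻¹ X < L := by
    refine lt_of_le_of_ne ((conjS_mono h.le).trans
      (conj_map_eq_of_mem_normalizer (Subgroup.le_normalizer (inv_mem hg))).le) fun e => h.ne ?_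
    have := congrArg (conjS g) e
    rwa [conjS_conjS, mul_inv_cancel, conjS_one,
      show conjS g L = L from conj_map_eq_of_mem_normalizer (Subgroup.le_normalizer hg)] at this
  have h2 := c.le_core (X := conjS g⁻¹ X) (by
    have := conjS_mono (g := g⁻¹) (le_sup_right : conjS g 𝐘 ≤ X)
    rwa [conjS_conjS, inv_mul_cancel, conjS_one] at this) hlt
  rw [pCoreOf_conjS] at h2
  have h3 := conjS_mono (g := g) h2
  rw [conjS_conjS, mul_inv_cancel, conjS_one] at h3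
  exact (pCoreOf_isPGroup X).to_le (sup_le h1 h3)

theorem exists_gen : ∃ g ∈ L, 𝐘 ⊔ conjS g 𝐘 = L := by
  by_contra hne
  have hp : ∀ g ∈ L, IsPGroup p ↥(𝐘 ⊔ conjS g 𝐘) := fun g hg =>
    (c.gen_or_pGroup hg).resolve_left fun h => hne ⟨g, hg, h⟩
  obtain ⟨N, hN, hNp, hYN⟩ := CfsgLib.Small.baerSuzuki_subgroup (p := p) (𝐘.subgroupOf L) fun g => by
    refine IsPGroup.of_equiv ((hp g g.2).to_le (?_ :
      (𝐘.subgroupOf L ⊔ MulAut.conj g • 𝐘.subgroupOf L).map L.subtype ≤ _))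
      (Subgroup.equivMapOfInjective _ L.subtype L.subtype_injective).symm
    rw [Subgroup.map_sup, map_subgroupOf_eq_of_le c.hYL]
    refine sup_le_sup le_rfl ?_
    rintro _ ⟨_, ⟨y, hy, rfl⟩, rfl⟩
    exact ⟨(y : G), hy, rfl⟩
  refine c.hYO (le_trans ?_ (map_mono (le_pCore (p := p) (hN := hN) hNp)))
  rw [← map_subgroupOf_eq_of_le c.hYL]
  exact map_mono hYN

theorem comm_mem {a y : G} (ha : a ∈ 𝐀) {l : G} (hl : l ∈ H) (hy : y ∈ conjS l 𝐘) :
    ⁅y, a⁆ ∈ conjS l 𝐁 := by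
  have hyH : y ∈ H := ((conjS_mono c.yH).trans
    (conj_map_eq_of_mem_normalizer (Subgroup.le_normalizer hl)).le) hy
  rw [conjS, map_inf _ _ _ (MulAut.conj l).injective]
  refine ⟨le_normalizer_iff_commutator_le_left.1 (c.aConjY hl) (commutator_mem_commutator hy ha), ?_⟩
  rw [show (𝐀).map (MulAut.conj l).toMonoidHom = 𝐀 from c.conjA hl]
  exact le_normalizer_iff_commutator_le_right.1 c.hA (commutator_mem_commutator hyH ha)

theorem comm_mem_one {a y : G} (ha : a ∈ 𝐀) (hy : y ∈ 𝐘) : ⁅y, a⁆ ∈ 𝐁 := by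
  simpa [conjS_one] using c.comm_mem ha (one_mem H) (by rwa [conjS_one])

theorem conjB_le {l : G} (hl : l ∈ H) : conjS l 𝐁 ≤ conjS l 𝐘 ⊓ 𝐀 :=
  le_inf (conjS_mono inf_le_left) ((conjS_mono inf_le_right).trans (c.conjA hl).le)

theorem aB : 𝐀 ≤ Subgroup.normalizer (𝐁 : Set G) :=
  le_normalizer_inf' c.aY Subgroup.le_normalizer

theorem aC : 𝐀 ≤ Subgroup.normalizer (𝐂 : Set G) :=
  le_normalizer_inf' Subgroup.le_normalizer
    (c.aY.trans (normalizer_le_normalizer_centralizer _))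

theorem qC : 𝐐 ≤ Subgroup.normalizer (𝐂 : Set G) :=
  le_normalizer_inf' (c.qH.trans c.hA) (c.qY.trans (normalizer_le_normalizer_centralizer _))

theorem qB : 𝐐 ≤ centralizer (𝐁 : Set G) :=
  frakM_core_le_centralizer.trans (centralizer_le inf_le_left)

theorem bC : 𝐁 ≤ 𝐂 :=
  le_inf inf_le_right (inf_le_left.trans yComm)

theorem qActC : 𝐐 ≤ actTriv 𝐀 𝐂 := by
  intro q hq
  refine ⟨c.qC hq, fun a ha => ⟨le_normalizer_iff_commutator_le_right.1 (c.qH.trans c.hA)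
    (commutator_mem_commutator hq ha), mem_centralizer_iff.2 fun y hy => ?_⟩⟩
  have hqc : ∀ z ∈ 𝐘, q * z = z * q := fun z hz =>
    (mem_centralizer_iff.1 (frakM_core_le_centralizer hq) z hz).symm
  have h1 : a⁻¹ * y * a ∈ 𝐘 := (mem_normalizer_iff''.1 (c.aY ha) y).1 hy
  have h2 : q⁻¹ * y * q = y := by rw [mul_assoc, ← hqc y hy, inv_mul_cancel_left]
  have h3 : q * (a⁻¹ * y * a) * q⁻¹ = a⁻¹ * y * a := by rw [hqc _ h1, mul_inv_cancel_right]
  have h4 : ⁅q, a⁆⁻¹ * y * ⁅q, a⁆ = y := by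
    calc ⁅q, a⁆⁻¹ * y * ⁅q, a⁆ = a * (q * (a⁻¹ * (q⁻¹ * y * q) * a) * q⁻¹) * a⁻¹ := by
          simp [commutatorElement_def]; group
      _ = a * (a⁻¹ * y * a) * a⁻¹ := by rw [h2, h3]
      _ = y := by group
  calc y * ⁅q, a⁆ = ⁅q, a⁆ * (⁅q, a⁆⁻¹ * y * ⁅q, a⁆) := by group
    _ = ⁅q, a⁆ * y := by rw [h4]

section Gen

variable {g : G} (hg : g ∈ L) (hgen : largestPReducedOf p M ⊔ conjS g (largestPReducedOf p M) = L)
include hg hgen

theorem comm_gen {x : G} (h1 : x ∈ centralizer (𝐘 : Set G))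
    (h2 : x ∈ centralizer (conjS g 𝐘 : Set G)) : x ∈ centralizer (L : Set G) := by
  rw [mem_centralizer_iff]
  intro l hl
  have hle : 𝐘 ⊔ conjS g 𝐘 ≤ centralizer ({x} : Set G) :=
    sup_le (fun y hy => mem_centralizer_iff.2 fun z hz => by
        rw [Set.mem_singleton_iff.1 hz]; exact (mem_centralizer_iff.1 h1 y hy).symm)
      (fun y hy => mem_centralizer_iff.2 fun z hz => by
        rw [Set.mem_singleton_iff.1 hz]; exact (mem_centralizer_iff.1 h2 y hy).symm)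
  exact (mem_centralizer_iff.1 (hle (hgen.ge hl)) x rfl).symm

theorem bgB : conjS g 𝐁 ≤ Subgroup.normalizer (𝐁 : Set G) :=
  ((c.conjB_le (c.hLH hg)).trans inf_le_right).trans c.aB

omit hgen in
theorem a2A : 𝐁 ⊔ conjS g 𝐁 ≤ 𝐀 :=
  sup_le inf_le_right ((c.conjB_le (c.hLH hg)).trans inf_le_right)

theorem lAct : L ≤ actTriv 𝐀 (𝐁 ⊔ conjS g 𝐁) := by
  refine hgen.ge.trans (sup_le (fun y hy => mem_actTriv_of_comm (c.a2A hg) fun a ha =>
    mem_sup_left (c.comm_mem_one ha hy)) fun y hy => mem_actTriv_of_comm (c.a2A hg) fun a ha =>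
    mem_sup_right (c.comm_mem ha (c.hLH hg) hy))

theorem k1 : (𝐁 ⊔ conjS g 𝐁) ⊓ centralizer (𝐘 : Set G) = 𝐁 := by
  refine le_antisymm ?_ (le_inf le_sup_left (inf_le_left.trans yComm))
  rintro x ⟨hx, hxc⟩
  obtain ⟨b', hb', b, hb, rfl⟩ := exists_mul_of_mem_sup (c.bgB hg hgen) (sup_comm 𝐁 _ ▸ hx)
  have hb'Y : b' ∈ centralizer (𝐘 : Set G) := by
    simpa using (centralizer (𝐘 : Set G)).mul_mem hxc ((centralizer (𝐘 : Set G)).inv_mem (yComm hb.1))
  have hb'L := c.comm_gen hg hgen hb'Y (conjElab g ((c.conjB_le (c.hLH hg) hb').1))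
  have hb'' : g⁻¹ * b' * g ∈ 𝐁 := mem_conjS.1 hb'
  have hcm : g * b' = b' * g := mem_centralizer_iff.1 hb'L g hg
  have e : g⁻¹ * b' * g = b' := by rw [mul_assoc, ← hcm, inv_mul_cancel_left]
  exact mul_mem (e ▸ hb'') hb

theorem k2 : 𝐂 ≤ 𝐁 ⊔ (𝐀 ⊓ centralizer (L : Set G)) := by
  rintro a ⟨ha, hac⟩
  have h := (c.lAct hg hgen hg).2 a ha
  obtain ⟨b', hb', b, hb, he⟩ := exists_mul_of_mem_sup (c.bgB hg hgen) (sup_comm 𝐁 _ ▸ h)
  have e : b * a = b'⁻¹ * (g * a * g⁻¹) := by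
    have hx : g * a * g⁻¹ = b' * b * a := by rw [he, commutatorElement_def]; group
    rw [hx]; group
  have hd : b * a ∈ 𝐀 ⊓ centralizer (L : Set G) := by
    refine ⟨mul_mem hb.2 ha, c.comm_gen hg hgen (mul_mem (yComm hb.1) hac) ?_⟩
    rw [e]
    refine mul_mem (inv_mem (conjElab g ((c.conjB_le (c.hLH hg) hb').1))) ?_
    rw [centralizer_conjS]
    exact ⟨a, hac, rfl⟩
  simpa using mul_mem (mem_sup_left (T := 𝐀 ⊓ centralizer (L : Set G)) (inv_mem hb))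
    (mem_sup_right (S := 𝐁) hd)

theorem a3N : H ≤ Subgroup.normalizer (((𝐁 ⊔ conjS g 𝐁) ⊔ 𝐂 : Subgroup G) : Set G) ∧
    H ≤ actTriv 𝐀 ((𝐁 ⊔ conjS g 𝐁) ⊔ 𝐂) := by
  have hle : H ≤ actTriv 𝐀 ((𝐁 ⊔ conjS g 𝐁) ⊔ 𝐂) := by
    have h3 : (𝐁 ⊔ conjS g 𝐁) ⊔ 𝐂 ≤ 𝐀 := sup_le (c.a2A hg) inf_le_left
    exact c.sup_eq.ge.trans (sup_le ((c.lAct hg hgen).trans (actTriv_mono h3 le_sup_left))
      (c.qActC.trans (actTriv_mono h3 le_sup_right)))
  exact ⟨fun x hx => (hle hx).1, hle⟩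

/-- The conjugates of `Y` under `L` commuting with `Y` equal `Y`. -/
theorem commuting {h : G} (hh : h ∈ L) (hc : conjS h 𝐘 ≤ centralizer (𝐘 : Set G)) :
    conjS h 𝐘 = 𝐘 := by
  have hhH := c.hLH hh
  -- `B(h) = B`
  have hB : conjS h 𝐁 = 𝐁 := by
    refine Subgroup.eq_of_le_of_card_ge ((le_inf ?_ ((c.conjB_le hhH).trans
      (inf_le_left.trans hc))).trans (c.k1 hg hgen).le)
      (card_map_of_injective (MulAut.conj h).injective).ge
    exact (conjS_mono le_sup_left).trans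
      (conj_map_eq_of_mem_normalizer (c.lAct hg hgen hh).1).le
  have hC : conjS h 𝐂 = 𝐂 := by
    refine Subgroup.eq_of_le_of_card_ge ((conjS_mono (c.k2 hg hgen)).trans ?_)
      (card_map_of_injective (MulAut.conj h).injective).ge
    rw [conjS, Subgroup.map_sup]
    refine sup_le (hB.le.trans c.bC) ?_
    rintro _ ⟨d, hd, rfl⟩
    have : h * d * h⁻¹ = d := by
      rw [mem_centralizer_iff.1 hd.2 h hh, mul_inv_cancel_right]
    show h * d * h⁻¹ ∈ 𝐂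
    rw [this]
    exact ⟨hd.1, centralizer_le (SetLike.coe_subset_coe.2 c.hYL) hd.2⟩
  have hhB : h ∈ Subgroup.normalizer (𝐁 : Set G) := mem_normalizer_of_conjS_eq hB
  have hhC : h ∈ Subgroup.normalizer (𝐂 : Set G) := mem_normalizer_of_conjS_eq hC
  have hhCB : ∀ n ∈ 𝐂, ⁅h, n⁆ ∈ 𝐁 := by
    intro n hn
    obtain ⟨d, hd, b, hb, rfl⟩ := exists_mul_of_mem_sup
      (inf_le_left.trans c.aB) (sup_comm 𝐁 _ ▸ c.k2 hg hgen hn)
    have e : ⁅h, d * b⁆ = ⁅h, d⁆ * (d * ⁅h, b⁆ * d⁻¹) := by simp [commutatorElement_def]; group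
    rw [e, commutatorElement_eq_one_iff_mul_comm.2 (mem_centralizer_iff.1 hd.2 h hh), one_mul]
    refine (mem_normalizer_iff.1 (c.aB hd.1) _).1 ?_
    exact le_normalizer_iff_commutator_le_right.1 (zpowers_le.2 hhB)
      (commutator_mem_commutator (mem_zpowers h) hb)
  have hCY : 𝐂 ≤ centralizer (𝐘 : Set G) := inf_le_right
  have hYC : 𝐘 ≤ centralizer (𝐂 : Set G) := le_centralizer_iff.1 hCY
  have hUC : conjS h 𝐘 ≤ centralizer (𝐂 : Set G) := by
    rw [← hC, centralizer_conjS]; exact conjS_mono hYC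
  -- `U = rY` for some `r` in `⟨Q, hQ⟩`
  obtain ⟨r, hr, hrQ⟩ := wc_conj_in (pCoreOf_isPGroup M) c.wc
    (le_sup_left : 𝐐 ≤ 𝐐 ⊔ conjS h 𝐐) (g := h) le_sup_right
  have hrY : conjS h 𝐘 = conjS r 𝐘 :=
    conjS_eq_conjS_iff.2 (frakM_normalizer_core S c.hSM c.hM (conjS_eq_conjS_iff.1 hrQ))
  have hrH : r ∈ H := (sup_le c.qH ((conjS_mono c.qH).trans
    (conj_map_eq_of_mem_normalizer (Subgroup.le_normalizer hhH)).le)) hr
  have hP1 : 𝐐 ⊔ conjS h 𝐐 ≤ centralizer (𝐁 : Set G) ⊓ actTriv 𝐀 𝐂 := by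
    refine sup_le (le_inf c.qB c.qActC) (le_inf ?_ ((conjS_mono c.qActC).trans ?_))
    · conv_rhs => rw [← hB, centralizer_conjS]
      exact conjS_mono c.qB
    · exact (conj_map_eq_of_mem_normalizer
        (normalizer_inf_le_normalizer_actTriv _ _ ⟨c.hA hhH, hhC⟩)).le
  -- `U ≤ Y C`
  have hUYC : conjS h 𝐘 ≤ 𝐘 ⊔ 𝐂 := by
    rw [hrY]
    rintro _ ⟨y, hy, rfl⟩
    set u := r * y * r⁻¹ with hu
    have huU : u ∈ conjS h 𝐘 := hrY ▸ ⟨y, hy, rfl⟩
    show u ∈ 𝐘 ⊔ 𝐂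
    have huA : ∀ a ∈ 𝐀, u * a * u⁻¹ = y * a * y⁻¹ := by
      intro a ha
      have hb := c.comm_mem_one ha hy
      have hrb : r * ⁅y, a⁆ * r⁻¹ = ⁅y, a⁆ := by
        rw [← mem_centralizer_iff.1 (hP1 hr).1 _ hb, mul_inv_cancel_right]
      have hd : ⁅r, a⁆ ∈ 𝐂 := (hP1 hr).2.2 a ha
      have hdu : ⁅r, a⁆ * u = u * ⁅r, a⁆ := mem_centralizer_iff.1 (hUC huU) _ hd
      have hdb : ⁅y, a⁆ * ⁅r, a⁆ = ⁅r, a⁆ * ⁅y, a⁆ :=
        mem_centralizer_iff.1 hd.2 _ hb.1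
      have h1 : u * (⁅r, a⁆ * a) * u⁻¹ = ⁅y, a⁆ * (⁅r, a⁆ * a) := by
        calc u * (⁅r, a⁆ * a) * u⁻¹ = (r * ⁅y, a⁆ * r⁻¹) * (⁅r, a⁆ * a) := by
              simp [hu, commutatorElement_def]; group
          _ = _ := by rw [hrb]
      have h2 : ⁅r, a⁆ * (u * a * u⁻¹) = ⁅r, a⁆ * (⁅y, a⁆ * a) := by
        calc ⁅r, a⁆ * (u * a * u⁻¹) = ⁅r, a⁆ * u * a * u⁻¹ := by group
          _ = u * ⁅r, a⁆ * a * u⁻¹ := by rw [hdu]
          _ = u * (⁅r, a⁆ * a) * u⁻¹ := by group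
          _ = ⁅y, a⁆ * ⁅r, a⁆ * a := by rw [h1]; group
          _ = _ := by rw [hdb]; group
      rw [mul_left_cancel h2, commutatorElement_def]; group
    have hcA : y⁻¹ * u ∈ centralizer (𝐀 : Set G) := by
      rw [mem_centralizer_iff]
      intro a ha
      calc a * (y⁻¹ * u) = y⁻¹ * (y * a * y⁻¹) * u := by group
        _ = y⁻¹ * (u * a * u⁻¹) * u := by rw [huA a ha]
        _ = _ := by group
    have hyu : y⁻¹ * u ∈ 𝐂 :=
      ⟨c.charPH ⟨H.mul_mem (H.inv_mem (c.yH hy)) (H.mul_mem (H.mul_mem hrH (c.yH hy)) (H.inv_mem hrH)), hcA⟩,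
        (centralizer (𝐘 : Set G)).mul_mem ((centralizer (𝐘 : Set G)).inv_mem (yComm hy)) (hc huU)⟩
    simpa using mul_mem (mem_sup_left (T := 𝐂) hy) (mem_sup_right (S := 𝐘) hyu)
  -- the group `P₀`
  set P := 𝐐 ⊔ zpowers h
  have hQP : 𝐐 ≤ P := le_sup_left
  have hhP : h ∈ P := mem_sup_right (mem_zpowers h)
  have hPB : P ≤ Subgroup.normalizer (𝐁 : Set G) :=
    sup_le (c.qB.trans (centralizer_le_normalizer _)) (zpowers_le.2 hhB)
  have hPC : P ≤ Subgroup.normalizer (𝐂 : Set G) := sup_le c.qC (zpowers_le.2 hhC)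
  have hPD : P ≤ Subgroup.normalizer ((𝐘 ⊔ 𝐂 : Subgroup G) : Set G) := by
    refine sup_le (le_normalizer_sup c.qY c.qC) (zpowers_le.2 (mem_normalizer_of_conjS_eq
      (Subgroup.eq_of_le_of_card_ge ?_ (card_map_of_injective (MulAut.conj h).injective).ge)))
    rw [conjS, Subgroup.map_sup]
    exact sup_le hUYC (hC.le.trans le_sup_right)
  have hDY : 𝐘 ⊔ 𝐂 ≤ centralizer (𝐘 : Set G) := sup_le yComm hCY
  have hconj : ∀ a ∈ P, conjS a 𝐘 ≤ 𝐘 ⊔ 𝐂 := fun a ha =>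
    (conjS_mono le_sup_left).trans (conj_map_eq_of_mem_normalizer (hPD ha)).le
  set s : Set G := {x | ∃ a ∈ P, x ∈ conjS a 𝐘}
  set W := closure s
  have hW : IsElementaryAbelian p W := by
    refine isElementaryAbelian_closure ?_ ?_
    · rintro x ⟨a, ha, hx⟩ z ⟨b, hb, hz⟩
      have h1 : a⁻¹ * x * a ∈ 𝐘 := mem_conjS.1 hx
      have h2 : a⁻¹ * z * a ∈ 𝐘 ⊔ 𝐂 :=
        hconj _ (mul_mem (inv_mem ha) hb) (by rw [← conjS_conjS, mem_conjS]; simpa [mul_assoc] using hz)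
      have h3 := mem_centralizer_iff.1 (hDY h2) _ h1
      calc x * z = a * ((a⁻¹ * x * a) * (a⁻¹ * z * a)) * a⁻¹ := by group
        _ = a * ((a⁻¹ * z * a) * (a⁻¹ * x * a)) * a⁻¹ := by rw [h3]
        _ = z * x := by group
    · rintro x ⟨a, _, y, hy, rfl⟩
      rw [← map_pow, yElab.2 y hy, map_one]
  have hYW : 𝐘 ≤ W := fun y hy => subset_closure ⟨1, one_mem _, by rwa [conjS_one]⟩
  have hWD : W ≤ 𝐘 ⊔ 𝐂 := (closure_le _).2 fun x ⟨a, ha, hx⟩ => hconj a ha hx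
  have hPW : P ≤ Subgroup.normalizer (W : Set G) := by
    intro a ha
    refine mem_normalizer_of_forall fun x hx => ?_
    have : conjS a W ≤ W := by
      rw [conjS, MonoidHom.map_closure, closure_le]
      rintro _ ⟨z, ⟨b, hb, hz⟩, rfl⟩
      exact subset_closure ⟨a * b, mul_mem ha hb, by rw [← conjS_conjS]; exact ⟨z, hz, rfl⟩⟩
    exact this ⟨x, hx, rfl⟩
  have hWYN : W ≤ 𝐘 ⊔ W ⊓ 𝐂 := by
    intro w hw
    obtain ⟨y, hy, n, hn, rfl⟩ := exists_mul_of_mem_sup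
      (hYC.trans (centralizer_le_normalizer _)) (hWD hw)
    exact mul_mem (mem_sup_left hy)
      (mem_sup_right ⟨by simpa using mul_mem (inv_mem (hYW hy)) hw, hn⟩)
  -- a Sylow subgroup of `P` over `Q`
  obtain ⟨T', hT'⟩ := ((pCoreOf_isPGroup (p := p) M).comap_subtype (K := P)).exists_le_sylow
  set T := (T' : Subgroup ↥P).map P.subtype
  have hQT : 𝐐 ≤ T := fun x hx => ⟨⟨x, hQP hx⟩, hT' hx, rfl⟩
  have hTY : T ≤ Subgroup.normalizer (𝐘 : Set G) :=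
    (asym_le c.hG S c.hSM c.hM c.hasym (T'.2.map _) hQT).trans frakM_le_normalizer
  have hidx : ¬ p ∣ T.relIndex P := by
    rw [relIndex, subgroupOf, comap_map_eq_self_of_injective P.subtype_injective]
    exact T'.not_dvd_index
  -- `Q` normalizes `U`
  have hUB : 𝐁 ≤ conjS h 𝐘 := hB.ge.trans (conjS_mono inf_le_left)
  have hUW : conjS h 𝐘 ≤ W := fun x hx => subset_closure ⟨h, hhP, hx⟩
  have hQU : 𝐐 ≤ Subgroup.normalizer (conjS h 𝐘 : Set G) := by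
    intro q hq
    refine mem_normalizer_of_forall fun u hu => ?_
    obtain ⟨y, hy, rfl⟩ := hu
    show q * (h * y * h⁻¹) * q⁻¹ ∈ _
    have hqy : ∀ z ∈ 𝐘, q * z = z * q := fun z hz =>
      (mem_centralizer_iff.1 (frakM_core_le_centralizer hq) z hz).symm
    obtain ⟨y₁, hy₁, f, hf, hyf⟩ := exists_mul_of_mem_sup
      (fun a ha =>
        mem_normalizer_of_forall (H := W ⊓ 𝐂) fun b hb => by
          rw [elab_comm hW (hYW ha) hb.1, mul_inv_cancel_right]; exact hb)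
      (hWYN (hUW ⟨y, hy, rfl⟩))
    replace hyf : h * y * h⁻¹ = y₁ * f := hyf.symm
    have hqf : ⁅q, f⁆ ∈ 𝐁 := averaging_conj (N := W ⊓ 𝐂) hW (inf_le_left.trans hYW) hYW
      inf_le_left (le_inf inf_le_left (inf_le_right.trans (inf_le_right.trans inf_le_left)))
      inf_le_left (le_inf (inf_le_left.trans hYW) c.bC) hWYN hPW hPB
      (le_normalizer_inf' hPW hPC) hTY hidx (hQP hq) hhP
      (fun z hz => by rw [commutatorElement_eq_one_iff_mul_comm.2 (hqy z hz)]; exact one_mem _)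
      (fun n hn => hhCB n hn.2) hy hy₁ hf hyf
    have e : q * (h * y * h⁻¹) * q⁻¹ = (y₁ * ⁅q, f⁆ * y₁⁻¹) * (h * y * h⁻¹) := by
      rw [hyf]
      calc q * (y₁ * f) * q⁻¹ = (q * y₁) * f * q⁻¹ := by group
        _ = (y₁ * q) * f * q⁻¹ := by rw [hqy y₁ hy₁]
        _ = _ := by simp [commutatorElement_def]; group
    rw [e, elab_comm yElab hy₁ hqf.1, mul_inv_cancel_right]
    exact mul_mem (hUB hqf) ⟨y, hy, rfl⟩
  have hhQU : conjS h 𝐐 ≤ Subgroup.normalizer (conjS h 𝐘 : Set G) := by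
    rw [normalizer_conjS]; exact conjS_mono c.qY
  obtain ⟨k, hk, hkQ⟩ := wc_conj_in (pCoreOf_isPGroup M) c.wc hQU hhQU
  have hkY : conjS h 𝐘 = conjS k 𝐘 :=
    conjS_eq_conjS_iff.2 (frakM_normalizer_core S c.hSM c.hM (conjS_eq_conjS_iff.1 hkQ))
  have hk2 : conjS k⁻¹ (conjS h 𝐘) = conjS h 𝐘 := conj_map_eq_of_mem_normalizer (inv_mem hk)
  rw [← hk2, hkY, conjS_conjS, inv_mul_cancel, conjS_one]

end Gen

theorem pGroup_le_normalizer {R : Subgroup G} (hR : IsPGroup p R) (hRL : R ≤ L) (hYR : 𝐘 ≤ R) :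
    R ≤ Subgroup.normalizer (𝐘 : Set G) := by
  obtain ⟨g, hg, hgen⟩ := c.exists_gen
  set N := Subgroup.normalizer (𝐘 : Set G)
  by_contra hne
  have hlt : (R ⊓ N).subgroupOf R < ⊤ := lt_top_iff_ne_top.2 fun h =>
    hne fun r hr => ((subgroupOf_eq_top.1 h) hr).2
  have : Group.IsNilpotent ↥R := hR.isNilpotent
  obtain ⟨x, hx, hxN⟩ := SetLike.exists_of_lt
    (Group.normalizerCondition_of_isNilpotent (G := ↥R) _ hlt)
  have hxn : (x : G) ∈ Subgroup.normalizer ((R ⊓ N : Subgroup G) : Set G) :=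
    mem_normalizer_of_forall fun y hy => (mem_normalizer_iff.1 hx ⟨y, hy.1⟩).1 hy
  have h1 : ∀ z ∈ Subgroup.normalizer ((R ⊓ N : Subgroup G) : Set G), conjS z 𝐘 ≤ N := fun z hz =>
    (conjS_mono (le_inf hYR Subgroup.le_normalizer)).trans
      ((conj_map_eq_of_mem_normalizer hz).le.trans inf_le_right)
  exact hxN ⟨x.2, mem_normalizer_of_conjS_eq (c.commuting hg hgen (hRL x.2)
    (asym_le_centralizer c.hasym (h1 _ hxn) (le_normalizer_conjS_of_inv (h1 _ (inv_mem hxn)))))⟩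

theorem conj_eq_of_pGroup {g : G} (hg : g ∈ L) (h : IsPGroup p ↥(𝐘 ⊔ conjS g 𝐘)) :
    conjS g 𝐘 = 𝐘 := by
  obtain ⟨g₀, hg₀, hgen⟩ := c.exists_gen
  refine c.commuting hg₀ hgen hg (asym_le_centralizer c.hasym
    (le_sup_right.trans (c.pGroup_le_normalizer h (sup_le c.hYL (c.conjY_le hg)) le_sup_left))
    (le_normalizer_conjS_of_inv (le_trans ?_ (c.pGroup_le_normalizer
      (R := conjS g⁻¹ (𝐘 ⊔ conjS g 𝐘)) (h.map _) ?_ ?_))))
  · exact conjS_mono le_sup_left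
  · exact (conjS_mono (sup_le c.hYL (c.conjY_le hg))).trans
      (conj_map_eq_of_mem_normalizer (Subgroup.le_normalizer (inv_mem hg))).le
  · have := conjS_mono (g := g⁻¹) (le_sup_right : conjS g 𝐘 ≤ 𝐘 ⊔ conjS g 𝐘)
    rwa [conjS_conjS, inv_mul_cancel, conjS_one] at this

theorem gen_of_notMem {g : G} (hg : g ∈ L) (hn : g ∉ Subgroup.normalizer (𝐘 : Set G)) :
    𝐘 ⊔ conjS g 𝐘 = L :=
  (c.gen_or_pGroup hg).resolve_right fun h =>
    hn (mem_normalizer_of_conjS_eq (c.conj_eq_of_pGroup hg h))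

theorem lt_normalizer : L ⊓ Subgroup.normalizer (𝐘 : Set G) < L := by
  obtain ⟨g, hg, hgen⟩ := c.exists_gen
  refine lt_of_le_of_ne inf_le_left fun e => c.hYO ?_
  rw [show conjS g 𝐘 = 𝐘 from conj_map_eq_of_mem_normalizer (inf_eq_left.1 e hg), sup_idem] at hgen
  exact LocalStructure.le_pCoreOf hgen.le (hgen.ge.trans Subgroup.le_normalizer)
    (isElementaryAbelian_isPGroup yElab)

theorem le_normalizer_of_lt {X : Subgroup G} (h1 : 𝐘 ≤ X) (h2 : X < L) :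
    X ≤ L ⊓ Subgroup.normalizer (𝐘 : Set G) := by
  refine fun x hx => ⟨h2.le hx, mem_normalizer_of_conjS_eq (c.conj_eq_of_pGroup (h2.le hx)
    ((pCoreOf_isPGroup X).to_le (sup_le (c.le_core h1 h2) ?_)))⟩
  exact (conjS_mono (c.le_core h1 h2)).trans
    (conj_map_eq_of_mem_normalizer (le_normalizer_pCoreOf X hx)).le

theorem ncl_eq : nclIn 𝐘 L = L := by
  obtain ⟨g, hg, hgen⟩ := c.exists_gen
  refine le_antisymm (nclIn_le _ _) (hgen.ge.trans (sup_le (le_nclIn c.hYL) ?_))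
  exact (conjS_mono (le_nclIn c.hYL)).trans
    (conj_map_eq_of_mem_normalizer (le_normalizer_nclIn _ _ hg)).le

theorem minimalOver : IsMinimalOver (𝐘.subgroupOf L) := by
  constructor
  · apply Subgroup.map_injective L.subtype_injective
    rw [← MonoidHom.range_eq_map, range_subtype]
    exact c.ncl_eq
  set N₀ := L ⊓ Subgroup.normalizer (𝐘 : Set G)
  have hle : ∀ K : Subgroup ↥L, K ≠ ⊤ → 𝐘.subgroupOf L ≤ K → K ≤ N₀.subgroupOf L := by
    intro K hK hYK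
    have h2 : K.map L.subtype < L := lt_of_le_of_ne (map_subtype_le K) fun e => hK
      (Subgroup.map_injective L.subtype_injective (by
        rw [e, ← MonoidHom.range_eq_map, range_subtype]))
    have h1 : 𝐘 ≤ K.map L.subtype := (map_subgroupOf_eq_of_le c.hYL).ge.trans (map_mono hYK)
    exact fun x hx => c.le_normalizer_of_lt h1 h2 ⟨x, hx, rfl⟩
  have hY0 : 𝐘.subgroupOf L ≤ N₀.subgroupOf L :=
    fun x hx => ⟨x.2, Subgroup.le_normalizer hx⟩
  have hN0 : N₀.subgroupOf L ≠ ⊤ := fun e =>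
    c.lt_normalizer.not_ge (subgroupOf_eq_top.1 e)
  refine ⟨N₀.subgroupOf L, ⟨⟨hN0, fun b hb => ?_⟩, hY0⟩, fun K hK => ?_⟩
  · by_contra hne
    exact hb.not_ge (hle b hne (hY0.trans hb.le))
  · exact ((hle K hK.1.1 hK.2).eq_or_lt).resolve_right fun hlt => hN0 (hK.1.2 _ hlt)

theorem charPL : centralizer (pCore p ↥L : Set ↥L) ≤ pCore p ↥L := by
  obtain ⟨g, hg, hgen⟩ := c.exists_gen
  refine (CfsgLib.LocalStructure.charP_iff L).2 (LocalStructure.le_pCoreOf inf_le_left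
    (le_normalizer_inf' Subgroup.le_normalizer ((le_normalizer_pCoreOf L).trans
      (normalizer_le_normalizer_centralizer _))) (isPGroup_of_coprime_eq_one fun x hx hco => ?_))
  have h2 : 𝐁 ⊔ conjS g 𝐁 ≤ pCoreOf p L := LocalStructure.le_pCoreOf
    (sup_le (inf_le_left.trans c.hYL) (((c.conjB_le (c.hLH hg)).trans inf_le_left).trans
      (c.conjY_le hg))) (fun l hl => (c.lAct hg hgen hl).1)
    ((pCoreOf_isPGroup H).to_le (c.a2A hg))
  refine eq_one_of_coprime_of_mem (pCoreOf_isPGroup H) (c.charPH ⟨c.hLH hx.1, ?_⟩) hco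
  exact mem_centralizer_of_stab ((pCoreOf_isPGroup L).to_le h2) hco
    (centralizer_le (SetLike.coe_subset_coe.2 h2) hx.2) (c.lAct hg hgen hx.1).2

theorem res_sup : L ≤ pResOf p L ⊔ 𝐘 := by
  have := pResidual_normal (p := p) (G := ↥L)
  have h := eq_top_of_normalClosure_of_isPGroup (isPGroup_quotient_pResidual (p := p) (G := ↥L))
    (B := pResidual p ↥L ⊔ 𝐘.subgroupOf L) le_sup_left
    (eq_top_iff.2 (c.minimalOver.1.ge.trans (normalClosure_mono (fun _ hx => mem_sup_right hx))))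
  have h' := congrArg (Subgroup.map L.subtype) h
  rw [Subgroup.map_sup, map_pResidual, map_subgroupOf_eq_of_le c.hYL, ← MonoidHom.range_eq_map,
    range_subtype] at h'
  exact h'.ge

theorem chief {V W : Subgroup G} (hV : V ≤ 𝐀) (hHV : H ≤ Subgroup.normalizer (V : Set G))
    (hHW : H ≤ Subgroup.normalizer (W : Set G)) (hWV : W < V)
    (hch : ∀ Z : Subgroup G, H ≤ Subgroup.normalizer (Z : Set G) → W ≤ Z → Z ≤ V → Z = W ∨ Z = V)
    (hnc : ¬ ⁅V, H⁆ ≤ W) : ¬ ⁅V, pResOf p L⁆ ≤ W := by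
  intro hres
  have hVH : V ≤ H := hV.trans (pCoreOf_le H)
  set K := H ⊓ actTriv V W
  have hRK : pResOf p L ≤ K := fun x hx =>
    ⟨c.hLH (pResOf_le L hx), hHW (c.hLH (pResOf_le L hx)), fun a ha => hres (by
      rw [commutator_comm]; exact commutator_mem_commutator hx ha)⟩
  have hHK : H ≤ K ⊔ 𝐐 := c.sup_eq.ge.trans (sup_le (c.res_sup.trans
    (sup_le (hRK.trans le_sup_left) (c.yQ.trans le_sup_right))) le_sup_right)
  set Z := ⁅V, 𝐐⁆ ⊔ W
  have hQV := c.qH.trans hHV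
  have hZV : Z ≤ V := sup_le (le_normalizer_iff_commutator_le_left.1 hQV) hWV.le
  have hQZ : 𝐐 ≤ actTriv V Z := fun q hq => mem_actTriv_of_comm hZV fun a ha => by
    refine mem_sup_left ?_
    rw [commutator_comm]; exact commutator_mem_commutator hq ha
  have hKZ : K ≤ actTriv V Z := inf_le_right.trans (actTriv_mono hZV le_sup_right)
  have hHZ : H ≤ actTriv V Z := hHK.trans (sup_le hKZ hQZ)
  rcases hch Z (fun x hx => (hHZ hx).1) le_sup_right hZV with e | e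
  · exact hnc ((commutator_le_of_actTriv hHZ).trans e.le)
  · exact hWV.not_ge (le_of_le_commutator_sup_of_isPGroup ((pCoreOf_isPGroup H).to_le hV)
      (pCoreOf_isPGroup M) hQV hWV.le (hVH.trans hHW) (c.qH.trans hHW) e.ge)

theorem ncl_le : nclIn (pCoreOf p L ⊓ 𝐘) L ≤ 𝐀 := by
  refine nclIn_le_of ?_ (c.hLH.trans c.hA)
  obtain ⟨g, hg, hgen⟩ := c.exists_gen
  set D := pCoreOf p L
  have hgH := c.hLH hg
  rintro b ⟨hbD, hb⟩
  have hbH : b ∈ H := c.yH hb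
  have hDY : D ≤ Subgroup.normalizer (𝐘 : Set G) :=
    le_sup_right.trans (c.pGroup_le_normalizer (isPGroup_sup (isElementaryAbelian_isPGroup yElab)
      (pCoreOf_isPGroup L) (c.hYL.trans (le_normalizer_pCoreOf L)))
      (sup_le c.hYL (pCoreOf_le L)) le_sup_left)
  have hDgY : D ≤ Subgroup.normalizer (conjS g 𝐘 : Set G) := by
    rw [normalizer_conjS]
    exact (conj_map_eq_of_mem_normalizer (le_normalizer_pCoreOf L hg)).ge.trans (conjS_mono hDY)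
  set Z := 𝐁 ⊓ conjS g 𝐁
  have hZA : Z ≤ 𝐀 := inf_le_left.trans inf_le_right
  have hZH : H ≤ centralizer (Z : Set G) := by
    refine c.sup_eq.ge.trans (sup_le (le_centralizer_iff.1 fun z hz => c.comm_gen hg hgen
      (yComm hz.1.1) (conjElab g ((c.conjB_le hgH hz.2).1))) (c.qB.trans (centralizer_le inf_le_left)))
  have hHZn : H ≤ Subgroup.normalizer (Z : Set G) := hZH.trans (centralizer_le_normalizer _)
  set A3 := (𝐁 ⊔ conjS g 𝐁) ⊔ 𝐂
  have hA3 : A3 ≤ 𝐀 := sup_le (c.a2A hg) inf_le_left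
  have hbA3 : ∀ x ∈ A3, ⁅b, x⁆ ∈ Z := by
    have hb1 : ∀ x ∈ 𝐁, ⁅b, x⁆ ∈ Z := fun x hx => by
      rw [commutatorElement_eq_one_iff_mul_comm.2 (elab_comm yElab hb hx.1)]; exact one_mem _
    have hb2 : ∀ x ∈ conjS g 𝐁, ⁅b, x⁆ ∈ Z := fun x hx => by
      have hxx := c.conjB_le hgH hx
      have h1 : ⁅b, x⁆ ∈ 𝐁 := c.comm_mem_one hxx.2 hb
      refine ⟨h1, ?_⟩
      rw [conjS, map_inf _ _ _ (MulAut.conj g).injective]
      refine ⟨le_normalizer_iff_commutator_le_right.1 hDgY (commutator_mem_commutator hbD hxx.1), ?_⟩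
      rw [show (𝐀).map (MulAut.conj g).toMonoidHom = 𝐀 from c.conjA hgH]
      exact h1.2
    have hb3 : ∀ x ∈ 𝐂, ⁅b, x⁆ ∈ Z := fun x hx => by
      rw [commutatorElement_eq_one_iff_mul_comm.2 (mem_centralizer_iff.1 hx.2 b hb)]; exact one_mem _
    have hmul : ∀ x ∈ H, ∀ z, ⁅b, x⁆ ∈ Z → ⁅b, z⁆ ∈ Z → ⁅b, x * z⁆ ∈ Z := fun x hxH z h1 h2 => by
      rw [show ⁅b, x * z⁆ = ⁅b, x⁆ * (x * ⁅b, z⁆ * x⁻¹) by simp [commutatorElement_def]; group]
      exact Z.mul_mem h1 ((mem_normalizer_iff.1 (hHZn hxH) _).1 h2)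
    intro x hx
    obtain ⟨u, hu, v, hv, rfl⟩ := exists_mul_of_mem_sup ((c.a2A hg).trans c.aC) hx
    obtain ⟨s, hs, t, ht, rfl⟩ := exists_mul_of_mem_sup (c.bgB hg hgen) (sup_comm 𝐁 _ ▸ hu)
    exact hmul _ (pCoreOf_le H (c.a2A hg hu)) _ (hmul _ (pCoreOf_le H (c.conjB_le hgH hs).2) _
      (hb2 s hs) (hb1 t ht)) (hb3 v hv)
  set K := H ⊓ actTriv A3 Z
  have hKn : H ≤ Subgroup.normalizer (K : Set G) := le_normalizer_inf' Subgroup.le_normalizer
    ((le_inf (c.a3N hg hgen).1 hHZn).trans (normalizer_inf_le_normalizer_actTriv _ _))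
  have hKp : IsPGroup p K := isPGroup_of_coprime_eq_one fun x hx hco => by
    have h1 : x ∈ centralizer (A3 : Set G) :=
      mem_centralizer_of_stab ((pCoreOf_isPGroup H).to_le hZA) hco (hZH hx.1) hx.2.2
    have h2 : x ∈ centralizer (𝐀 : Set G) :=
      mem_centralizer_of_stab ((pCoreOf_isPGroup H).to_le hA3) hco h1 ((c.a3N hg hgen).2 hx.1).2
    exact eq_one_of_coprime_of_mem (pCoreOf_isPGroup H) (c.charPH ⟨hx.1, h2⟩) hco
  exact LocalStructure.le_pCoreOf inf_le_left hKn hKp ⟨hbH, hHZn hbH, hbA3⟩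

end Ctx

end CfsgLib.LocalEven48.AsymL
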