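import Cfsg.Agent.LocalStructure.FrakH

/-!
Tools for the asymmetric L-lemma: centralizing a section, the averaging lemma.
-/

namespace CfsgLib.LocalEven48.AsymL

open Subgroup Cfsg CfsgLib.LocalStructure
open scoped commutatorElement

variable {G : Type*} [Group G]

/-- The elements of `N(Z)` centralizing `A` modulo `Z`. -/
def actTriv (A Z : Subgroup G) : Subgroup G where
  carrier := {x | x ∈ Subgroup.normalizer (Z : Set G) ∧ ∀ a ∈ A, ⁅x, a⁆ ∈ Z}
  one_mem' := ⟨one_mem _, fun a _ => by simp [Z.one_mem]⟩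
  mul_mem' := fun {u v} hu hv => ⟨mul_mem hu.1 hv.1, fun a ha => by
    have e : ⁅u * v, a⁆ = (u * ⁅v, a⁆ * u⁻¹) * ⁅u, a⁆ := by simp [commutatorElement_def]; group
    rw [e]
    exact Z.mul_mem ((mem_normalizer_iff.1 hu.1 _).1 (hv.2 a ha)) (hu.2 a ha)⟩
  inv_mem' := fun {u} hu => ⟨inv_mem hu.1, fun a ha => by
    have e : ⁅u⁻¹, a⁆ = u⁻¹ * ⁅u, a⁆⁻¹ * u := by simp [commutatorElement_def]; group
    rw [e]
    exact (mem_normalizer_iff''.1 hu.1 _).1 (Z.inv_mem (hu.2 a ha))⟩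

theorem mem_actTriv {A Z : Subgroup G} {x : G} :
    x ∈ actTriv A Z ↔ x ∈ Subgroup.normalizer (Z : Set G) ∧ ∀ a ∈ A, ⁅x, a⁆ ∈ Z := Iff.rfl

theorem normalizer_inf_le_normalizer_actTriv [Finite G] (A Z : Subgroup G) :
    Subgroup.normalizer (A : Set G) ⊓ Subgroup.normalizer (Z : Set G) ≤
      Subgroup.normalizer (actTriv A Z : Set G) := by
  intro h hh
  refine mem_normalizer_of_forall fun x hx => ⟨?_, fun a ha => ?_⟩
  · exact mul_mem (mul_mem hh.2 hx.1) (inv_mem hh.2)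
  · have e : ⁅h * x * h⁻¹, a⁆ = h * ⁅x, h⁻¹ * a * h⁆ * h⁻¹ := by
      simp [commutatorElement_def]; group
    rw [e]
    exact (mem_normalizer_iff.1 hh.2 _).1 (hx.2 _ ((mem_normalizer_iff''.1 hh.1 _).1 ha))

/-- A subgroup `Z ≤ A` is normalized by whoever centralizes `A` modulo `Z`. -/
theorem mem_normalizer_of_comm [Finite G] {A Z : Subgroup G} (hZ : Z ≤ A) {x : G}
    (h : ∀ a ∈ A, ⁅x, a⁆ ∈ Z) : x ∈ Subgroup.normalizer (Z : Set G) :=
  mem_normalizer_of_forall fun z hz => by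
    have e : x * z * x⁻¹ = ⁅x, z⁆ * z := by simp [commutatorElement_def]
    rw [e]
    exact Z.mul_mem (h z (hZ hz)) hz

theorem mem_actTriv_of_comm [Finite G] {A Z : Subgroup G} (hZ : Z ≤ A) {x : G}
    (h : ∀ a ∈ A, ⁅x, a⁆ ∈ Z) : x ∈ actTriv A Z :=
  ⟨mem_normalizer_of_comm hZ h, h⟩

theorem actTriv_mono [Finite G] {A Z Z' : Subgroup G} (hZ' : Z' ≤ A) (h : Z ≤ Z') :
    actTriv A Z ≤ actTriv A Z' :=
  fun _ hx => mem_actTriv_of_comm hZ' fun a ha => h (hx.2 a ha)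

theorem commutator_le_of_actTriv {A Z K : Subgroup G} (h : K ≤ actTriv A Z) : ⁅A, K⁆ ≤ Z := by
  rw [commutator_comm]
  exact commutator_le.2 fun k hk a ha => (h hk).2 a ha

/-- In a finite nilpotent group, a subgroup `V` with `V ≤ [V, ⊤] W` for normal `W` lies in `W`. -/
theorem le_of_le_commutator_sup {P : Type*} [Group P] [Group.IsNilpotent P] {V W : Subgroup P}
    [hW : W.Normal] (h : V ≤ ⁅V, (⊤ : Subgroup P)⁆ ⊔ W) : V ≤ W := by
  have key : ∀ n, V ≤ (⊤ : Subgroup P).lowerCentralSeries n ⊔ W := by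
    intro n
    induction n with
    | zero => simp
    | succ n ih =>
      refine h.trans (sup_le ?_ le_sup_right)
      refine commutator_le.2 fun v hv y _ => ?_
      obtain ⟨a, ha, w, hw, rfl⟩ := mem_sup_of_normal_right.1 (ih hv)
      have e : ⁅a * w, y⁆ = (a * ⁅w, y⁆ * a⁻¹) * ⁅a, y⁆ := by simp [commutatorElement_def]; group
      rw [e]
      refine mul_mem (mem_sup_right (hW.conj_mem _ ?_ a)) (mem_sup_left ?_)
      · have e2 : ⁅w, y⁆ = w * (y * w⁻¹ * y⁻¹) := by simp [commutatorElement_def]; group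
        rw [e2]
        exact W.mul_mem hw (hW.conj_mem _ (W.inv_mem hw) y)
      · rw [Subgroup.lowerCentralSeries_succ]
        exact commutator_mem_commutator ha (mem_top y)
  obtain ⟨n, hn⟩ := Subgroup.nilpotent_iff_lowerCentralSeries.1 (inferInstance : Group.IsNilpotent P)
  simpa [hn] using key n

/-- For a `p`-group `Q` normalizing the `p`-group `V` and `W ≤ V`, `[V, Q] W` is proper in `V`
unless `V ≤ W`. -/
theorem le_of_le_commutator_sup_of_isPGroup [Finite G] {p : ℕ} [Fact p.Prime] {V W Q : Subgroup G}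
    (hV : IsPGroup p V) (hQ : IsPGroup p Q) (hQV : Q ≤ Subgroup.normalizer (V : Set G))
    (hWV : W ≤ V) (hVW : V ≤ Subgroup.normalizer (W : Set G))
    (hQW : Q ≤ Subgroup.normalizer (W : Set G)) (h : V ≤ ⁅V, Q⁆ ⊔ W) : V ≤ W := by
  set P := Q ⊔ V
  have hP : IsPGroup p P := isPGroup_sup hQ hV hQV
  have : Group.IsNilpotent ↥P := hP.isNilpotent
  have hWP : W ≤ P := hWV.trans le_sup_right
  have : (W.subgroupOf P).Normal := normal_subgroupOf_of_le_normalizer (sup_le hQW hVW)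
  have hVP : V ≤ P := le_sup_right
  have h' : V.subgroupOf P ≤ ⁅V.subgroupOf P, (⊤ : Subgroup ↥P)⁆ ⊔ W.subgroupOf P := by
    rw [← map_le_map_iff_of_injective P.subtype_injective, Subgroup.map_sup, map_commutator,
      map_subgroupOf_eq_of_le hVP, map_subgroupOf_eq_of_le hWP, ← MonoidHom.range_eq_map,
      range_subtype]
    exact h.trans (sup_le_sup (commutator_mono le_rfl le_sup_left) le_rfl)
  have := map_mono (f := P.subtype) (le_of_le_commutator_sup h')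
  rwa [map_subgroupOf_eq_of_le hVP, map_subgroupOf_eq_of_le hWP] at this

section Averaging

variable {K V : Type*} [Group K] [Finite K] [CommGroup V]

/-- Averaging: a projection equivariant for `T` averaged over `K / T`. -/
theorem averaging {p : ℕ} [Fact p.Prime] (act : K → V →* V) (hone : ∀ v, act 1 v = v)
    (hmul : ∀ a b v, act (a * b) v = act a (act b v)) (hexp : ∀ v : V, v ^ p = 1)
    {Y N : Subgroup V} (hdis : ∀ v ∈ Y, v ∈ N → v = 1) (hgen : ∀ v, ∃ y ∈ Y, ∃ n ∈ N, v = y * n)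
    (hN : ∀ k, ∀ n ∈ N, act k n ∈ N) {T : Subgroup K} (hT : ∀ t ∈ T, ∀ y ∈ Y, act t y ∈ Y)
    (hidx : ¬ p ∣ T.index) {q h : K} (hq : ∀ y ∈ Y, act q y = y) (hh : ∀ n ∈ N, act h n = n)
    {y y₁ f : V} (hy : y ∈ Y) (hy₁ : y₁ ∈ Y) (hf : f ∈ N) (he : act h y = y₁ * f) :
    act q f = f := by
  classical
  letI := Fintype.ofFinite (K ⧸ T)
  choose a ha b hb hab using hgen
  have uniq : ∀ v, ∀ y ∈ Y, ∀ n ∈ N, v = y * n → b v = n := by
    intro v y hy n hn he
    have h1 : b v * n⁻¹ = (a v)⁻¹ * y := by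
      rw [mul_inv_eq_iff_eq_mul, mul_assoc, ← he, eq_inv_mul_iff_mul_eq, ← hab v]
    exact mul_inv_eq_one.1 (hdis _ (h1 ▸ Y.mul_mem (Y.inv_mem (ha v)) hy)
      (N.mul_mem (hb v) (N.inv_mem hn)))
  let π : V →* V := MonoidHom.mk' b fun u v => uniq _ _ (Y.mul_mem (ha u) (ha v)) _
    (N.mul_mem (hb u) (hb v)) (by rw [mul_mul_mul_comm, ← hab, ← hab])
  have hπN : ∀ n ∈ N, π n = n := fun n hn => uniq n 1 Y.one_mem n hn (one_mul n).symm
  have hπT : ∀ t ∈ T, ∀ v, π (act t v) = act t (π v) := fun t ht v =>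
    uniq _ _ (hT t ht _ (ha v)) _ (hN t _ (hb v)) (by rw [← map_mul]; exact congrArg (act t) (hab v))
  let term : K → V → V := fun g v => act g (π (act g⁻¹ v))
  have hterm : ∀ g, ∀ t ∈ T, ∀ v, term (g * t) v = term g v := by
    intro g t ht v
    show act (g * t) (π (act (g * t)⁻¹ v)) = act g (π (act g⁻¹ v))
    rw [mul_inv_rev, hmul t⁻¹ g⁻¹, hπT _ (T.inv_mem ht), ← hmul, mul_inv_cancel_right]
  have hout : ∀ (g : K) v, term (QuotientGroup.mk g : K ⧸ T).out v = term g v := fun g v => by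
    obtain ⟨t, ht⟩ := QuotientGroup.mk_out_eq_mul T g
    rw [ht, hterm g t t.2]
  let av : V →* V := MonoidHom.mk' (fun v => ∏ x : K ⧸ T, term x.out v) fun u v => by
    rw [← Finset.prod_mul_distrib]
    exact Finset.prod_congr rfl fun x _ => by simp [term]
  have heq : ∀ k v, av (act k v) = act k (av v) := by
    intro k v
    show (∏ x : K ⧸ T, term x.out (act k v)) = act k (∏ x : K ⧸ T, term x.out v)
    rw [map_prod]
    refine Fintype.prod_equiv (MulAction.toPerm (k⁻¹ : K)) _ _ fun x => ?_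
    induction x using QuotientGroup.induction_on with
    | H g =>
      rw [hout]
      have e : (MulAction.toPerm (k⁻¹ : K)) (g : K ⧸ T) = ((k⁻¹ * g : K) : K ⧸ T) := rfl
      rw [e, hout]
      show act g (π (act g⁻¹ (act k v))) = act k (act (k⁻¹ * g) (π (act (k⁻¹ * g)⁻¹ v)))
      rw [← hmul, ← hmul, mul_inv_cancel_left, mul_inv_rev, inv_inv]
  have havN : ∀ n ∈ N, av n = n ^ T.index := by
    intro n hn
    show (∏ x : K ⧸ T, act x.out (π (act x.out⁻¹ n))) = _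
    rw [Finset.prod_congr rfl (g := fun _ => n) fun x _ => ?_, Finset.prod_const, Finset.card_univ,
      ← Nat.card_eq_fintype_card, ← Subgroup.index_eq_card]
    rw [hπN _ (hN _ n hn), ← hmul, mul_inv_cancel, hone]
  have havmem : ∀ v, av v ∈ N := fun v => Subgroup.prod_mem _ fun x _ => hN _ _ (hb _)
  have hq1 : ∀ w ∈ Y, act q (av w) = av w := fun w hw => by rw [← heq, hq w hw]
  have h3 : av y = av y₁ * f ^ T.index := by
    rw [← havN f hf, ← map_mul, ← he, heq, hh _ (havmem y)]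
  have h4 : act q f ^ T.index = f ^ T.index := by
    have := congrArg (act q) h3
    rw [map_mul, map_pow, hq1 y hy, hq1 y₁ hy₁] at this
    exact mul_left_cancel (this.symm.trans h3)
  have hcop : ∀ v : V, T.index.Coprime (orderOf v) := fun v => (Nat.Coprime.of_dvd_left
    (orderOf_dvd_of_pow_eq_one (hexp v)) ((Nat.Prime.coprime_iff_not_dvd Fact.out).2 hidx)).symm
  obtain ⟨m, hm⟩ := exists_pow_eq_self_of_coprime (hcop (act q f * f⁻¹))
  rw [mul_pow, inv_pow, h4, mul_inv_cancel, one_pow] at hm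
  exact mul_inv_eq_one.1 hm.symm

end Averaging

/-- The averaging lemma inside a finite group: conclusion `[q, f] ∈ B`. -/
theorem averaging_conj [Finite G] {p : ℕ} [Fact p.Prime] {W B Y N P T : Subgroup G}
    (hW : IsElementaryAbelian p W) (hBW : B ≤ W) (hYW : Y ≤ W) (hNW : N ≤ W)
    (hdis : Y ⊓ N ≤ B) (hBY : B ≤ Y) (hBN : B ≤ N) (hWYN : W ≤ Y ⊔ N)
    (hPW : P ≤ Subgroup.normalizer (W : Set G)) (hPB : P ≤ Subgroup.normalizer (B : Set G))
    (hPN : P ≤ Subgroup.normalizer (N : Set G))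
    (hTY : T ≤ Subgroup.normalizer (Y : Set G)) (hidx : ¬ p ∣ T.relIndex P)
    {q h : G} (hqP : q ∈ P) (hhP : h ∈ P) (hq : ∀ y ∈ Y, ⁅q, y⁆ ∈ B) (hh : ∀ n ∈ N, ⁅h, n⁆ ∈ B)
    {y y₁ f : G} (hy : y ∈ Y) (hy₁ : y₁ ∈ Y) (hf : f ∈ N) (he : h * y * h⁻¹ = y₁ * f) :
    ⁅q, f⁆ ∈ B := by
  letI : CommGroup ↥W := { (inferInstance : Group ↥W) with
    mul_comm := fun a b => Subtype.ext (elab_comm hW a.2 b.2) }
  let B' : Subgroup ↥W := B.subgroupOf W
  let c : ↥P → (↥W →* ↥W) := fun k => MonoidHom.mk'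
    (fun v => (⟨k * v * (k : G)⁻¹, (mem_normalizer_iff.1 (hPW k.2) v).1 v.2⟩ : ↥W))
    fun a b => Subtype.ext (show (k : G) * ((a : G) * b) * (k : G)⁻¹ =
      ((k : G) * a * (k : G)⁻¹) * ((k : G) * b * (k : G)⁻¹) by group)
  have hcB : ∀ k : ↥P, B' ≤ B'.comap (c k) := fun k v hv =>
    (mem_normalizer_iff.1 (hPB k.2) (v : G)).1 hv
  let act : ↥P → (↥W ⧸ B' →* ↥W ⧸ B') := fun k => QuotientGroup.map B' B' (c k) (hcB k)
  let mk := QuotientGroup.mk' B'
  have hact : ∀ k v, act k (mk v) = mk (c k v) := fun _ _ => rfl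
  have hmk1 : ∀ v : ↥W, mk v = 1 ↔ (v : G) ∈ B := fun v => QuotientGroup.eq_one_iff v
  have hsurj := QuotientGroup.mk'_surjective B'
  have hmem : ∀ {X : Subgroup G} {v : ↥W}, (v : G) ∈ X → mk v ∈ (X.subgroupOf W).map mk :=
    fun {X v} hv => ⟨v, hv, rfl⟩
  have hfix : ∀ (k : ↥P) (v : ↥W), ⁅(k : G), (v : G)⁆ ∈ B → act k (mk v) = mk v := fun k v hv => by
    rw [hact, ← mul_inv_eq_one, ← map_inv, ← map_mul, hmk1]
    exact hv
  have hr := averaging (p := p) act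
    (fun v => by
      obtain ⟨v, rfl⟩ := hsurj v
      exact hfix 1 v (by simp [B.one_mem]))
    (fun a b v => by
      obtain ⟨v, rfl⟩ := hsurj v
      rw [hact, hact, hact]
      exact congrArg mk (Subtype.ext (show ((a : G) * b) * v * ((a : G) * b)⁻¹ =
        a * (b * v * (b : G)⁻¹) * (a : G)⁻¹ by group)))
    (fun v => by
      obtain ⟨v, rfl⟩ := hsurj v
      rw [← map_pow, show v ^ p = 1 from Subtype.ext (by simpa using hW.2 v v.2), map_one])
    (Y := (Y.subgroupOf W).map mk) (N := (N.subgroupOf W).map mk)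
    (by
      rintro _ ⟨v, hv, rfl⟩ ⟨w, hw, hwv⟩
      have : (w : G)⁻¹ * v ∈ B := (QuotientGroup.eq (s := B')).1 hwv
      refine (hmk1 v).2 (hdis ⟨hv, ?_⟩)
      simpa using N.mul_mem hw (hBN this))
    (fun v => by
      obtain ⟨v, rfl⟩ := hsurj v
      obtain ⟨a, ha, b, hb, hab⟩ := exists_mul_of_mem_sup (fun a ha =>
        mem_normalizer_of_forall fun b hb => by
          rw [elab_comm hW (hYW ha) (hNW hb), mul_inv_cancel_right]; exact hb) (hWYN v.2)
      exact ⟨mk ⟨a, hYW ha⟩, hmem ha, mk ⟨b, hNW hb⟩, hmem hb,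
        congrArg mk (Subtype.ext hab.symm)⟩)
    (fun k _ => by
      rintro ⟨v, hv, rfl⟩
      exact hmem (v := c k v) ((mem_normalizer_iff.1 (hPN k.2) (v : G)).1 hv))
    (T := T.subgroupOf P)
    (fun t ht _ => by
      rintro ⟨v, hv, rfl⟩
      exact hmem (v := c t v) ((mem_normalizer_iff.1 (hTY ht) (v : G)).1 hv))
    hidx (q := ⟨q, hqP⟩) (h := ⟨h, hhP⟩)
    (by rintro _ ⟨v, hv, rfl⟩; exact hfix _ v (hq v hv))
    (by rintro _ ⟨v, hv, rfl⟩; exact hfix _ v (hh v hv))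
    (y := mk ⟨y, hYW hy⟩) (y₁ := mk ⟨y₁, hYW hy₁⟩) (f := mk ⟨f, hNW hf⟩)
    (hmem hy) (hmem hy₁) (hmem hf) (congrArg mk (Subtype.ext he))
  rw [hact, ← mul_inv_eq_one, ← map_inv, ← map_mul, hmk1] at hr
  exact hr

end CfsgLib.LocalEven48.AsymL
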