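import Cfsg.Agent.LocalEven48.Basic
import Mathlib

/-!
# Extensions of a dihedral group of order `2r` by a two-group without fixed points of `R`
-/

set_option autoImplicit false

open Subgroup
open scoped Pointwise

namespace CfsgLib.LocalEven48

section Dihedral

variable {r : ℕ} [hr : Fact r.Prime]

theorem two_ne_zero_zmod (h2 : r ≠ 2) : (2 : ZMod r) ≠ 0 := fun h => h2
  ((Nat.prime_dvd_prime_iff_eq hr.out Nat.prime_two).1
    ((ZMod.natCast_eq_zero_iff 2 r).1 (by exact_mod_cast h)))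

theorem dihedral_exists_sr (h2 : r ≠ 2) {x : DihedralGroup r} (hx : orderOf x = 2) :
    ∃ i, x = DihedralGroup.sr i := by
  rcases x with i | i
  · exfalso
    have h := pow_orderOf_eq_one (DihedralGroup.r i)
    rw [hx, pow_two, DihedralGroup.r_mul_r, ← DihedralGroup.r_zero, DihedralGroup.r.injEq] at h
    have hi : i = 0 := by
      have : (2 : ZMod r) * i = 0 := by rw [two_mul]; exact h
      exact (mul_eq_zero.mp this).resolve_left (two_ne_zero_zmod h2)
    rw [hi, DihedralGroup.r_zero, orderOf_one] at hx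
    exact absurd hx (by norm_num)
  · exact ⟨i, rfl⟩

theorem dihedral_conj (h2 : r ≠ 2) {x y : DihedralGroup r} (hx : orderOf x = 2)
    (hy : orderOf y = 2) : ∃ g, g * x * g⁻¹ = y := by
  obtain ⟨i, rfl⟩ := dihedral_exists_sr h2 hx
  obtain ⟨j, rfl⟩ := dihedral_exists_sr h2 hy
  refine ⟨DihedralGroup.r ((i - j) / 2), ?_⟩
  rw [mul_inv_eq_iff_eq_mul, DihedralGroup.r_mul_sr, DihedralGroup.sr_mul_r]
  congr 1
  have h := two_ne_zero_zmod (r := r) h2
  field_simp
  ring

theorem dihedral_orderOf_mul (h2 : r ≠ 2) {x y : DihedralGroup r} (hx : orderOf x = 2)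
    (hy : orderOf y = 2) (hxy : x ≠ y) : orderOf (x * y) = r := by
  obtain ⟨i, rfl⟩ := dihedral_exists_sr h2 hx
  obtain ⟨j, rfl⟩ := dihedral_exists_sr h2 hy
  rw [DihedralGroup.sr_mul_sr]
  refine orderOf_eq_prime ?_ ?_
  · haveI : NeZero r := ⟨hr.out.ne_zero⟩
    rw [← orderOf_dvd_iff_pow_eq_one, DihedralGroup.orderOf_r]
    exact Nat.div_dvd_of_dvd (Nat.gcd_dvd_left r _)
  · rw [← DihedralGroup.r_zero, ne_eq, DihedralGroup.r.injEq, sub_eq_zero]
    exact fun h => hxy (by rw [h])

theorem dihedral_distinct_involution (h2 : r ≠ 2) {x : DihedralGroup r} (hx : orderOf x = 2) :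
    ∃ y, orderOf y = 2 ∧ y ≠ x := by
  obtain ⟨i, rfl⟩ := dihedral_exists_sr h2 hx
  refine ⟨DihedralGroup.sr (i + 1), DihedralGroup.orderOf_sr _, ?_⟩
  rw [ne_eq, DihedralGroup.sr.injEq]
  exact fun h => one_ne_zero (add_eq_left.mp h)

end Dihedral

theorem dihedral_extension {G : Type*} [Group G] [Finite G] {r : ℕ} [hr : Fact r.Prime]
    (h2 : r ≠ 2) (Q : Subgroup G) [Q.Normal] (hQ2 : IsPGroup 2 Q)
    (e : G ⧸ Q ≃* DihedralGroup r) (R : Sylow r G)
    (hC : Q ⊓ centralizer ((R : Subgroup G) : Set G) = ⊥) :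
    Nonempty (↥(normalizer ((R : Subgroup G) : Set G)) ≃* DihedralGroup r) ∧
      ∀ a : G, a ∈ normalizer ((R : Subgroup G) : Set G) → orderOf a = 2 →
        (∀ b : G, orderOf b = 2 → b ∉ Q → ∃ g : G, g * a * g⁻¹ = b) ∧
          Nat.card ↥(Q ⊓ centralizer ({a} : Set G)) ^ 2 = Nat.card Q := by
  haveI : Fact (Nat.Prime 2) := ⟨Nat.prime_two⟩
  set φ : G →* DihedralGroup r := e.toMonoidHom.comp (QuotientGroup.mk' Q) with hφ
  have hker : ∀ x, φ x = 1 ↔ x ∈ Q := fun x => by
    show e (QuotientGroup.mk x) = 1 ↔ _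
    rw [MulEquiv.map_eq_one_iff, QuotientGroup.eq_one_iff]
  have hsurj : Function.Surjective φ := e.surjective.comp (QuotientGroup.mk'_surjective Q)
  have hQr : ¬ r ∣ Nat.card Q := fun h => by
    obtain ⟨k, hk⟩ := IsPGroup.iff_card.mp hQ2
    rw [hk] at h
    exact h2 ((Nat.prime_dvd_prime_iff_eq hr.out Nat.prime_two).1 (hr.out.dvd_of_dvd_pow h))
  have hG : Nat.card G = r * (2 * Nat.card Q) := by
    rw [Subgroup.card_eq_card_quotient_mul_card_subgroup Q, Nat.card_congr e.toEquiv,
      DihedralGroup.nat_card]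
    ring
  have hcardR : Nat.card R = r := by
    rw [R.card_eq_multiplicity, hG]
    have hq : Nat.card Q ≠ 0 := Nat.card_pos.ne'
    have hnd : ¬ r ∣ 2 * Nat.card Q := fun h =>
      (hr.out.dvd_mul.mp h).elim
        (fun h' => h2 ((Nat.prime_dvd_prime_iff_eq hr.out Nat.prime_two).1 h')) hQr
    rw [Nat.factorization_mul hr.out.ne_zero (by positivity), Finsupp.add_apply,
      Nat.Prime.factorization_self hr.out, Nat.factorization_eq_zero_of_not_dvd hnd, add_zero,
      pow_one]
  set N := normalizer ((R : Subgroup G) : Set G) with hN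
  have hRQ : ∀ x ∈ (R : Subgroup G), x ∈ Q → x = 1 := fun x hxR hxQ => by
    have h1 := orderOf_dvd_natCard (R : Subgroup G) hxR
    have h2' := orderOf_dvd_natCard Q hxQ
    rw [hcardR] at h1
    rcases (Nat.dvd_prime hr.out).mp h1 with h | h
    · exact orderOf_eq_one_iff.mp h
    · exact absurd (h ▸ h2') hQr
  have hNQ : ∀ x ∈ N, x ∈ Q → x = 1 := by
    intro x hxN hxQ
    have hx : x ∈ Q ⊓ centralizer ((R : Subgroup G) : Set G) := by
      refine ⟨hxQ, mem_centralizer_iff.mpr fun y hy => ?_⟩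
      have hc : x * y * x⁻¹ * y⁻¹ = 1 := by
        refine hRQ _ (mul_mem ((mem_normalizer_iff.mp hxN y).mp hy) (inv_mem hy)) ?_
        have := Q.mul_mem hxQ (Normal.conj_mem inferInstance x⁻¹ (inv_mem hxQ) y)
        simpa [mul_assoc] using this
      rw [mul_inv_eq_one, mul_inv_eq_iff_eq_mul] at hc
      exact hc.symm
    rw [hC] at hx
    exact mem_bot.mp hx
  -- elements whose image has order `r`
  have hC' : ∀ y : G, orderOf y = r → ∀ q ∈ Q, q * y = y * q → q = 1 := by
    intro y hy q hq hqy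
    have hz : IsPGroup r (zpowers y) :=
      IsPGroup.of_card (n := 1) (by rw [Nat.card_zpowers, hy, pow_one])
    obtain ⟨S, hS⟩ := hz.exists_le_sylow
    obtain ⟨g, hg⟩ := MulAction.exists_smul_eq G S R
    have hS' : Nat.card S = r := by
      rw [Nat.card_congr (Sylow.equiv S R).toEquiv, hcardR]
    have hSy : (S : Subgroup G) = zpowers y :=
      (eq_of_le_of_card_ge hS (by rw [Nat.card_zpowers, hy]; exact hS'.le)).symm
    have : g * q * g⁻¹ ∈ Q ⊓ centralizer ((R : Subgroup G) : Set G) := by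
      refine ⟨Normal.conj_mem inferInstance q hq g, mem_centralizer_iff.mpr ?_⟩
      intro x hx
      rw [← hg, Sylow.smul_def] at hx
      obtain ⟨s, hs, rfl⟩ := hx
      have hs' : s ∈ zpowers y := hSy ▸ hs
      obtain ⟨i, rfl⟩ := mem_zpowers_iff.mp hs'
      have hc : q * y ^ i = y ^ i * q := (show Commute q y from hqy).zpow_right i
      show g * y ^ i * g⁻¹ * (g * q * g⁻¹) = g * q * g⁻¹ * (g * y ^ i * g⁻¹)
      calc g * y ^ i * g⁻¹ * (g * q * g⁻¹) = g * (y ^ i * q) * g⁻¹ := by group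
        _ = g * (q * y ^ i) * g⁻¹ := by rw [hc]
        _ = _ := by group
    rw [hC, mem_bot, conj_eq_one_iff] at this
    exact this
  have hlift : ∀ x : G, orderOf (φ x) = r →
      orderOf x = r := by
    intro x hx

    have hdvd : r ∣ orderOf x := hx ▸ orderOf_map_dvd φ x
    have hxr : x ^ r ∈ Q := (hker _).mp (by
      rw [map_pow]
      have := pow_orderOf_eq_one (φ x)
      rwa [hx] at this)
    set y := x ^ (orderOf x / r)
    have hy : orderOf y = r := orderOf_pow_orderOf_div (orderOf_pos x).ne' hdvd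
    have h1 : x ^ r = 1 := hC' y hy _ hxr (Commute.pow_pow_self x r _).eq
    exact orderOf_eq_prime h1 fun h => by
      rw [h, map_one, orderOf_one] at hx
      exact hr.out.ne_one hx.symm
  have hNsurj : ∀ d : DihedralGroup r, ∃ n ∈ N, φ n = d := by
    intro d
    obtain ⟨g, rfl⟩ := hsurj d
    -- Frattini argument in `R ⊔ Q`
    set M := (R : Subgroup G) ⊔ Q with hM
    have hmap : M = (R.1.map φ).comap φ := by
      rw [comap_map_eq, hM]
      congr 1
      ext x
      rw [MonoidHom.mem_ker, hker]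
    have hgR : MulAut.conj g • (R : Subgroup G) ≤ M := by
      rintro _ ⟨x, hx, rfl⟩
      rw [hmap, mem_comap]
      show φ (g * x * g⁻¹) ∈ _
      -- the image of `R` is normal
      have hxr : x ^ r = 1 := by
        have := orderOf_dvd_natCard (R : Subgroup G) hx
        rw [hcardR] at this
        exact orderOf_dvd_iff_pow_eq_one.mp this
      have hrot : ∀ z : DihedralGroup r, z ^ r = 1 → ∃ i, z = DihedralGroup.r i := by
        rintro (i | i) hz
        · exact ⟨i, rfl⟩
        · have := orderOf_dvd_of_pow_eq_one hz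
          rw [DihedralGroup.orderOf_sr] at this
          exact absurd ((Nat.prime_dvd_prime_iff_eq Nat.prime_two hr.out).1 this).symm h2
      obtain ⟨i, hi⟩ := hrot (φ (g * x * g⁻¹)) (by rw [← map_pow, conj_pow, hxr]; simp)
      rw [hi]
      -- `φ R` contains a generator
      haveI : Nontrivial R := Finite.one_lt_card_iff_nontrivial.mp
        (by rw [hcardR]; exact hr.out.one_lt)
      obtain ⟨⟨t, ht⟩, ht1⟩ := exists_ne (1 : R)
      have htr : t ^ r = 1 := by
        have := orderOf_dvd_natCard (R : Subgroup G) ht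
        rw [hcardR] at this
        exact orderOf_dvd_iff_pow_eq_one.mp this
      obtain ⟨j, hj⟩ := hrot (φ t) (by rw [← map_pow, htr, map_one])
      have hj0 : j ≠ 0 := by
        rintro rfl
        rw [DihedralGroup.r_zero, hker] at hj
        exact ht1 (Subtype.ext (hRQ t ht hj))
      haveI : NeZero r := ⟨hr.out.ne_zero⟩
      refine mem_map.mpr ⟨t ^ (i / j).val, pow_mem ht _, ?_⟩
      rw [map_pow, hj, DihedralGroup.r_pow, ZMod.natCast_zmod_val, mul_div_cancel₀ _ hj0]
    have hRM : (R : Subgroup G) ≤ M := le_sup_left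
    let R' : Sylow r G := g • R
    have hR'M : (R' : Subgroup G) ≤ M := hgR
    obtain ⟨m, hm⟩ := MulAction.exists_smul_eq M (R'.subtype hR'M) (R.subtype hRM)
    have hmg : (m : G) * g ∈ N := by
      have h1 : ∀ x ∈ (R : Subgroup G), (m : G) * g * x * ((m : G) * g)⁻¹ ∈ (R : Subgroup G) := by
        intro x hx
        have hx' : g * x * g⁻¹ ∈ M := hgR ⟨x, hx, rfl⟩
        have h3 : (⟨g * x * g⁻¹, hx'⟩ : M) ∈ (R'.subtype hR'M : Subgroup M) := ⟨x, hx, rfl⟩
        have h4 : m * ⟨g * x * g⁻¹, hx'⟩ * m⁻¹ ∈ (R.subtype hRM : Subgroup M) := by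
          rw [← hm, Sylow.smul_def]
          exact ⟨_, h3, rfl⟩
        have h5 : (m : G) * (g * x * g⁻¹) * (m : G)⁻¹ ∈ (R : Subgroup G) := h4
        rw [show (m : G) * g * x * ((m : G) * g)⁻¹ = (m : G) * (g * x * g⁻¹) * (m : G)⁻¹ by group]
        exact h5
      rw [hN]
      refine mem_normalizer_iff_map_conj_eq.mpr (eq_of_le_of_card_ge ?_
        (card_map_of_injective (MulAut.conj _).injective).ge)
      rintro _ ⟨x, hx, rfl⟩
      exact h1 x hx
    have hmM : φ (m : G) ∈ R.1.map φ := by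
      have h6 : (m : G) ∈ (R.1.map φ).comap φ := hmap ▸ m.2
      exact h6
    obtain ⟨u, hu, hum⟩ := mem_map.mp hmM
    refine ⟨u⁻¹ * ((m : G) * g), mul_mem (inv_mem (le_normalizer hu)) hmg, ?_⟩
    rw [map_mul, map_inv, map_mul, hum, inv_mul_cancel_left]
  have hNinj : ∀ x ∈ N, ∀ y ∈ N, φ x = φ y → x = y := by
    intro x hx y hy hxy
    have : x⁻¹ * y = 1 := hNQ _ (mul_mem (inv_mem hx) hy)
      ((hker _).mp (by rw [map_mul, map_inv, hxy, inv_mul_cancel]))
    exact inv_mul_eq_one.mp this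
  refine ⟨⟨MulEquiv.ofBijective (φ.comp N.subtype) ⟨fun x y h => Subtype.ext
    (hNinj _ x.2 _ y.2 h), fun d => ?_⟩⟩, fun a ha ha2 => ?_⟩
  · obtain ⟨n, hn, h⟩ := hNsurj d
    exact ⟨⟨n, hn⟩, h⟩
  have haa : a * a = 1 := by rw [← pow_two, ← ha2, pow_orderOf_eq_one]
  have ha' : orderOf (φ a) = 2 := by
    refine orderOf_eq_prime (by rw [← map_pow, pow_two, haa, map_one]) fun h => ?_
    rw [hNQ a ha ((hker a).mp h), orderOf_one] at ha2
    omega
  -- moving an element with image of order `r` into `R`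
  have hmove : ∀ y : G, orderOf (φ y) = r → ∃ w ∈ Q, w⁻¹ * y * w ∈ (R : Subgroup G) := by
    intro y hy
    have hyo := hlift y hy
    obtain ⟨S, hS⟩ := (IsPGroup.of_card (p := r) (n := 1)
      (show Nat.card (zpowers y) = r ^ 1 by rw [Nat.card_zpowers, hyo, pow_one])).exists_le_sylow
    obtain ⟨g, hg⟩ := MulAction.exists_smul_eq G S R
    obtain ⟨n, hn, hng⟩ := hNsurj (φ g)
    refine ⟨g⁻¹ * n, (hker _).mp (by rw [map_mul, map_inv, hng, inv_mul_cancel]), ?_⟩
    have h1 : g * y * g⁻¹ ∈ (R : Subgroup G) := by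
      rw [← hg, Sylow.smul_def]
      exact ⟨y, hS (mem_zpowers y), rfl⟩
    have h2' := (mem_normalizer_iff.mp (inv_mem hn) _).mp h1
    simpa [mul_assoc] using h2'
  -- an involution inverting `y ∈ R#` lies in `N`
  refine ⟨fun b hb hbQ => ?_, ?_⟩
  · have hbb : b * b = 1 := by rw [← pow_two, ← hb, pow_orderOf_eq_one]
    have hb' : orderOf (φ b) = 2 :=
      orderOf_eq_prime (by rw [← map_pow, pow_two, hbb, map_one]) fun h => hbQ ((hker b).mp h)
    obtain ⟨d, hd, hdb⟩ := dihedral_distinct_involution h2 hb'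
    obtain ⟨a₀, ha₀N, rfl⟩ := hNsurj d
    have ha₀ : a₀ * a₀ = 1 := hNinj _ (mul_mem ha₀N ha₀N) _ (one_mem N)
      (by rw [map_mul, map_one, ← pow_two, ← hd, pow_orderOf_eq_one])
    have hx : orderOf (φ (b * a₀)) = r := by
      rw [map_mul]; exact dihedral_orderOf_mul h2 hb' hd (Ne.symm hdb)
    obtain ⟨w, hw, ht⟩ := hmove _ hx
    set b' := w⁻¹ * b * w with hb'def
    set t := w⁻¹ * (b * a₀) * w with htdef
    have hbinv : b⁻¹ = b := inv_eq_of_mul_eq_one_right hbb
    have hinv : b' * t * b'⁻¹ = t⁻¹ := by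
      rw [hb'def, htdef]
      calc w⁻¹ * b * w * (w⁻¹ * (b * a₀) * w) * (w⁻¹ * b * w)⁻¹
          = w⁻¹ * ((b * b) * a₀ * b⁻¹) * w := by group
        _ = w⁻¹ * (a₀⁻¹ * b⁻¹) * w := by
          rw [hbb, inv_eq_of_mul_eq_one_right ha₀, one_mul]
        _ = _ := by group
    have htR : zpowers t = (R : Subgroup G) := by
      refine eq_of_le_of_card_ge (zpowers_le.mpr ht) ?_
      rw [hcardR, Nat.card_zpowers, htdef,
        show w⁻¹ * (b * a₀) * w = MulAut.conj w⁻¹ (b * a₀) by simp,
        MulEquiv.orderOf_eq, hlift _ hx]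
    have hb'N : b' ∈ N := by
      rw [hN]
      refine mem_normalizer_iff_map_conj_eq.mpr (eq_of_le_of_card_ge ?_
        (card_map_of_injective (MulAut.conj _).injective).ge)
      rw [← htR, MonoidHom.map_zpowers, zpowers_le]
      show b' * t * b'⁻¹ ∈ zpowers t
      rw [hinv]
      exact inv_mem (mem_zpowers t)
    have hb'2 : orderOf (φ b') = 2 := by
      rw [hb'def, map_mul, map_mul, map_inv, (hker w).mpr hw, inv_one, one_mul, mul_one, hb']
    obtain ⟨d', hd'⟩ := dihedral_conj h2 ha' hb'2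
    obtain ⟨n, hn, rfl⟩ := hNsurj d'
    have heq : n * a * n⁻¹ = b' :=
      hNinj _ (mul_mem (mul_mem hn ha) (inv_mem hn)) _ hb'N (by rw [map_mul, map_mul, map_inv, hd'])
    refine ⟨w * n, ?_⟩
    calc w * n * a * (w * n)⁻¹ = w * (n * a * n⁻¹) * w⁻¹ := by group
      _ = b := by rw [heq, hb'def]; group
  · obtain ⟨d, hd, hda⟩ := dihedral_distinct_involution h2 ha'
    obtain ⟨d', rfl⟩ := dihedral_conj h2 ha' hd
    obtain ⟨n, hn, rfl⟩ := hNsurj d'
    set a₁ := n * a * n⁻¹ with ha₁
    have ha₁' : φ a₁ = φ n * φ a * (φ n)⁻¹ := by rw [ha₁, map_mul, map_mul, map_inv]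
    rw [← ha₁'] at hd hda
    have ha₁a : a₁ * a₁ = 1 := by
      calc a₁ * a₁ = n * (a * a) * n⁻¹ := by rw [ha₁]; group
        _ = 1 := by rw [haa]; group
    have hto : orderOf (φ (a * a₁)) = r := by
      rw [map_mul]; exact dihedral_orderOf_mul h2 ha' hd (Ne.symm hda)
    set C := Q ⊓ centralizer ({a} : Set G)
    set C₁ := Q ⊓ centralizer ({a₁} : Set G)
    have hmemC : ∀ {c x : G}, x ∈ Q → c * x = x * c → x ∈ Q ⊓ centralizer ({c} : Set G) :=
      fun hx h => ⟨hx, mem_centralizer_singleton_iff.mpr h.symm⟩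
    let Ψ : Q → (Q ⧸ C.subgroupOf Q) × (Q ⧸ C₁.subgroupOf Q) := fun w =>
      (QuotientGroup.mk w, QuotientGroup.mk w)
    have hΨ : Function.Bijective Ψ := by
      constructor
      · intro w w' h
        obtain ⟨h1, h2'⟩ := Prod.ext_iff.mp h
        have e1 := mem_subgroupOf.mp (QuotientGroup.eq.mp h1)
        have e2 := mem_subgroupOf.mp (QuotientGroup.eq.mp h2')
        set x : G := ((w⁻¹ * w' : Q) : G)
        have c1 := mem_centralizer_singleton_iff.mp (mem_inf.mp e1).2
        have c2 := mem_centralizer_singleton_iff.mp (mem_inf.mp e2).2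
        have : x = 1 := hC' _ (hlift _ hto) x (w⁻¹ * w' : Q).2
          (Commute.mul_right c1 c2).eq
        exact inv_mul_eq_one.mp (Subtype.ext this)
      · rintro ⟨x, x'⟩
        obtain ⟨u, rfl⟩ := QuotientGroup.mk_surjective x
        obtain ⟨v, rfl⟩ := QuotientGroup.mk_surjective x'
        set b := (u : G) * a * (u : G)⁻¹ with hb
        set b₁ := (v : G) * a₁ * (v : G)⁻¹ with hb₁
        have hφb : φ b = φ a := by
          rw [hb, map_mul, map_mul, map_inv, (hker u).mpr u.2, one_mul, inv_one, mul_one]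
        have hφb₁ : φ b₁ = φ a₁ := by
          rw [hb₁, map_mul, map_mul, map_inv, (hker v).mpr v.2, one_mul, inv_one, mul_one]
        set y := b * b₁ with hy
        have hyo : orderOf (φ y) = r := by
          rw [hy, map_mul, hφb, hφb₁, ← map_mul, hto]
        obtain ⟨w, hw, hwy⟩ := hmove y hyo
        have htmem : a * a₁ ∈ (R : Subgroup G) := by
          obtain ⟨w₀, hw₀, hw₀t⟩ := hmove _ hto
          have e : a * a₁ = w₀⁻¹ * (a * a₁) * w₀ := hNinj _ (mul_mem ha
            (mul_mem (mul_mem hn ha) (inv_mem hn))) _ (le_normalizer hw₀t) (by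
              rw [map_mul φ (w₀⁻¹ * (a * a₁)), map_mul φ w₀⁻¹, map_inv, (hker w₀).mpr hw₀,
                inv_one, one_mul, mul_one])
          rw [e]; exact hw₀t
        have heq : w⁻¹ * y * w = a * a₁ := hNinj _ (le_normalizer hwy) _ (le_normalizer htmem) (by
          rw [map_mul, map_mul, map_inv, (hker w).mpr hw, inv_one, one_mul, mul_one, hy, map_mul,
            hφb, hφb₁, ← map_mul])
        have hbb : b * b = 1 := by
          calc b * b = (u : G) * (a * a) * (u : G)⁻¹ := by rw [hb]; group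
            _ = 1 := by rw [haa]; group
        have hb₁b₁ : b₁ * b₁ = 1 := by
          calc b₁ * b₁ = (v : G) * (a₁ * a₁) * (v : G)⁻¹ := by rw [hb₁]; group
            _ = 1 := by rw [ha₁a]; group
        set c := w * a * w⁻¹ with hc
        set c₁ := w * a₁ * w⁻¹ with hc₁
        have hcc : c * c = 1 := by
          calc c * c = w * (a * a) * w⁻¹ := by rw [hc]; group
            _ = 1 := by rw [haa]; group
        have hc₁c₁ : c₁ * c₁ = 1 := by
          calc c₁ * c₁ = w * (a₁ * a₁) * w⁻¹ := by rw [hc₁]; group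
            _ = 1 := by rw [ha₁a]; group
        have hyc : y = c * c₁ := by
          calc y = w * (w⁻¹ * y * w) * w⁻¹ := by group
            _ = c * c₁ := by rw [heq, hc, hc₁]; group
        have hinvert : ∀ s s' : G, s * s = 1 → s' * s' = 1 →
            s * (s * s') * s⁻¹ = (s * s')⁻¹ := fun s s' hs hs' => by
          rw [← mul_assoc, hs, one_mul, mul_inv_rev, inv_eq_of_mul_eq_one_right hs']
        have hbc : b = c := by
          have hcy : c * y * c⁻¹ = y⁻¹ := by rw [hyc]; exact hinvert c c₁ hcc hc₁c₁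
          have hby : b * y * b⁻¹ = y⁻¹ := by rw [hy]; exact hinvert b b₁ hbb hb₁b₁
          have hq : b⁻¹ * c ∈ Q := (hker _).mp (by
            rw [map_mul, map_inv, hφb, hc, map_mul, map_mul, map_inv, (hker w).mpr hw, one_mul,
              inv_one, mul_one, inv_mul_cancel])
          have hcomm : b⁻¹ * c * y = y * (b⁻¹ * c) := by
            calc b⁻¹ * c * y = b⁻¹ * (c * y * c⁻¹) * c := by group
              _ = b⁻¹ * (b * y * b⁻¹) * c := by rw [hcy, hby]
              _ = _ := by group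
          exact inv_mul_eq_one.mp (hC' y (hlift y hyo) _ hq hcomm)
        have hb₁c₁ : b₁ = c₁ := by
          have : b * b₁ = b * c₁ := by rw [← hy, hyc, hbc]
          exact mul_left_cancel this
        refine ⟨⟨w, hw⟩, Prod.ext ?_ ?_⟩
        · refine QuotientGroup.eq.mpr (mem_subgroupOf.mpr
            (hmemC (mul_mem (inv_mem hw) u.2) ?_))
          show a * (w⁻¹ * (u : G)) = w⁻¹ * (u : G) * a
          calc a * (w⁻¹ * (u : G)) = w⁻¹ * c * (u : G) := by rw [hc]; group
            _ = _ := by rw [← hbc, hb]; group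
        · refine QuotientGroup.eq.mpr (mem_subgroupOf.mpr
            (hmemC (mul_mem (inv_mem hw) v.2) ?_))
          show a₁ * (w⁻¹ * (v : G)) = w⁻¹ * (v : G) * a₁
          calc a₁ * (w⁻¹ * (v : G)) = w⁻¹ * c₁ * (v : G) := by rw [hc₁]; group
            _ = _ := by rw [← hb₁c₁, hb₁]; group
    have hcard := Nat.card_eq_of_bijective Ψ hΨ
    rw [Nat.card_prod] at hcard
    have e1 := Subgroup.card_eq_card_quotient_mul_card_subgroup (C.subgroupOf Q)
    have e2 := Subgroup.card_eq_card_quotient_mul_card_subgroup (C₁.subgroupOf Q)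
    rw [Nat.card_congr (subgroupOfEquivOfLe (inf_le_left : C ≤ Q)).toEquiv] at e1
    rw [Nat.card_congr (subgroupOfEquivOfLe (inf_le_left : C₁ ≤ Q)).toEquiv] at e2
    have hCC₁ : Nat.card C₁ = Nat.card C := by
      have : C₁ = C.map (MulAut.conj n).toMonoidHom := by
        ext x
        constructor
        · rintro ⟨hxQ, hxc⟩
          refine ⟨n⁻¹ * x * n, hmemC (by simpa using Normal.conj_mem inferInstance x hxQ n⁻¹) ?_,
            by simp [mul_assoc]⟩
          have h' := mem_centralizer_singleton_iff.mp hxc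
          calc a * (n⁻¹ * x * n) = n⁻¹ * (a₁ * x) * n := by rw [ha₁]; group
            _ = n⁻¹ * (x * a₁) * n := by rw [h']
            _ = _ := by rw [ha₁]; group
        · rintro ⟨z, ⟨hzQ, hzc⟩, rfl⟩
          refine hmemC (Normal.conj_mem inferInstance z hzQ n) ?_
          have h' := mem_centralizer_singleton_iff.mp hzc
          show a₁ * (n * z * n⁻¹) = n * z * n⁻¹ * a₁
          calc a₁ * (n * z * n⁻¹) = n * (a * z) * n⁻¹ := by rw [ha₁]; group
            _ = n * (z * a) * n⁻¹ := by rw [h']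
            _ = _ := by rw [ha₁]; group
      rw [this, card_map_of_injective (MulAut.conj n).injective]
    rw [hCC₁] at e2
    have hpos : 0 < Nat.card Q := Nat.card_pos
    refine Nat.eq_of_mul_eq_mul_left hpos ?_
    calc Nat.card Q * Nat.card C ^ 2
        = (Nat.card (Q ⧸ C.subgroupOf Q) * Nat.card C) *
            (Nat.card (Q ⧸ C₁.subgroupOf Q) * Nat.card C) := by rw [hcard]; ring
      _ = Nat.card Q * Nat.card Q := by rw [← e1, ← e2]

end CfsgLib.LocalEven48
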