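import Cfsg.Agent.ExtraspecialBasic.Order
import Cfsg.Agent.Coprime.Abelian
import Cfsg.Agent.LocalStructure.Tools
import Cfsg.Agent.LocalStructure.CharP

/-!
The order of a faithful module for an extraspecial group: the endomorphisms given by a transversal
of the centre are linearly independent over the field of commuting endomorphisms.
-/

namespace CfsgLib.LocalEven48.ExtraspecialModule

open scoped commutatorElement
open Cfsg

variable {E : Type*} [Group E] [Finite E] {p r : ℕ} [Fact p.Prime] [Fact r.Prime]
  {V : Type*} [AddCommGroup V] [Finite V] [Nontrivial V]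

/-- The endomorphisms commuting with the image of `ρ`. -/
abbrev comm (ρ : E →* AddMonoid.End V) : Subring (AddMonoid.End V) :=
  Subring.centralizer (Set.range ρ)

omit [Finite E] [Finite V] [Nontrivial V] in
theorem comm_apply {ρ : E →* AddMonoid.End V} (k : comm ρ) (e : E) (v : V) :
    (k : AddMonoid.End V) (ρ e v) = ρ e ((k : AddMonoid.End V) v) :=
  (DFunLike.congr_fun (Subring.mem_centralizer_iff.1 k.2 _ ⟨e, rfl⟩) v).symm

theorem card_ge (hE : IsExtraspecial p E) {w : ℕ} (hw : Nat.card E = p ^ (2 * w + 1))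
    (ρ : E →* AddMonoid.End V) (hV : ∀ v : V, r • v = 0)
    (hirr : ∀ U : AddSubgroup V, (∀ e : E, ∀ v ∈ U, ρ e v ∈ U) → U = ⊥ ∨ U = ⊤)
    (hz : ∀ z ∈ Subgroup.center E, z ≠ 1 → ρ z ≠ 1) {n : ℕ}
    (hmin : ∀ k : ℕ, 1 ≤ k → p ∣ r ^ k - 1 → n ≤ k) :
    r ^ (n * p ^ w) ≤ Nat.card V := by
  classical
  set K := comm ρ with hK
  have hinj : ∀ k : K, k ≠ 0 → ∀ v, (k : AddMonoid.End V) v = 0 → v = 0 := by
    intro k hk v hv
    rcases hirr (AddMonoidHom.ker (show V →+ V from (k : AddMonoid.End V))) (fun e u hu => by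
      rw [AddMonoidHom.mem_ker] at hu ⊢
      show (k : AddMonoid.End V) (ρ e u) = 0
      rw [comm_apply k e u, show (k : AddMonoid.End V) u = 0 from hu, map_zero]) with h | h
    · exact (AddSubgroup.mem_bot).1 (h ▸ (AddMonoidHom.mem_ker.2 hv))
    · exact absurd (Subtype.ext (AddMonoidHom.ext fun u =>
        AddMonoidHom.mem_ker.1 (h ▸ AddSubgroup.mem_top u))) hk
  haveI : NoZeroDivisors K := ⟨fun {a b} hab => by
    by_contra hne
    push Not at hne
    refine hne.2 (Subtype.ext (AddMonoidHom.ext fun v => hinj a hne.1 _ ?_))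
    exact DFunLike.congr_fun (congrArg Subtype.val hab) v⟩
  haveI : Finite (AddMonoid.End V) :=
    Finite.of_injective (fun f v => f v) (fun f g h => AddMonoidHom.ext (congrFun h))
  haveI : Nontrivial K := ⟨1, 0, fun h => by
    obtain ⟨v, hv⟩ := exists_ne (0 : V)
    exact hv (DFunLike.congr_fun (congrArg Subtype.val h) v)⟩
  haveI : IsDomain K := NoZeroDivisors.to_isDomain K
  letI : Field K := (Finite.isDomain_to_isField K).toField
  let L : E →* Module.End K V :=
    { toFun := fun e =>
        { toFun := fun v => ρ e v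
          map_add' := fun u v => map_add (ρ e) u v
          map_smul' := fun k v => (comm_apply k e v).symm }
      map_one' := LinearMap.ext fun v => by simp
      map_mul' := fun a b => LinearMap.ext fun v => by simp }
  have hLap : ∀ e v, L e v = ρ e v := fun _ _ => rfl
  let zK : Subgroup.center E → K := fun z => ⟨ρ (z : E), Subring.mem_centralizer_iff.2 (by
    rintro _ ⟨e, rfl⟩
    rw [← map_mul, ← map_mul, Subgroup.mem_center_iff.1 z.2 e])⟩
  have hzK : ∀ a b, zK a = zK b → a = b := fun a b h => by
    by_contra hne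
    refine hz _ (Subgroup.mul_mem _ (Subgroup.inv_mem _ a.2) b.2)
      (fun e => hne (Subtype.ext (inv_mul_eq_one.1 e))) ?_
    have h' : ρ (a : E) = ρ (b : E) := congrArg Subtype.val h
    rw [map_mul, ← h', ← map_mul, inv_mul_cancel, map_one]
  have hswap : ∀ x e : E, L x * L e =
      zK ⟨⁅x, e⁆, ExtraspecialBasic.commutator_mem_center hE x e⟩ • (L e * L x) := by
    intro x e
    refine LinearMap.ext fun v => ?_
    show ρ x (ρ e v) = ρ ⁅x, e⁆ (ρ e (ρ x v))
    show (ρ x * ρ e) v = (ρ ⁅x, e⁆ * (ρ e * ρ x)) v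
    rw [← map_mul, ← map_mul, ← map_mul]
    congr 2
    simp [commutatorElement_def, mul_assoc]
  have hLunit : ∀ e, L e ≠ 0 := fun e h => by
    obtain ⟨v, hv⟩ := exists_ne (0 : V)
    refine hv ?_
    have : L e⁻¹ (L e v) = v := by rw [← Module.End.mul_apply, ← map_mul]; simp
    rw [← this, h]; simp
  have hind : LinearIndependent K fun i : E ⧸ Subgroup.center E => L i.out := by
    rw [linearIndependent_iff']
    intro s
    induction s using Finset.induction_on with
    | empty => simp
    | @insert j s hjs ih =>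
      intro g hg
      have hs : ∀ i ∈ s, g i = 0 := by
        intro i hi
        have hij : i ≠ j := fun e => hjs (e ▸ hi)
        obtain ⟨x, hx⟩ : ∃ x : E, ⁅x, i.out⁆ ≠ ⁅x, j.out⁆ := by
          by_contra hall
          push Not at hall
          apply hij
          rw [← QuotientGroup.out_eq' i, ← QuotientGroup.out_eq' j, QuotientGroup.eq,
            Subgroup.mem_center_iff]
          intro x
          refine (ExtraspecialBasic.commHom_eq_one hE (x := x)).1 ?_
          rw [map_mul, map_inv, inv_mul_eq_one]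
          exact Subtype.ext (hall x)
        set c : (E ⧸ Subgroup.center E) → K :=
          fun i => zK ⟨⁅x, i.out⁆, ExtraspecialBasic.commutator_mem_center hE x i.out⟩ with hc
        have h1 : ∑ m ∈ insert j s, (g m * (c m - c j)) • L m.out = 0 := by
          have e1 : ∑ m ∈ insert j s, (g m * c m) • (L m.out * L x) = 0 := by
            have h0 : L x * ∑ m ∈ insert j s, g m • L m.out = 0 := by rw [hg, mul_zero]
            rw [Finset.mul_sum] at h0
            rw [← h0]
            refine Finset.sum_congr rfl fun m _ => ?_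
            rw [mul_smul_comm, hswap x m.out, smul_smul]
          have e2 : ∑ m ∈ insert j s, (g m * c j) • (L m.out * L x) = 0 := by
            have : ∑ m ∈ insert j s, (g m * c j) • (L m.out * L x) =
                c j • ((∑ m ∈ insert j s, g m • L m.out) * L x) := by
              simp only [Finset.sum_mul, Finset.smul_sum, smul_mul_assoc, smul_smul, mul_comm (g _)]
            rw [this, hg, zero_mul, smul_zero]
          have e3 : ∑ m ∈ insert j s, (g m * (c m - c j)) • (L m.out * L x) = 0 := by
            simp only [mul_sub, sub_smul, Finset.sum_sub_distrib, e1, e2, sub_zero]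
          have := congrArg (· * L x⁻¹) e3
          simpa [Finset.sum_mul, smul_mul_assoc, mul_assoc, ← map_mul] using this
        rw [Finset.sum_insert hjs, sub_self, mul_zero, zero_smul, zero_add] at h1
        have h2 := ih _ h1 i hi
        refine (mul_eq_zero.1 h2).resolve_right (sub_ne_zero.2 fun e => hx ?_)
        exact congrArg Subtype.val (hzK _ _ e)
      intro i hi
      rcases Finset.mem_insert.1 hi with rfl | hi
      · rw [Finset.sum_insert hjs, Finset.sum_eq_zero (fun m hm => by rw [hs m hm, zero_smul]),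
          add_zero] at hg
        exact (smul_eq_zero.1 hg).resolve_right (hLunit _)
      · exact hs i hi
  haveI : Fintype (E ⧸ Subgroup.center E) := Fintype.ofFinite _
  haveI : Fintype K := Fintype.ofFinite _
  haveI : Module.Finite K V := Module.Finite.of_finite
  have hd : p ^ w ≤ Module.finrank K V := by
    have h1 : Fintype.card (E ⧸ Subgroup.center E) ≤ Module.finrank K (Module.End K V) :=
      hind.fintype_card_le_finrank
    rw [Module.finrank_linearMap] at h1
    have h2 : Nat.card (E ⧸ Subgroup.center E) = p ^ (2 * w) := by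
      have := (Subgroup.center E).card_mul_index
      rw [hE.2, hw, pow_succ'] at this
      exact Nat.eq_of_mul_eq_mul_left (Fact.out : p.Prime).pos this
    rw [← Nat.card_eq_fintype_card, h2, two_mul, pow_add] at h1
    exact Nat.mul_self_le_mul_self_iff.1 h1
  haveI : CharP K r := (CharP.charP_iff_prime_eq_zero Fact.out).2 (by
    rw [← nsmul_one]
    exact Subtype.ext (AddMonoidHom.ext fun v => hV v))
  obtain ⟨⟨k, hk1⟩, -, hk⟩ := FiniteField.card K r
  have hk' : Fintype.card K = r ^ k := hk
  obtain ⟨z, hz1⟩ : ∃ z : Subgroup.center E, z ≠ 1 := by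
    haveI : Nontrivial (Subgroup.center E) :=
      Finite.one_lt_card_iff_nontrivial.1 (hE.2 ▸ (Fact.out : p.Prime).one_lt)
    exact exists_ne 1
  have hzp : zK z ^ p = 1 := by
    refine Subtype.ext ?_
    show ρ (z : E) ^ p = 1
    rw [← map_pow, ExtraspecialBasic.pow_center_eq_one hE z.2, map_one]
  have hzne : zK z ≠ 1 := fun h => hz1 (hzK z 1 (h.trans (Subtype.ext (map_one ρ).symm)))
  have hz0 : zK z ≠ 0 := fun h => by simp [h, (Fact.out : p.Prime).ne_zero] at hzp
  have hnk : n ≤ k := by
    refine hmin k hk1 ?_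
    rw [← hk', ← orderOf_eq_prime hzp hzne]
    exact orderOf_dvd_of_pow_eq_one (FiniteField.pow_card_sub_one_eq_one _ hz0)
  calc r ^ (n * p ^ w) ≤ r ^ (k * Module.finrank K V) :=
        Nat.pow_le_pow_right (Fact.out : r.Prime).pos (Nat.mul_le_mul hnk hd)
    _ = Nat.card K ^ Module.finrank K V := by rw [Nat.card_eq_fintype_card, hk', pow_mul]
    _ = Nat.card V := Module.natCard_eq_pow_finrank.symm

end CfsgLib.LocalEven48.ExtraspecialModule

namespace CfsgLib.LocalEven48

open Subgroup Cfsg
open scoped commutatorElement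

/-- An extraspecial group acting faithfully on an elementary abelian `r`-group. -/
theorem extraspecial_module_bound {G : Type*} [Group G] [Finite G] {p r : ℕ} [Fact p.Prime]
    [Fact r.Prime] (hpr : p ≠ r) (E A : Subgroup G) (w : ℕ) (hE : IsExtraspecial p ↥E)
    (hw : Nat.card E = p ^ (2 * w + 1)) (hA : IsElementaryAbelian r A)
    (hn : E ≤ normalizer (A : Set G)) (hf : E ⊓ centralizer (A : Set G) = ⊥) {n : ℕ}
    (hmin : ∀ k : ℕ, 1 ≤ k → p ∣ r ^ k - 1 → n ≤ k) : r ^ (n * p ^ w) ≤ Nat.card A := by
  obtain ⟨hAc, hAp⟩ := LocalStructure.isElementaryAbelian_iff.1 hA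
  haveI : IsMulCommutative A := ⟨⟨fun a b => Subtype.ext (hAc a a.2 b b.2)⟩⟩
  set Z := (center E).map E.subtype with hZ
  have hZE : Z ≤ E := map_subtype_le _
  have hZcard : Nat.card Z = p := by
    rw [hZ, card_map_of_injective E.subtype_injective, hE.2]
  have hEZ : E ≤ normalizer (Z : Set G) := fun e he => by
    refine LocalStructure.mem_normalizer_of_forall ?_
    rintro _ ⟨z, hz, rfl⟩
    exact ⟨_, (inferInstance : (center E).Normal).conj_mem z hz ⟨e, he⟩, rfl⟩
  have hAp' : IsPGroup r A := LocalStructure.isElementaryAbelian_isPGroup hA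
  have hcop : (Nat.card Z).Coprime (Nat.card A) := by
    obtain ⟨a, ha⟩ := hAp'.exists_card_eq
    rw [hZcard, ha]
    exact ((Nat.coprime_primes Fact.out Fact.out).2 hpr).pow_right a
  set B := ⁅A, Z⁆ with hB
  have hdisj : (A ⊓ centralizer (Z : Set G)) ⊓ B = ⊥ :=
    CfsgLib.Coprime.inf_centralizer_inf_commutator_eq_bot (hZE.trans hn) hcop
  have hBA : B ≤ A := le_normalizer_iff_commutator_le_left.1 (hZE.trans hn)
  have hEB : E ≤ normalizer (B : Set G) :=
    (le_inf hn hEZ).trans (LocalStructure.normalizer_le_normalizer_commutator A Z)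
  have hB1 : B ≠ ⊥ := fun h => by
    have h1 : Z = ⊥ := le_bot_iff.1 (hf ▸ le_inf hZE
      (commutator_eq_bot_iff_le_centralizer.1 (by rwa [commutator_comm])))
    rw [h1, card_bot] at hZcard
    exact (Fact.out : p.Prime).ne_one hZcard.symm
  obtain ⟨W, -, hW⟩ := (Set.toFinite {W : Subgroup G | W ≠ ⊥ ∧ W ≤ B ∧
    E ≤ normalizer (W : Set G)}).exists_le_minimal (a := B) ⟨hB1, le_rfl, hEB⟩
  obtain ⟨hW1, hWB, hEW⟩ := hW.prop
  have hWA : W ≤ A := hWB.trans hBA
  let cg : CommGroup W :=
    { (inferInstance : Group W) with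
      mul_comm := fun a b => Subtype.ext (hAc a (hWA a.2) b (hWA b.2)) }
  letI := cg
  haveI : Nontrivial W := (Subgroup.nontrivial_iff_ne_bot W).2 hW1
  let c : E → W →* W := fun e =>
    { toFun := fun x => ⟨(e : G) * x * (e : G)⁻¹, (mem_normalizer_iff.1 (hEW e.2) _).1 x.2⟩
      map_one' := Subtype.ext (by simp)
      map_mul' := fun a b => Subtype.ext (by simp [mul_assoc]) }
  let ρ : E →* AddMonoid.End (Additive W) :=
    { toFun := fun e => MonoidHom.toAdditive (c e)
      map_one' := AddMonoidHom.ext fun v => Additive.toMul.injective (Subtype.ext (by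
        show ((1 : E) : G) * ((Additive.toMul v : W) : G) * ((1 : E) : G)⁻¹ =
          ((Additive.toMul v : W) : G)
        simp))
      map_mul' := fun a b => AddMonoidHom.ext fun v => Additive.toMul.injective (Subtype.ext (by
        show ((a * b : E) : G) * ((Additive.toMul v : W) : G) * ((a * b : E) : G)⁻¹ =
          (a : G) * ((b : G) * ((Additive.toMul v : W) : G) * (b : G)⁻¹) * (a : G)⁻¹
        simp [mul_assoc])) }
  have hρ : ∀ e v, Additive.toMul (ρ e v) = c e (Additive.toMul v) := fun _ _ => rfl
  refine le_trans (ExtraspecialModule.card_ge (V := Additive W) hE hw ρ ?_ ?_ ?_ hmin) ?_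
  · intro v
    refine Additive.toMul.injective (Subtype.ext ?_)
    simpa using hAp _ (hWA (Additive.toMul v).2)
  · intro U hU
    set U' : Subgroup W := AddSubgroup.toSubgroup' U with hU'
    by_cases hbot : U'.map W.subtype = ⊥
    · left
      rw [Subgroup.map_eq_bot_iff_of_injective _ W.subtype_injective] at hbot
      refine (AddSubgroup.eq_bot_iff_forall U).2 fun v hv => ?_
      exact Additive.toMul.injective (Subgroup.mem_bot.1 (hbot ▸
        (show Additive.toMul v ∈ U' from hv)))
    · right
      have hmem : U'.map W.subtype ∈ {W : Subgroup G | W ≠ ⊥ ∧ W ≤ B ∧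
          E ≤ normalizer (W : Set G)} := by
        refine ⟨hbot, (map_subtype_le _).trans hWB, fun e he => ?_⟩
        refine LocalStructure.mem_normalizer_of_forall ?_
        rintro _ ⟨u, hu, rfl⟩
        exact ⟨c ⟨e, he⟩ u, hU ⟨e, he⟩ (Additive.ofMul u) hu, rfl⟩
      have htop := hW.le_of_le hmem (map_subtype_le _)
      refine (AddSubgroup.eq_top_iff' U).2 fun v => ?_
      obtain ⟨u, hu, he⟩ := htop (Additive.toMul v).2
      obtain rfl : u = Additive.toMul v := Subtype.ext he
      exact hu
  · intro z hz hz1 h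
    apply hW1
    rw [eq_bot_iff, ← hdisj]
    refine le_inf (le_inf hWA ?_) hWB
    rw [le_centralizer_iff]
    have hzZ : Z ≤ zpowers (z : G) := by
      refine (eq_of_le_of_card_ge (zpowers_le.2 (mem_map_of_mem _ hz)) ?_).ge
      have hd : orderOf (E.subtype z) = p := by
        rw [orderOf_injective _ E.subtype_injective]
        exact orderOf_eq_prime (ExtraspecialBasic.pow_center_eq_one hE hz) hz1
      rw [Nat.card_zpowers, hd, ← hZcard]
    refine hzZ.trans (zpowers_le.2 (mem_centralizer_iff.2 fun x hx => ?_))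
    have h1 := congrArg (fun y => ((Additive.toMul y : W) : G))
      (DFunLike.congr_fun h (Additive.ofMul (⟨x, hx⟩ : W)))
    exact (mul_inv_eq_iff_eq_mul.1 (by simpa [hρ, c] using h1)).symm
  · calc Nat.card (Additive W) = Nat.card W := Nat.card_congr Additive.toMul
      _ ≤ Nat.card A := Nat.le_of_dvd Nat.card_pos (card_dvd_of_le hWA)

end CfsgLib.LocalEven48
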