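import Cfsg.Agent.LocalEven48.FrakLFree

/-!
# The normaliser of `Y` in a member of `𝔏_G(Y)`

The image `Ybar` of `Y` in `L ⧸ A` is the only nontrivial subgroup of exponent `p` of its
normaliser that is normal there.
-/

set_option autoImplicit false

open Subgroup
open scoped commutatorElement MatrixGroups

namespace CfsgLib.LocalEven48

namespace FrakLQuot

variable {G : Type*} [Group G] {Q : Type*} [Group Q] {p : ℕ} {L Y A : Subgroup G}
  {d : FrakLData p L Y A} {φ : ↥L →* Q}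

theorem not_isPGroup_top [Finite G] (q : FrakLQuot d φ) : ¬ IsPGroup p Q := by
  intro h
  refine d.lne ((d.amax L le_rfl le_normalizer ?_).trans d.aY)
  intro x
  obtain ⟨k, hk⟩ := h (φ x)
  have h1 : ((x ^ p ^ k : ↥L) : G) ∈ A := (q.ker _).mp (by rw [map_pow, hk])
  obtain ⟨j, hj⟩ := d.ap ⟨_, h1⟩
  refine ⟨k + j, Subtype.ext ?_⟩
  have := congrArg Subtype.val hj
  simpa [pow_add, pow_mul] using this

/-- The preimage of the normaliser of the image of `Y` normalises `Y`. -/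
theorem map_mem_normalizer_iff [Finite G] [Fact p.Prime] (q : FrakLQuot d φ) {x : ↥L} :
    φ x ∈ normalizer (q.ybar : Set Q) ↔ (x : G) ∈ normalizer (Y : Set G) := by
  constructor
  · intro hx
    set X := ((normalizer (q.ybar : Set Q)).comap φ).map L.subtype
    have hXL : X ≤ L := map_subtype_le _
    have hYX : Y ≤ X := fun y hy =>
      ⟨⟨y, d.yL hy⟩, mem_comap.mpr (le_normalizer (mem_map.mpr ⟨_, hy, rfl⟩)), rfl⟩
    refine d.lmax X hYX (lt_of_le_of_ne hXL fun he => ?_) ⟨x, mem_comap.mpr hx, rfl⟩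
    set N := (q.ybar.comap φ).map L.subtype
    have hNn : L ≤ normalizer (N : Set G) := by
      rw [le_normalizer_iff]
      intro l hl z hz
      obtain ⟨w, hw, rfl⟩ := hz
      refine ⟨⟨l, hl⟩ * w * ⟨l, hl⟩⁻¹, mem_comap.mpr ?_, rfl⟩
      have hl' : l ∈ X := he.symm ▸ hl
      obtain ⟨l', hl'', e⟩ := hl'
      obtain rfl : l' = ⟨l, hl⟩ := Subtype.ext e
      rw [map_mul, map_mul, map_inv]
      exact (mem_normalizer_iff.mp (mem_comap.mp hl'') _).mp (mem_comap.mp hw)
    have hNp : IsPGroup p N := by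
      intro z
      obtain ⟨w, hw, hwz⟩ := z.2
      obtain ⟨k, hk⟩ := q.ybar_isPGroup ⟨_, mem_comap.mp hw⟩
      have h1 : ((w ^ p ^ k : ↥L) : G) ∈ A :=
        (q.ker _).mp (by rw [map_pow]; exact congrArg Subtype.val hk)
      obtain ⟨j, hj⟩ := d.ap ⟨_, h1⟩
      refine ⟨k + j, Subtype.ext ?_⟩
      have := congrArg Subtype.val hj
      rw [SubgroupClass.coe_pow, ← hwz]
      simpa [pow_add, pow_mul] using this
    have hYA : Y ≤ A := fun y hy => d.amax N (map_subtype_le _) hNn hNp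
      ⟨⟨y, d.yL hy⟩, mem_comap.mpr (mem_map.mpr ⟨_, hy, rfl⟩), rfl⟩
    exact d.lne ((d.lgen A d.an hYA).trans d.aY)
  · intro hx
    rw [mem_normalizer_iff]
    intro n
    constructor
    · intro hn
      obtain ⟨y, hy, rfl⟩ := mem_map.mp hn
      refine mem_map.mpr ⟨x * y * x⁻¹, ?_, by rw [map_mul, map_mul, map_inv]⟩
      exact (mem_normalizer_iff.mp hx _).mp hy
    · intro hn
      obtain ⟨y, hy, e⟩ := mem_map.mp hn
      refine mem_map.mpr ⟨x⁻¹ * y * x, ?_, by rw [map_mul, map_mul, map_inv, e]; group⟩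
      have := (mem_normalizer_iff.mp (inv_mem hx) _).mp hy
      rw [inv_inv] at this
      exact this

/-- A root element normalising the image of `Y` lies in it. -/
theorem mem_ybar_of_normalizes [Finite G] [Fact p.Prime] (q : FrakLQuot d φ) {w : Q}
    (hw : InConj q.ybar w) (hn : w ∈ normalizer (q.ybar : Set Q)) : w ∈ q.ybar := by
  obtain ⟨c, y, hy, e⟩ := hw
  obtain ⟨g, rfl⟩ := q.surj c
  have hwu : φ (g * y * g⁻¹) = w := by rw [map_mul, map_mul, map_inv, e]; group
  set u := g * y * g⁻¹ with hu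
  have huN : (u : G) ∈ normalizer (Y : Set G) := q.map_mem_normalizer_iff.mp (hwu.symm ▸ hn)
  by_cases hgN : (g : G) ∈ normalizer (Y : Set G)
  · rw [← hwu]
    exact mem_map.mpr ⟨u, (mem_normalizer_iff.mp hgN _).mp hy, rfl⟩
  · have hgN' : (g : G)⁻¹ ∉ normalizer (Y : Set G) := fun h => hgN (by simpa using inv_mem h)
    have hmem : (y : G) ∈ normalizer ((cnj (g : G)⁻¹ Y : Subgroup G) : Set G) := by
      rw [mem_normalizer_iff]
      intro z
      rw [mem_cnj, mem_cnj, mem_normalizer_iff.mp huN _]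
      constructor <;> intro h <;> simpa [hu, mul_assoc] using h
    have hyA := d.mem_A_of_normalizes (L.inv_mem g.2) hgN' hy hmem
    have : φ y = 1 := (q.ker y).mpr hyA
    rw [← hwu, map_mul, map_mul, map_inv, this, mul_one, mul_inv_cancel]
    exact one_mem _

end FrakLQuot

variable {G : Type*} [Group G]

/-- The property of the image of `Y` in `L ⧸ A` proved in this file. -/
def IsUniqueMinimal {Q : Type*} [Group Q] (p : ℕ) (K : Subgroup Q) : Prop :=
  ∀ W : Subgroup Q, W ≤ normalizer (K : Set Q) → W ≠ ⊥ →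
    normalizer (K : Set Q) ≤ normalizer (W : Set Q) → (∀ x ∈ W, x ^ p = 1) → W = K

theorem FrakLQuot.isUniqueMinimal_of_card_two [Finite G] {L Y A : Subgroup G}
    {d : FrakLData 2 L Y A} {Q : Type*} [Group Q] {φ : ↥L →* Q} (q : FrakLQuot d φ)
    (h2 : Nat.card q.ybar = 2) : IsUniqueMinimal 2 q.ybar := by
  haveI : Fact (Nat.Prime 2) := ⟨Nat.prime_two⟩
  haveI : Finite Q := Finite.of_surjective φ q.surj
  intro W hW hW1 _ _
  refine eq_of_le_of_card_ge ?_ ?_
  swap
  · rw [h2]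
    exact (one_lt_card_iff_ne_bot (H := W)).mpr hW1
  suffices hN : normalizer (q.ybar : Set Q) ≤ q.ybar from hW.trans hN
  obtain ⟨g, hg, hgN⟩ := d.exists_g
  obtain ⟨⟨t, htY⟩, ht1'⟩ := Subgroup.ne_bot_iff_exists_ne_one.mp q.ybar_ne_bot
  have ht1 : t ≠ 1 := fun h => ht1' (Subtype.ext h)
  have honly : ∀ z ∈ q.ybar, z = 1 ∨ z = t := by
    intro z hz
    obtain ⟨a, b, -, huniv⟩ := (Nat.card_eq_two_iff (α := q.ybar)).mp h2
    have hmem : ∀ w : q.ybar, w = a ∨ w = b := fun w => by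
      have : w ∈ ({a, b} : Set q.ybar) := huniv ▸ Set.mem_univ w
      exact this
    rcases hmem ⟨z, hz⟩ with e | e <;> rcases hmem 1 with e1 | e1 <;>
      rcases hmem ⟨t, htY⟩ with e2 | e2 <;>
      simp only [Subtype.ext_iff] at e e1 e2 <;>
      first
        | exact Or.inl (e.trans e1.symm)
        | exact Or.inr (e.trans e2.symm)
        | exact absurd (e2.trans e1.symm) ht1
  have ht : t * t = 1 := by
    have := pow_card_eq_one' (G := q.ybar) (x := ⟨t, htY⟩)
    rw [h2, pow_two] at this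
    exact congrArg Subtype.val this
  set t' := φ ⟨g, hg⟩ * t * (φ ⟨g, hg⟩)⁻¹ with ht'def
  have ht' : t' * t' = 1 := by
    rw [ht'def]
    calc _ = φ ⟨g, hg⟩ * (t * t) * (φ ⟨g, hg⟩)⁻¹ := by group
      _ = 1 := by rw [ht]; group
  set x := t * t' with hx
  have hcent : ∀ m ∈ normalizer (q.ybar : Set Q), m * t = t * m := by
    intro m hm
    have hmem := (mem_normalizer_iff.mp hm t).mp htY
    rcases honly _ hmem with h | h
    · exact absurd (conj_eq_one_iff.mp h) ht1
    · exact mul_inv_eq_iff_eq_mul.mp h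
  have htinv : t⁻¹ = t := inv_eq_of_mul_eq_one_right ht
  have hxt : ∀ j : ℤ, t * x ^ j = x ^ (-j) * t := by
    intro j
    have h1 : t * x * t⁻¹ = x⁻¹ := by
      rw [hx, mul_inv_rev, inv_eq_of_mul_eq_one_right ht', htinv, ← mul_assoc, ht, one_mul]
    calc t * x ^ j = (t * x * t⁻¹) ^ j * t := by rw [conj_zpow]; group
      _ = x ^ (-j) * t := by rw [h1, inv_zpow']
  -- every element of `Q` is a power of `x` or such a power times `t`
  have hall : ∀ m : Q, ∃ i : ℤ, m = x ^ i ∨ m = x ^ i * t := by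
    intro m
    refine dihedral_cases t t' ht ht' ?_
    set K := (closure ({t, t'} : Set Q)).comap φ
    have hY : Y ≤ K.map L.subtype := by
      intro y hy
      refine ⟨⟨y, d.yL hy⟩, mem_comap.mpr ?_, rfl⟩
      rcases honly _ (mem_map.mpr ⟨⟨y, d.yL hy⟩, hy, rfl⟩) with h | h
      · exact h ▸ one_mem _
      · exact h ▸ subset_closure (Or.inl rfl)
    have hY' : cnj g Y ≤ K.map L.subtype := by
      rintro _ ⟨y, hy, rfl⟩
      refine ⟨⟨g, hg⟩ * ⟨y, d.yL hy⟩ * ⟨g, hg⟩⁻¹, mem_comap.mpr ?_, rfl⟩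
      rw [map_mul, map_mul, map_inv]
      rcases honly _ (mem_map.mpr ⟨⟨y, d.yL hy⟩, hy, rfl⟩) with h | h
      · rw [h, mul_one, mul_inv_cancel]; exact one_mem _
      · rw [h]; exact subset_closure (Or.inr rfl)
    obtain ⟨z, rfl⟩ := q.surj m
    obtain ⟨w, hw, e⟩ := (d.sup_cnj_eq hg hgN).ge.trans (sup_le hY hY') z.2
    exact (Subtype.ext e : w = z) ▸ mem_comap.mp hw
  have hsq : x ^ (2 : ℤ) ∈ normalizer (q.ybar : Set Q) → False := by
    intro h
    have h4 : x ^ (4 : ℤ) = 1 := by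
      have h1 := hcent _ h
      rw [hxt] at h1
      have h2' := mul_right_cancel h1
      calc x ^ (4 : ℤ) = x ^ (2 : ℤ) * x ^ (2 : ℤ) := by rw [← zpow_add]; norm_num
        _ = x ^ (-2 : ℤ) * x ^ (2 : ℤ) := by rw [← h2']
        _ = 1 := by rw [← zpow_add]; norm_num
    refine q.not_isPGroup_top fun m => ?_
    obtain ⟨i, rfl | rfl⟩ := hall m
    · refine ⟨2, ?_⟩
      rw [← zpow_natCast, ← zpow_mul, mul_comm]
      norm_num
      rw [zpow_mul, h4, one_zpow]
    · refine ⟨1, ?_⟩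
      rw [pow_one, pow_two, mul_assoc, ← mul_assoc t, hxt, mul_assoc _ t, ht, mul_one, ← zpow_add,
        add_neg_cancel, zpow_zero]
  -- the subgroup generated by `t` and `x ^ 2`
  have hclo : ∀ m : Q, m ∈ closure ({t, x ^ (2 : ℤ)} : Set Q) →
      ∃ k : ℤ, m = x ^ (2 * k) ∨ m = x ^ (2 * k) * t := by
    intro m hm
    refine closure_induction ?_ ⟨0, Or.inl (by simp)⟩ ?_ ?_ hm
    · rintro y (rfl | rfl)
      · exact ⟨0, Or.inr (by simp)⟩
      · exact ⟨1, Or.inl (by norm_num)⟩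
    · rintro a b - - ⟨i, rfl | rfl⟩ ⟨j, rfl | rfl⟩
      · exact ⟨i + j, Or.inl (by rw [← zpow_add, mul_add])⟩
      · exact ⟨i + j, Or.inr (by rw [← mul_assoc, ← zpow_add, mul_add])⟩
      · exact ⟨i + -j, Or.inr (by rw [mul_assoc, hxt, ← mul_assoc, ← zpow_add, mul_add, mul_neg])⟩
      · refine ⟨i + -j, Or.inl ?_⟩
        rw [mul_assoc, ← mul_assoc t, hxt, mul_assoc _ t t, ht, mul_one, ← zpow_add, mul_add,
          mul_neg]
    · rintro a - ⟨i, rfl | rfl⟩
      · exact ⟨-i, Or.inl (by rw [← zpow_neg, mul_neg])⟩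
      · exact ⟨i, Or.inr (by rw [mul_inv_rev, htinv, ← zpow_neg, hxt, neg_neg])⟩
  by_cases htop : x ∈ closure ({t, x ^ (2 : ℤ)} : Set Q)
  swap
  · exfalso
    set X := ((closure ({t, x ^ (2 : ℤ)} : Set Q)).comap φ).map L.subtype
    obtain ⟨xl, hxl⟩ := q.surj x
    have hYX : Y ≤ X := fun y hy => by
      refine ⟨⟨y, d.yL hy⟩, mem_comap.mpr ?_, rfl⟩
      rcases honly _ (mem_map.mpr ⟨⟨y, d.yL hy⟩, hy, rfl⟩) with h | h
      · exact h ▸ one_mem _
      · exact h ▸ subset_closure (Or.inl rfl)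
    have hlt : X < L := lt_of_le_of_ne (map_subtype_le _) fun he => by
      obtain ⟨w, hw, e⟩ : (xl : G) ∈ X := he.symm ▸ xl.2
      refine htop ?_
      have h' := mem_comap.mp hw
      rw [(Subtype.ext e : w = xl), hxl] at h'
      exact h'
    obtain ⟨x2, hx2⟩ := q.surj (x ^ (2 : ℤ))
    refine hsq (hx2 ▸ q.map_mem_normalizer_iff.mpr (d.lmax X hYX hlt ⟨x2, mem_comap.mpr ?_, rfl⟩))
    rw [hx2]
    exact subset_closure (Or.inr rfl)
  obtain ⟨k, hk | hk⟩ := hclo x htop
  swap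
  · exfalso
    refine hsq ?_
    have hcomm : t * x = x * t := by
      have : t = x ^ (-(2 * k)) * x := by
        calc t = x ^ (-(2 * k)) * (x ^ (2 * k) * t) := by group
          _ = _ := by rw [← hk]
      rw [this]; group
    rw [mem_normalizer_iff]
    intro z
    have h2 : x ^ (2 : ℤ) = 1 := by
      have h1 := hxt 1
      rw [zpow_one, hcomm, zpow_neg_one] at h1
      have := mul_right_cancel h1
      rw [zpow_two]
      nth_rewrite 1 [this]
      exact inv_mul_cancel x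
    rw [h2]; simp
  intro m hm
  obtain ⟨i, hi⟩ := hall m
  have key : ∀ j : ℤ, x ^ j * t = t * x ^ j → x ^ j = 1 := by
    intro j hj
    rw [hxt] at hj
    have h2j : x ^ (2 * j) = 1 := by
      have := mul_right_cancel hj
      rw [two_mul, zpow_add]
      nth_rewrite 1 [this]
      rw [← zpow_add, neg_add_cancel, zpow_zero]
    have : x ^ (2 * k - 1) = 1 := by rw [zpow_sub, zpow_one, ← hk, mul_inv_cancel]
    calc x ^ j = x ^ (2 * j * k - (2 * k - 1) * j) := by ring_nf
      _ = (x ^ (2 * j)) ^ k / (x ^ (2 * k - 1)) ^ j := by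
        rw [zpow_sub, zpow_mul x (2 * j) k, zpow_mul x (2 * k - 1) j, div_eq_mul_inv]
      _ = 1 := by rw [h2j, this, one_zpow, one_zpow, div_one]
  rcases hi with rfl | rfl
  · rw [key i (hcent _ hm)]
    exact one_mem _
  · have h := hcent _ hm
    rw [mul_assoc, ← mul_assoc t] at h
    have : x ^ i * t = t * x ^ i := by
      have h' := congrArg (· * t) h
      simpa [mul_assoc, ht] using h'
    rw [key i this, one_mul]
    exact htY

section SL2

variable {F : Type*} [Field F] [Fintype F] {p : ℕ} [Fact p.Prime]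

omit [Fintype F] in
theorem upperUni_mul (x y : F) :
    Linear.upperUni x * Linear.upperUni y = Linear.upperUni (x + y) :=
  ((Linear.upperHom (F := F)).map_mul (Multiplicative.ofAdd x) (Multiplicative.ofAdd y)).symm

/-- The diagonal element. -/
def diag2 (a : Fˣ) : SL(2, F) := mk2 (a : F) 0 0 ((a⁻¹ : Fˣ) : F) (by simp)

omit [Fintype F] in
theorem diag2_conj (a : Fˣ) (x : F) :
    diag2 a * Linear.upperUni x * (diag2 a)⁻¹ = Linear.upperUni ((a : F) * a * x) := by
  rw [mul_inv_eq_iff_eq_mul]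
  apply Subtype.ext
  rw [Matrix.SpecialLinearGroup.coe_mul, Matrix.SpecialLinearGroup.coe_mul, Linear.upperUni_val,
    Linear.upperUni_val, diag2, mk2_val, Matrix.mul_fin_two, Matrix.mul_fin_two]
  ext i j
  fin_cases i <;> fin_cases j <;> simp
  field_simp

theorem FrakLQuot.isUniqueMinimal_of_SL_two [CharP F p] [Finite G] {L Y A : Subgroup G}
    {d : FrakLData p L Y A} {φ : ↥L →* SL(2, F)} (q : FrakLQuot d φ)
    (hc : Nat.card q.ybar = Fintype.card F) : IsUniqueMinimal p q.ybar := by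
  intro W hW hW1 hWn hexp
  have hK := q.ybar_isPGroup
  have hle : W ≤ q.ybar := fun w hw => by
    refine q.mem_ybar_of_normalizes (isPPow_mem_conj hK hc w ?_).1 (hW hw)
    obtain ⟨k, -, hk⟩ := (Nat.dvd_prime_pow Fact.out).mp
      (by rw [pow_one]; exact orderOf_dvd_of_pow_eq_one (hexp w hw) : orderOf w ∣ p ^ 1)
    exact ⟨k, hk⟩
  -- conjugate the root group to the upper unitriangular group
  obtain ⟨S, hS⟩ := hK.exists_le_sylow
  obtain ⟨c, hcS⟩ := MulAction.exists_smul_eq SL(2, F) (Linear.upperSylowSL p) S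
  have hYeq : (Linear.upperSL (F := F)).map (MulAut.conj c).toMonoidHom = q.ybar := by
    have hS' : q.ybar ≤ (Linear.upperSL (F := F)).map (MulAut.conj c).toMonoidHom := by
      rw [← hcS, Sylow.smul_def] at hS
      exact hS
    exact (eq_of_le_of_card_ge hS' (by
      rw [card_map_of_injective (MulAut.conj c).injective, Linear.card_upperSL, hc,
        Nat.card_eq_fintype_card])).symm
  have hinv : ∀ (a : Fˣ) (x : F), c * Linear.upperUni x * c⁻¹ ∈ W →
      c * Linear.upperUni ((a : F) * a * x) * c⁻¹ ∈ W := by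
    intro a x hx
    have hn : c * diag2 a * c⁻¹ ∈ normalizer (q.ybar : Set SL(2, F)) := by
      refine mem_normalizer_iff_map_conj_eq.mpr (eq_of_le_of_card_ge ?_
        (card_map_of_injective (MulAut.conj _).injective).ge)
      rintro _ ⟨y, hy, rfl⟩
      rw [← hYeq] at hy ⊢
      obtain ⟨u, hu, rfl⟩ := hy
      obtain ⟨z, rfl⟩ := Linear.mem_upperSL.mp hu
      refine ⟨_, Linear.upperUni_mem ((a : F) * a * z), ?_⟩
      show c * Linear.upperUni ((a : F) * a * z) * c⁻¹ =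
        c * diag2 a * c⁻¹ * (c * Linear.upperUni z * c⁻¹) * (c * diag2 a * c⁻¹)⁻¹
      rw [← diag2_conj]; group
    have := (mem_normalizer_iff.mp (hWn hn) _).mp hx
    rw [← diag2_conj]
    convert this using 1
    group
  let W' : AddSubgroup F :=
    { carrier := {x | c * Linear.upperUni x * c⁻¹ ∈ W}
      add_mem' := by
        intro x y hx hy
        have := W.mul_mem hx hy
        show c * Linear.upperUni (x + y) * c⁻¹ ∈ W
        rw [← upperUni_mul]
        convert this using 1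
        group
      zero_mem' := by
        have : Linear.upperUni (0 : F) = 1 := (Linear.upperHom (F := F)).map_one
        simp [this]
      neg_mem' := by
        intro x hx
        have := W.inv_mem hx
        show c * Linear.upperUni (-x) * c⁻¹ ∈ W
        have e : Linear.upperUni (-x) = (Linear.upperUni x)⁻¹ := by
          refine eq_inv_of_mul_eq_one_left ?_
          rw [upperUni_mul, neg_add_cancel]
          exact (Linear.upperHom (F := F)).map_one
        rw [e]
        convert this using 1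
        group }
  obtain ⟨⟨w, hw⟩, hw1⟩ := Subgroup.ne_bot_iff_exists_ne_one.mp hW1
  have hwY := hle hw
  rw [← hYeq] at hwY
  obtain ⟨u, hu, e⟩ := hwY
  obtain ⟨x, rfl⟩ := Linear.mem_upperSL.mp hu
  have hx0 : x ≠ 0 := by
    rintro rfl
    refine hw1 (Subtype.ext ?_)
    have h0 : Linear.upperUni (0 : F) = 1 := (Linear.upperHom (F := F)).map_one
    rw [h0, map_one] at e
    exact e.symm
  have hxW : x ∈ W' := by
    show c * Linear.upperUni x * c⁻¹ ∈ W
    exact (show c * Linear.upperUni x * c⁻¹ = w from e) ▸ hw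
  have hsq : ∀ b : F, b * b * x ∈ W' := by
    intro b
    by_cases hb : b = 0
    · subst hb; simp
    · exact hinv (Units.mk0 b hb) x hxW
  have hall : ∀ b : F, b * x ∈ W' := by
    intro b
    by_cases h2 : (2 : F) = 0
    · haveI : CharP F 2 := CharTwo.of_one_ne_zero_of_two_eq_zero one_ne_zero h2
      obtain ⟨r, hr⟩ := FiniteField.isSquare_of_char_two (ringChar.eq F 2) b
      exact hr ▸ hsq r
    · have := W'.sub_mem (hsq ((b + 1) / 2)) (hsq ((b - 1) / 2))
      convert this using 1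
      field_simp
      ring
  refine le_antisymm hle fun y hy => ?_
  rw [← hYeq] at hy
  obtain ⟨u, hu, rfl⟩ := hy
  obtain ⟨z, rfl⟩ := Linear.mem_upperSL.mp hu
  have := hall (z / x)
  rw [div_mul_cancel₀ z hx0] at this
  exact this

end SL2

section Sz

open CfsgLib.Suzuki

variable {F : Type*} [Field F] [Fintype F] {m : ℕ}

theorem FrakLQuot.isUniqueMinimal_of_sz [Finite G] (hS : SzField F m) {L Y A : Subgroup G}
    {d : FrakLData 2 L Y A} {φ : ↥L →* Cfsg.Sz F m} (q : FrakLQuot d φ)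
    (h2 : ∀ x ∈ q.ybar, x ^ 2 = 1) (hc : Nat.card q.ybar = Fintype.card F) :
    IsUniqueMinimal 2 q.ybar := by
  haveI : Fact (Nat.Prime 2) := ⟨Nat.prime_two⟩
  intro W hW hW1 hWn hexp
  have hle : W ≤ q.ybar := fun w hw =>
    q.mem_ybar_of_normalizes (inConj_of_sq hS h2 hc (hexp w hw)) (hW hw)
  obtain ⟨g, hg⟩ := exists_conj_mem_uniSub hS (K := q.ybar) q.ybar_isPGroup
  have hle' : q.ybar.map (MulAut.conj g).toMonoidHom ≤ uniCenter hS := by
    rintro _ ⟨x, hx, rfl⟩
    refine mem_uniCenter_of_sq hS (hg x hx) ?_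
    rw [← map_pow, h2 x hx, map_one]
  have hYeq := eq_of_le_of_card_ge hle'
    (by rw [card_map_of_injective (MulAut.conj g).injective, hc, card_uniCenter])
  obtain ⟨⟨w, hw⟩, hw1⟩ := Subgroup.ne_bot_iff_exists_ne_one.mp hW1
  obtain ⟨b, hb⟩ : g * w * g⁻¹ ∈ uniCenter hS := hle' ⟨w, hle hw, rfl⟩
  have hb0 : b ≠ 0 := by
    rintro rfl
    rw [uniEl_zero] at hb
    exact hw1 (Subtype.ext (conj_eq_one_iff.mp hb))
  refine le_antisymm hle fun y hy => ?_
  obtain ⟨z, hz⟩ : g * y * g⁻¹ ∈ uniCenter hS := hle' ⟨y, hy, rfl⟩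
  by_cases hz0 : z = 0
  · rw [hz0, uniEl_zero, conj_eq_one_iff] at hz
    rw [hz]
    exact one_mem _
  obtain ⟨μ, hμ⟩ := self_mul_θ_surjective hS (z / b)
  have hμ0 : μ ≠ 0 := by
    rintro rfl
    simp only [zero_mul] at hμ
    exact div_ne_zero hz0 hb0 hμ.symm
  have hconj : ∀ x : Cfsg.Sz F m, g⁻¹ * torSz hS (Units.mk0 μ hμ0) * g * x *
      (g⁻¹ * torSz hS (Units.mk0 μ hμ0) * g)⁻¹ =
      g⁻¹ * (torSz hS (Units.mk0 μ hμ0) * (g * x * g⁻¹) * (torSz hS (Units.mk0 μ hμ0))⁻¹) * g := by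
    intro x; group
  have hn : g⁻¹ * torSz hS (Units.mk0 μ hμ0) * g ∈ normalizer (q.ybar : Set (Cfsg.Sz F m)) := by
    refine mem_normalizer_iff_map_conj_eq.mpr (eq_of_le_of_card_ge ?_
      (card_map_of_injective (MulAut.conj _).injective).ge)
    rintro _ ⟨x, hx, rfl⟩
    obtain ⟨c, hc'⟩ : g * x * g⁻¹ ∈ uniCenter hS := hle' ⟨x, hx, rfl⟩
    have hmem : g⁻¹ * uniEl hS 0 (μ * θ m μ * c) * g ∈ q.ybar := by
      obtain ⟨x', hx', e⟩ : uniEl hS 0 (μ * θ m μ * c) ∈ q.ybar.map (MulAut.conj g).toMonoidHom :=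
        hYeq.symm ▸ uniCenter_mem hS _
      have e' : g * x' * g⁻¹ = uniEl hS 0 (μ * θ m μ * c) := e
      rw [← e']
      simpa [mul_assoc] using hx'
    show g⁻¹ * torSz hS (Units.mk0 μ hμ0) * g * x *
      (g⁻¹ * torSz hS (Units.mk0 μ hμ0) * g)⁻¹ ∈ q.ybar
    rw [hconj, hc', torSz_conj_uniEl, mul_zero]
    exact hmem
  have hmul : g⁻¹ * torSz hS (Units.mk0 μ hμ0) * g * w *
      (g⁻¹ * torSz hS (Units.mk0 μ hμ0) * g)⁻¹ = y := by
    rw [hconj, hb, torSz_conj_uniEl, mul_zero]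
    have : (Units.mk0 μ hμ0 : Fˣ).val * θ m (Units.mk0 μ hμ0 : Fˣ).val * b = z := by
      rw [Units.val_mk0]
      simp only at hμ
      rw [hμ, div_mul_cancel₀ z hb0]
    rw [this, ← hz]
    group
  exact hmul ▸ (mem_normalizer_iff.mp (hWn hn) w).mp hw

end Sz

theorem isUniqueMinimal_of_isInFrakL [Finite G] {p : ℕ} [Fact p.Prime] {M L : Subgroup G}
    (hL : Cfsg.IsInFrakL p M L) [hn : (Cfsg.pCore p ↥L).Normal] :
    ∃ (Q : Type) (_ : Group Q) (φ : ↥L →* Q) (q : FrakLQuot (frakLData_of_isInFrakL hL) φ),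
      IsUniqueMinimal p q.ybar := by
  have hY := LocalStructure.isReducedIn_largest (p := p) M
  have d := frakLData_of_isInFrakL hL
  have hcase := hL.2.2.2.2.2.2
  rcases hcase with ⟨F, _, _, hF, ⟨e⟩⟩ | ⟨rfl, F, _, _, m, hFm, hF, ⟨e⟩⟩ | ⟨rfl, r, hr, hr2, ⟨e⟩⟩
  · refine ⟨_, inferInstance, _, frakLQuot_of_equiv d e, ?_⟩
    have hc := (frakLQuot_of_equiv d e).card_ybar.trans hF.symm
    haveI : Finite (frakLQuot_of_equiv d e).ybar :=
      Nat.finite_of_card_ne_zero (hc.trans_ne Fintype.card_ne_zero)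
    haveI : CharP F p := charP_of_card_pGroup _ (frakLQuot_of_equiv d e).ybar_isPGroup hc
    exact (frakLQuot_of_equiv d e).isUniqueMinimal_of_SL_two hc
  · rcases Nat.eq_zero_or_pos m with rfl | hm
    · refine ⟨_, inferInstance, _, frakLQuot_of_equiv d e, ?_⟩
      refine (frakLQuot_of_equiv d e).isUniqueMinimal_of_card_two ?_
      rw [(frakLQuot_of_equiv d e).card_ybar.trans hF.symm, hFm]
      norm_num
    · have hS : Suzuki.SzField F m := ⟨hm, hFm⟩
      set e' := e.trans (Suzuki.lieSzEquiv hS).symm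
      refine ⟨_, inferInstance, _, frakLQuot_of_equiv d e', ?_⟩
      refine (frakLQuot_of_equiv d e').isUniqueMinimal_of_sz hS ?_
        ((frakLQuot_of_equiv d e').card_ybar.trans hF.symm)
      intro x hx
      obtain ⟨y, hy, rfl⟩ := mem_map.mp hx
      rw [← map_pow, (Subtype.ext (by simpa using hY.elab'.2 _ hy) : y ^ 2 = 1), map_one]
  · refine ⟨_, inferInstance, _, frakLQuot_of_equiv d e, ?_⟩
    refine (frakLQuot_of_equiv d e).isUniqueMinimal_of_card_two ?_
    haveI : NeZero r := ⟨hr.ne_zero⟩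
    have hne := (frakLQuot_of_equiv d e).ybar_ne_bot
    have hdvd := card_subgroup_dvd_card (frakLQuot_of_equiv d e).ybar
    obtain ⟨k, hk⟩ := IsPGroup.iff_card.mp (frakLQuot_of_equiv d e).ybar_isPGroup
    rw [hk, DihedralGroup.nat_card] at hdvd
    rw [hk]
    match k, hk, hdvd with
    | 0, hk, _ => exact absurd (eq_bot_of_card_eq _ (by simpa using hk)) hne
    | 1, _, _ => rfl
    | k + 2, _, hdvd =>
      exfalso
      have h2 : 2 ^ (k + 1) ∣ r := Nat.dvd_of_mul_dvd_mul_left two_pos (by rwa [← pow_succ'])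
      exact hr2 ((Nat.prime_dvd_prime_iff_eq Nat.prime_two hr).mp
        ((dvd_pow_self 2 k.succ_ne_zero).trans h2)).symm

theorem normalizer_quotient [Finite G] {p : ℕ} [Fact p.Prime] {M L : Subgroup G}
    (hL : Cfsg.IsInFrakL p M L) (NL : Subgroup G)
    (hNL : NL = L ⊓ normalizer ((Cfsg.largestPReducedOf p M : Subgroup G) : Set G))
    [hn : ((Cfsg.pCoreOf p L).subgroupOf NL).Normal] :
    let Ybar : Subgroup (↥NL ⧸ (Cfsg.pCoreOf p L).subgroupOf NL) :=
      ((Cfsg.largestPReducedOf p M).subgroupOf NL).map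
        (QuotientGroup.mk' ((Cfsg.pCoreOf p L).subgroupOf NL))
    Ybar ≠ ⊥ ∧ Ybar.Normal ∧ Cfsg.IsElementaryAbelian p Ybar ∧
      ∀ V : Subgroup (↥NL ⧸ (Cfsg.pCoreOf p L).subgroupOf NL), V.Normal →
        Cfsg.IsElementaryAbelian p V → V ≠ ⊥ → V = Ybar := by
  haveI := LocalStructure.pCore_normal (p := p) (G := ↥L)
  obtain ⟨Q, _, φ, q, huniq⟩ := isUniqueMinimal_of_isInFrakL hL
  have d := frakLData_of_isInFrakL hL
  have hr := LocalStructure.isReducedIn_largest (p := p) M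
  set Y := Cfsg.largestPReducedOf p M
  set A := Cfsg.pCoreOf p L
  have hNLL : NL ≤ L := hNL ▸ inf_le_left
  have hNLY : NL ≤ normalizer (Y : Set G) := hNL ▸ inf_le_right
  have hYNL : Y ≤ NL := hNL ▸ le_inf d.yL le_normalizer
  intro Ybar
  set π := QuotientGroup.mk' (A.subgroupOf NL) with hπ
  set ψ := φ.comp (inclusion hNLL) with hψ
  have hker : ψ.ker = π.ker := by
    ext x
    rw [QuotientGroup.ker_mk', MonoidHom.mem_ker, hψ, MonoidHom.comp_apply, q.ker, mem_subgroupOf]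
    rfl
  have hψY : (Y.subgroupOf NL).map ψ = q.ybar := by
    apply le_antisymm
    · rintro _ ⟨y, hy, rfl⟩
      exact mem_map.mpr ⟨inclusion hNLL y, hy, rfl⟩
    · rintro _ ⟨y, hy, rfl⟩
      exact mem_map.mpr ⟨⟨y, hYNL hy⟩, hy, rfl⟩
  have hY1 : Ybar ≠ ⊥ := by
    intro h
    refine q.ybar_ne_bot ?_
    rw [← hψY]
    have hle : Y.subgroupOf NL ≤ ψ.ker := hker ▸ (Subgroup.map_eq_bot_iff _).mp h
    exact (Subgroup.map_eq_bot_iff _).mpr hle
  haveI hYn : (Y.subgroupOf NL).Normal := (normal_subgroupOf_iff_le_normalizer hYNL).mpr hNLY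
  refine ⟨hY1, hYn.map _ (QuotientGroup.mk'_surjective _), ⟨⟨⟨?_⟩⟩, ?_⟩, ?_⟩
  · rintro ⟨a, ha⟩ ⟨b, hb⟩
    obtain ⟨a', ha', rfl⟩ := mem_map.mp ha
    obtain ⟨b', hb', rfl⟩ := mem_map.mp hb
    apply Subtype.ext
    show π a' * π b' = π b' * π a'
    rw [← map_mul, ← map_mul]
    exact congrArg π (Subtype.ext (d.ycomm _ ha' _ hb'))
  · intro a ha
    obtain ⟨a', ha', rfl⟩ := mem_map.mp ha
    rw [← map_pow, (Subtype.ext (by simpa using hr.elab'.2 _ ha') : a' ^ p = 1), map_one]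
  intro V hVn hVe hV1
  have hrange : ψ.range = normalizer (q.ybar : Set Q) := by
    apply le_antisymm
    · rintro _ ⟨x, rfl⟩
      exact q.map_mem_normalizer_iff.mpr (hNLY x.2)
    · intro z hz
      obtain ⟨x, rfl⟩ := q.surj z
      exact ⟨⟨x, hNL ▸ mem_inf.mpr ⟨x.2, q.map_mem_normalizer_iff.mp hz⟩⟩, rfl⟩
  set V₀ := V.comap π
  have hV₀ker : π.ker ≤ V₀ := π.ker_le_comap V
  have hW := huniq (V₀.map ψ) ?_ ?_ ?_ ?_
  · apply comap_injective (f := π) (QuotientGroup.mk'_surjective _)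
    show V₀ = Ybar.comap π
    rw [show Ybar.comap π = Y.subgroupOf NL ⊔ π.ker from comap_map_eq _ _, ← hker]
    rw [← comap_map_eq ψ, hψY, ← hW, comap_map_eq_self (hker ▸ hV₀ker)]
  · exact hrange ▸ map_le_range ψ V₀
  · intro h
    refine hV1 ?_
    rw [Subgroup.map_eq_bot_iff, hker] at h
    rw [← map_comap_eq_self_of_surjective (QuotientGroup.mk'_surjective _) V]
    exact (Subgroup.map_eq_bot_iff _).mpr h
  · rw [← hrange]
    haveI : V₀.Normal := hVn.comap π
    rintro _ ⟨x, rfl⟩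
    rw [mem_normalizer_iff]
    intro z
    constructor
    · rintro ⟨v, hv, rfl⟩
      exact ⟨x * v * x⁻¹, Normal.conj_mem inferInstance v hv x, by simp⟩
    · rintro ⟨v, hv, e⟩
      refine ⟨x⁻¹ * v * x⁻¹⁻¹, Normal.conj_mem inferInstance v hv x⁻¹, ?_⟩
      rw [map_mul, map_mul, e]; simp [mul_assoc]
  · rintro _ ⟨v, hv, rfl⟩
    have h1 : v ^ p ∈ ψ.ker := by
      rw [hker, MonoidHom.mem_ker, map_pow]
      exact hVe.2 _ hv
    rw [← map_pow]
    exact h1

end CfsgLib.LocalEven48
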