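import Cfsg.Agent.LocalEven48.FrakLSetup
import Cfsg.Prelude.Def_LocalStructure

/-!
# The data of a member of `𝔏_G(Y_M)`
-/

set_option autoImplicit false

open Subgroup

namespace CfsgLib.LocalEven48

variable {G : Type*} [Group G] {p : ℕ}

theorem le_of_normalClosure_le {L N S : Subgroup G} (hN : L ≤ normalizer (N : Set G))
    (hS : S ≤ N) {x : G} (hx : x ∈ (normalClosure ((S.subgroupOf L : Subgroup ↥L) : Set ↥L)).map
      L.subtype) : x ∈ N := by
  have hn : (N.subgroupOf L).Normal := ⟨fun n hn l =>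
    (mem_normalizer_iff.mp (hN l.2) n).mp hn⟩
  obtain ⟨y, hy, rfl⟩ := hx
  exact normalClosure_le_normal (N := N.subgroupOf L) (fun z hz => hS hz) hy

theorem frakLData_of_isInFrakL [Finite G] [Fact p.Prime] {M L : Subgroup G}
    (h : Cfsg.IsInFrakL p M L) :
    FrakLData p L (Cfsg.largestPReducedOf p M) (Cfsg.pCoreOf p L) := by
  obtain ⟨hY, hA, hAn, ⟨hgen, -⟩, hchar, ⟨hlt, hmax⟩, -⟩ := h
  have hr := LocalStructure.isReducedIn_largest (p := p) M
  refine
    { yp := LocalStructure.isElementaryAbelian_isPGroup hr.elab'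
      ycomm := fun a ha b hb => LocalStructure.elab_comm hr.elab' ha hb
      yL := hY
      aL := LocalStructure.pCoreOf_le L
      ap := LocalStructure.pCoreOf_isPGroup L
      an := LocalStructure.le_normalizer_pCoreOf L
      amax := fun N h1 h2 h3 => LocalStructure.le_pCoreOf h1 h2 h3
      aY := hAn
      agen := fun N h1 h2 x hx => ?_
      lgen := fun N h1 h2 x hx => ?_
      lmax := fun X h1 h2 => (hmax X h1 h2).trans inf_le_right
      lne := fun hle => hlt.ne (inf_eq_left.mpr hle)
      char := (LocalStructure.charP_iff L).mp hchar }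
  · rw [hA] at hx
    exact le_of_normalClosure_le h1 h2 hx
  · refine le_of_normalClosure_le h1 h2 (x := x) ?_
    rw [hgen]
    exact ⟨⟨x, hx⟩, mem_top _, rfl⟩

end CfsgLib.LocalEven48
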