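import Cfsg.Agent.LocalEven48.FrakLBuild

/-!
# The quotient `L ⧸ A` of a member of `𝔏_G(Y)`

`φ : L →* Q` stands for the quotient map, `Ybar` for the image of `Y`.  An element of `Q` is *good*
when none of its preimages fixes a nontrivial element of `A ⧸ C`.
-/

set_option autoImplicit false

open Subgroup
open scoped commutatorElement

namespace CfsgLib.LocalEven48

variable {G : Type*} [Group G] {Q : Type*} [Group Q]

/-- `x` lies in a conjugate of `K`. -/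
def InConj (K : Subgroup Q) (x : Q) : Prop := ∃ g : Q, g⁻¹ * x * g ∈ K

theorem InConj.of_mem {K : Subgroup Q} {x : Q} (h : x ∈ K) : InConj K x := ⟨1, by simpa using h⟩

theorem InConj.conj {K : Subgroup Q} {x : Q} (h : InConj K x) (c : Q) :
    InConj K (c * x * c⁻¹) := by
  obtain ⟨g, hg⟩ := h
  exact ⟨c * g, by simpa [mul_assoc] using hg⟩

/-- The quotient map of a member of `𝔏_G(Y)`. -/
structure FrakLQuot {p : ℕ} {L Y A : Subgroup G} (d : FrakLData p L Y A) (φ : ↥L →* Q) :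
    Prop where
  surj : Function.Surjective φ
  ker : ∀ x : ↥L, φ x = 1 ↔ (x : G) ∈ A

namespace FrakLQuot

variable {p : ℕ} {L Y A : Subgroup G} {d : FrakLData p L Y A} {φ : ↥L →* Q}

/-- The image of `Y`. -/
def ybar (_q : FrakLQuot d φ) : Subgroup Q := (Y.subgroupOf L).map φ

/-- No preimage of `m` fixes an element of `A ⧸ C` other than the identity. -/
def Good (_q : FrakLQuot d φ) (m : Q) : Prop :=
  ∀ x : ↥L, φ x = m → ∀ a ∈ A, ⁅(x : G), a⁆ ∈ d.fixC → a ∈ d.fixC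

theorem mem_stab_of_map_eq [Finite G] (q : FrakLQuot d φ) {x y : ↥L} (h : φ x = φ y) {a : G}
    (ha : a ∈ A) (hy : ⁅(y : G), a⁆ ∈ d.fixC) : ⁅(x : G), a⁆ ∈ d.fixC := by
  have h1 : (y : G)⁻¹ * x ∈ A := by
    have := (q.ker (y⁻¹ * x)).mp (by rw [map_mul, map_inv, h, inv_mul_cancel])
    simpa using this
  have h2 := mul_mem (d.mem_stab.mpr ⟨y.2, hy⟩) (d.A_le_stab ha h1)
  rw [mul_inv_cancel_left] at h2
  exact (d.mem_stab.mp h2).2

theorem good_of_pow [Finite G] (q : FrakLQuot d φ) {m : Q} {n : ℕ} (h : q.Good (m ^ n)) :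
    q.Good m := by
  intro x hx a ha hxa
  refine h (x ^ n) (by rw [map_pow, hx]) a ha ?_
  exact (d.mem_stab.mp (pow_mem (d.mem_stab.mpr ⟨x.2, hxa⟩) n)).2

theorem ybar_isPGroup (q : FrakLQuot d φ) : IsPGroup p q.ybar :=
  (d.yp.comap_subtype).map _

theorem card_ybar (q : FrakLQuot d φ) : Nat.card q.ybar = (Y ⊓ A).relIndex Y := by
  have hk : φ.ker = A.subgroupOf L := Subgroup.ext fun x => q.ker x
  rw [ybar, ← relIndex_ker, hk, relIndex_subgroupOf d.yL]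
  rw [inf_comm, inf_relIndex_right]

theorem conj_ybar_mem (q : FrakLQuot d φ) {g y : ↥L} (hy : (y : G) ∈ Y) :
    InConj q.ybar (φ (g * y * g⁻¹)) := by
  rw [map_mul, map_mul, map_inv]
  exact (InConj.of_mem (mem_map.mpr ⟨y, hy, rfl⟩)).conj _

theorem not_isPPow [Finite G] [Fact p.Prime] (q : FrakLQuot d φ) {x : ↥L}
    (h : ¬ ∃ k : ℕ, orderOf (x : G) = p ^ k) : ¬ ∃ k : ℕ, orderOf (φ x) = p ^ k := by
  rintro ⟨k, hk⟩
  have h1 : (x : G) ^ p ^ k ∈ A := by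
    have := (q.ker (x ^ p ^ k)).mp (by rw [map_pow, ← hk, pow_orderOf_eq_one])
    simpa using this
  obtain ⟨j, hj⟩ := d.ap ⟨_, h1⟩
  have h2 : (x : G) ^ p ^ (k + j) = 1 := by
    rw [pow_add, pow_mul]
    exact congrArg Subtype.val hj
  obtain ⟨i, -, hi⟩ := (Nat.dvd_prime_pow Fact.out).mp (orderOf_dvd_of_pow_eq_one h2)
  exact h ⟨i, hi⟩

/-- A product of two elements from conjugates of the image of `Y` which is not a `p`-element is
good. -/
theorem good_of_prod [Finite G] [Fact p.Prime] (q : FrakLQuot d φ) {m₁ m₂ : Q}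
    (h₁ : InConj q.ybar m₁) (h₂ : InConj q.ybar m₂)
    (hnp : ¬ ∃ k : ℕ, orderOf (m₁ * m₂) = p ^ k) : q.Good (m₁ * m₂) := by
  intro x hx a ha hxa
  obtain ⟨c₁, y₁, hy₁, e₁⟩ := h₁
  obtain ⟨c₂, y₂, hy₂, e₂⟩ := h₂
  obtain ⟨g₁, rfl⟩ := q.surj c₁
  obtain ⟨g₂, rfl⟩ := q.surj c₂
  set u₁ := g₁ * y₁ * g₁⁻¹ with hu₁
  set u₂ := g₂ * y₂ * g₂⁻¹ with hu₂
  have hm₁ : φ u₁ = m₁ := by rw [hu₁, map_mul, map_mul, map_inv, e₁]; group
  have hm₂ : φ u₂ = m₂ := by rw [hu₂, map_mul, map_mul, map_inv, e₂]; group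
  have hA : ((u₁ : G) * u₂)⁻¹ * x ∈ A := by
    have := (q.ker ((u₁ * u₂)⁻¹ * x)).mp (by
      rw [map_mul, map_inv, map_mul, hm₁, hm₂, hx, inv_mul_cancel])
    simpa using this
  have hc₁ : (u₁ : G) ∈ cnj (g₁ : G) Y := conj_mem_cnj hy₁
  have hc₂ : (u₂ : G) ∈ cnj (g₂ : G) Y := conj_mem_cnj hy₂
  have hs : ¬ ∃ k : ℕ, orderOf ((u₁ : G) * u₂ * (((u₁ : G) * u₂)⁻¹ * x)) = p ^ k := by
    rintro ⟨k, hk⟩
    rw [mul_inv_cancel_left, Subgroup.orderOf_coe] at hk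
    obtain ⟨i, -, hi⟩ := (Nat.dvd_prime_pow Fact.out).mp
      (hk ▸ orderOf_map_dvd φ x : orderOf (φ x) ∣ p ^ k)
    exact hnp ⟨i, hx ▸ hi⟩
  exact d.fixed_mem_C g₁.2 g₂.2 hc₁ hc₂ hA hs ha (by rwa [mul_inv_cancel_left])

/-- If an element squaring to `z` and another one squaring to `z` are both good, together with
their product, then `z` is good. -/
theorem good_of_two_roots [Finite G] (q : FrakLQuot d φ) {z j j' : Q} (hj : j * j = z)
    (hj' : j' * j' = z) (gj : q.Good j) (gj' : q.Good j') (gjj' : q.Good (j * j')) :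
    q.Good z := by
  intro x hx a ha hxa
  have key : ∀ w : ↥L, φ w * φ w = z → q.Good (φ w) →
      ∃ c ∈ d.fixC, (w : G) * a * (w : G)⁻¹ = c * a⁻¹ := by
    intro w hww gw
    set b := (w : G) * a * (w : G)⁻¹ with hb
    have hbA : b ∈ A := d.conj_A w.2 ha
    have hw2 : ⁅(w : G) * w, a⁆ ∈ d.fixC := by
      have := q.mem_stab_of_map_eq (x := w * w) (y := x) (by rw [map_mul, hww, hx]) ha hxa
      simpa using this
    set c := ⁅(w : G) * w, a⁆ with hc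
    have hcomm : ⁅b, a⁆ ∈ d.fixC := (d.mem_stab.mp (d.A_le_stab ha hbA)).2
    have e3 : b * c = c * b := mem_centralizer_iff.mp (mem_inf.mp hw2).2 _ (d.aL hbA)
    have e : ⁅(w : G), a * b⁆ = c * ⁅b, a⁆ := by
      calc ⁅(w : G), a * b⁆
          = b * ((w : G) * w * a * ((w : G) * w)⁻¹) * b⁻¹ * a⁻¹ := by
            rw [hb, commutatorElement_def]; group
        _ = (b * c) * a * b⁻¹ * a⁻¹ := by rw [hc, commutatorElement_def]; group
        _ = _ := by rw [e3, commutatorElement_def]; group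
    have hv : a * b ∈ d.fixC :=
      gw w rfl _ (A.mul_mem ha hbA) (e ▸ mul_mem hw2 hcomm)
    refine ⟨a * b, hv, ?_⟩
    calc b = a⁻¹ * (a * b) := by group
      _ = a * b * a⁻¹ := mem_centralizer_iff.mp (mem_inf.mp hv).2 _ (L.inv_mem (d.aL ha))
  obtain ⟨y, rfl⟩ := q.surj j
  obtain ⟨y', rfl⟩ := q.surj j'
  obtain ⟨c₁, hc₁, e₁⟩ := key y hj gj
  obtain ⟨c₂, hc₂, e₂⟩ := key y' hj' gj'
  refine gjj' (y * y') (map_mul φ y y') a ha ?_
  have e : ⁅((y * y' : ↥L) : G), a⁆ = c₂ * c₁⁻¹ := by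
    have h1 : (y : G) * c₂ = c₂ * y := mem_centralizer_iff.mp (mem_inf.mp hc₂).2 _ y.2
    have h2 : c₁⁻¹ * a⁻¹ = a⁻¹ * c₁⁻¹ :=
      (mem_centralizer_iff.mp (inv_mem (mem_inf.mp hc₁).2) _ (L.inv_mem (d.aL ha))).symm
    calc ⁅((y * y' : ↥L) : G), a⁆
        = (y : G) * ((y' : G) * a * (y' : G)⁻¹) * (y : G)⁻¹ * a⁻¹ := by
          rw [commutatorElement_def, Subgroup.coe_mul]; group
      _ = ((y : G) * c₂) * a⁻¹ * (y : G)⁻¹ * a⁻¹ := by rw [e₂]; group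
      _ = c₂ * ((y : G) * a * (y : G)⁻¹)⁻¹ * a⁻¹ := by rw [h1]; group
      _ = c₂ * a * (c₁⁻¹ * a⁻¹) := by rw [e₁]; group
      _ = c₂ * c₁⁻¹ := by rw [h2]; group
  exact e ▸ mul_mem hc₂ (inv_mem hc₁)

end FrakLQuot

end CfsgLib.LocalEven48
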