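import Cfsg.Agent.Linear.SylowChar
import Cfsg.Agent.LocalEven48.FrakLQuot

/-!
# Root elements of `SL₂` and members of `𝔏_G(Y)` with quotient `SL₂(q)`
-/

set_option autoImplicit false

open Subgroup Matrix
open scoped MatrixGroups commutatorElement

namespace CfsgLib.LocalEven48

variable {F : Type*} [Field F] [Fintype F] {p : ℕ} [Fact p.Prime]

/-- The element of `SL₂` with the given entries. -/
def mk2 (a b c d : F) (h : a * d - b * c = 1) : SL(2, F) :=
  ⟨!![a, b; c, d], by rw [Matrix.det_fin_two_of, h]⟩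

omit [Fintype F] in
theorem mk2_val (a b c d : F) (h : a * d - b * c = 1) : (mk2 a b c d h).1 = !![a, b; c, d] := rfl

omit [Fintype F] in
theorem mk2_inv_val (a b c d : F) (h : a * d - b * c = 1) :
    ((mk2 a b c d h)⁻¹).1 = !![d, -b; -c, a] := by
  rw [Matrix.SpecialLinearGroup.coe_inv, mk2_val, Matrix.adjugate_fin_two]
  simp

omit [Fintype F] in
theorem mk2_mul_val (a b c d a' b' c' d' : F) (h : a * d - b * c = 1) (h' : a' * d' - b' * c' = 1) :
    (mk2 a b c d h * mk2 a' b' c' d' h').1 =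
      !![a * a' + b * c', a * b' + b * d'; c * a' + d * c', c * b' + d * d'] := by
  rw [Matrix.SpecialLinearGroup.coe_mul, mk2_val, mk2_val, Matrix.mul_fin_two]

theorem charP_of_card_pGroup {H : Type*} [Group H] (K : Subgroup H) (hK : IsPGroup p K)
    [Finite K] (hc : Nat.card K = Fintype.card F) : CharP F p := by
  obtain ⟨k, hk⟩ := IsPGroup.iff_card.mp hK
  exact charP_of_card_eq_prime_pow (f := k) (by rw [← hc, hk])

variable [CharP F p]

/-- Elements of trace two have order dividing `p`. -/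
theorem pow_eq_one_of_trace (M : SL(2, F)) (h : M.1 0 0 + M.1 1 1 = 2) : M ^ p = 1 := by
  set N : Matrix (Fin 2) (Fin 2) F := M.1 - 1 with hN
  have hd : M.1 0 0 * M.1 1 1 - M.1 0 1 * M.1 1 0 = 1 := by
    have := M.2; rwa [Matrix.det_fin_two] at this
  have hNN : N * N = 0 := by
    rw [hN]
    ext i j
    fin_cases i <;> fin_cases j <;>
      simp [Matrix.mul_apply, Fin.sum_univ_two, Matrix.one_apply]
    · linear_combination (M.1 0 0) * h - hd
    · linear_combination (M.1 0 1) * h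
    · linear_combination (M.1 1 0) * h
    · linear_combination (M.1 1 1) * h - hd
  have hpow : ∀ n : ℕ, M.1 ^ n = 1 + n • N := by
    intro n
    induction n with
    | zero => simp
    | succ n ih =>
      have e : M.1 = 1 + N := by rw [hN]; abel
      rw [pow_succ, ih, e, add_mul, one_mul, smul_mul_assoc, mul_add, mul_one, hNN, add_zero,
        succ_nsmul]
      abel
  apply Subtype.ext
  rw [Matrix.SpecialLinearGroup.coe_pow, hpow, Matrix.SpecialLinearGroup.coe_one]
  ext i j
  simp [Matrix.smul_apply, CharP.cast_eq_zero F p]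

omit [Fintype F] in
theorem trace_conj (g M : SL(2, F)) :
    (g⁻¹ * M * g).1 0 0 + (g⁻¹ * M * g).1 1 1 = M.1 0 0 + M.1 1 1 := by
  rw [← Matrix.trace_fin_two, ← Matrix.trace_fin_two, Matrix.SpecialLinearGroup.coe_mul,
    Matrix.trace_mul_comm, ← Matrix.SpecialLinearGroup.coe_mul]
  congr 1
  rw [mul_inv_cancel_left]

variable {K : Subgroup SL(2, F)}

theorem isPPow_mem_conj (hK : IsPGroup p K) (hc : Nat.card K = Fintype.card F) (M : SL(2, F))
    (hM : ∃ k : ℕ, orderOf M = p ^ k) :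
    InConj K M ∧ InConj (Linear.upperSL (F := F)) M := by
  have hK' : ∀ S : Subgroup SL(2, F), IsPGroup p S → Nat.card S = Fintype.card F → InConj S M := by
    intro S hS hSc
    have hidx : ¬ p ∣ S.index := by
      have h := card_mul_index S
      rw [hSc, Linear.card_SL_two] at h
      rw [Nat.eq_of_mul_eq_mul_left Fintype.card_pos h]
      exact Linear.not_dvd_pow_sub_one p two_ne_zero
    obtain ⟨k, hk⟩ := hM
    have hz : IsPGroup p (zpowers M) := IsPGroup.of_card (n := k) (by rw [Nat.card_zpowers, hk])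
    obtain ⟨P, hP⟩ := hz.exists_le_sylow
    obtain ⟨g, hg⟩ := MulAction.exists_smul_eq SL(2, F) (hS.toSylow hidx) P
    refine ⟨g, ?_⟩
    have := hP (mem_zpowers M)
    rw [← hg, Sylow.smul_def] at this
    obtain ⟨s, hs, e⟩ := this
    have e' : g * s * g⁻¹ = M := e
    rw [← e']
    simpa [mul_assoc] using hs
  exact ⟨hK' K hK hc, hK' _ (Linear.isPGroup_upperSL p)
    (by rw [Linear.card_upperSL, Nat.card_eq_fintype_card])⟩

theorem isPPow_iff_trace (hK : IsPGroup p K) (hc : Nat.card K = Fintype.card F) (M : SL(2, F)) :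
    (∃ k : ℕ, orderOf M = p ^ k) ↔ M.1 0 0 + M.1 1 1 = 2 := by
  constructor
  · intro h
    obtain ⟨g, hg⟩ := (isPPow_mem_conj hK hc M h).2
    obtain ⟨x, hx⟩ := Linear.mem_upperSL.mp hg
    rw [← trace_conj g, ← hx, Linear.upperUni_val]
    simp; norm_num
  · intro h
    obtain ⟨k, -, hk⟩ := (Nat.dvd_prime_pow Fact.out).mp
      (by rw [pow_one]; exact orderOf_dvd_of_pow_eq_one (pow_eq_one_of_trace M h) :
        orderOf M ∣ p ^ 1)
    exact ⟨k, hk⟩

theorem inConj_of_trace (hK : IsPGroup p K) (hc : Nat.card K = Fintype.card F) (M : SL(2, F))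
    (h : M.1 0 0 + M.1 1 1 = 2) : InConj K M :=
  (isPPow_mem_conj hK hc M ((isPPow_iff_trace hK hc M).mpr h)).1

omit [CharP F p] [Fact p.Prime] [Fintype F] in
/-- A matrix which is not scalar is a product of two elements of trace two. -/
theorem exists_trace_two_factor (M : SL(2, F))
    (hns : M.1 0 1 ≠ 0 ∨ M.1 1 0 ≠ 0 ∨ M.1 0 0 ≠ M.1 1 1) :
    ∃ U : SL(2, F), U.1 0 0 + U.1 1 1 = 2 ∧ (U⁻¹ * M).1 0 0 + (U⁻¹ * M).1 1 1 = 2 := by
  set a := M.1 0 0
  set b := M.1 0 1
  set c := M.1 1 0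
  set d := M.1 1 1
  by_cases hc : c ≠ 0
  · refine ⟨mk2 1 ((a + d - 2) / c) 0 1 (by ring), by rw [mk2_val]; simp; norm_num, ?_⟩
    rw [Matrix.SpecialLinearGroup.coe_mul, mk2_inv_val]
    simp [Matrix.mul_apply, Fin.sum_univ_two]
    field_simp
    ring
  by_cases hb : b ≠ 0
  · refine ⟨mk2 1 0 ((a + d - 2) / b) 1 (by ring), by rw [mk2_val]; simp; norm_num, ?_⟩
    rw [Matrix.SpecialLinearGroup.coe_mul, mk2_inv_val]
    simp [Matrix.mul_apply, Fin.sum_univ_two]
    field_simp
    ring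
  push Not at hc hb
  have had : a - d ≠ 0 := sub_ne_zero.mpr (by
    rcases hns with h | h | h
    · exact absurd hb h
    · exact absurd hc h
    · exact h)
  set l := (a + d - 2) / (a - d) with hl
  refine ⟨mk2 (1 + l) (-l) l (1 - l) (by ring), by rw [mk2_val]; simp; ring, ?_⟩
  rw [Matrix.SpecialLinearGroup.coe_mul, mk2_inv_val]
  simp [Matrix.mul_apply, Fin.sum_univ_two]
  have hb' : M.1 0 1 = 0 := hb
  have hc' : M.1 1 0 = 0 := hc
  rw [hb', hc', hl]
  field_simp
  ring

namespace FrakLQuot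

variable {G : Type*} [Group G] {L Y A : Subgroup G} {d : FrakLData p L Y A}
  {φ : ↥L →* SL(2, F)}

/-- With quotient `SL₂(q)` and root group of order `q`, every element which is not a `p`-element is
good. -/
theorem good_of_SL_two [Finite G] (q : FrakLQuot d φ)
    (hc : Nat.card q.ybar = Fintype.card F) {M : SL(2, F)}
    (hnp : ¬ ∃ k : ℕ, orderOf M = p ^ k) : q.Good M := by
  have hK := q.ybar_isPGroup
  have ht := (isPPow_iff_trace hK hc M).not.mp hnp
  have main : ∀ N : SL(2, F), N.1 0 0 + N.1 1 1 ≠ 2 →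
      (N.1 0 1 ≠ 0 ∨ N.1 1 0 ≠ 0 ∨ N.1 0 0 ≠ N.1 1 1) → q.Good N := by
    intro N hN hns
    obtain ⟨U, h1, h2⟩ := exists_trace_two_factor N hns
    have := q.good_of_prod (inConj_of_trace hK hc U h1) (inConj_of_trace hK hc _ h2)
      (by rw [mul_inv_cancel_left]; exact (isPPow_iff_trace hK hc N).not.mpr hN)
    rwa [mul_inv_cancel_left] at this
  by_cases hns : M.1 0 1 ≠ 0 ∨ M.1 1 0 ≠ 0 ∨ M.1 0 0 ≠ M.1 1 1
  · exact main M ht hns
  push Not at hns
  obtain ⟨h01, h10, hdd⟩ := hns
  have hd := M.2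
  rw [Matrix.det_fin_two, h01, zero_mul, sub_zero, ← hdd] at hd
  have hm : M.1 0 0 = -1 := by
    rcases mul_self_eq_one_iff.mp hd with h | h
    · exact absurd (by rw [← hdd, h]; norm_num) ht
    · exact h
  have h2 : (2 : F) ≠ 0 := by
    intro h
    refine ht ?_
    rw [← hdd, hm]
    linear_combination -2 * h
  set j : SL(2, F) := mk2 0 1 (-1) 0 (by ring) with hj
  set j' : SL(2, F) := mk2 1 (-1) 2 (-1) (by ring) with hj'
  have e1 : j * j = M := by
    apply Subtype.ext
    ext a b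
    fin_cases a <;> fin_cases b <;> simp [hj, h01, h10, ← hdd, hm, mk2_val, mk2_mul_val]
  have e2 : j' * j' = M := by
    apply Subtype.ext
    ext a b
    fin_cases a <;> fin_cases b <;>
      simp [hj', h01, h10, ← hdd, hm, mk2_val, mk2_mul_val] <;> ring
  have g1 : q.Good j := main j (by simp [hj, mk2_val]; exact h2.symm) (Or.inl (by simp [hj, mk2_val]))
  have g2 : q.Good j' := main j' (by simp [hj', mk2_val]; exact h2.symm) (Or.inl (by simp [hj', mk2_val]))
  refine q.good_of_two_roots e1 e2 g1 g2 (main (j * j') ?_ (Or.inl ?_))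
  · simp [hj, hj', mk2_val, mk2_mul_val]
  · simp [hj, hj', mk2_val, mk2_mul_val]

end FrakLQuot

end CfsgLib.LocalEven48
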