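import Cfsg.Agent.Suzuki.Centralizers
import Cfsg.Agent.Suzuki.LieModel
import Cfsg.Agent.LocalEven48.FrakLQuot

/-!
# Involutions and elements of odd prime order in the Suzuki groups

Every element of odd prime order is inverted by an involution, and a subgroup of order `q` and
exponent two meets every class of involutions.
-/

set_option autoImplicit false
set_option linter.unusedSectionVars false

open Subgroup Polynomial
open scoped commutatorElement

namespace CfsgLib.LocalEven48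

open CfsgLib.Suzuki

local notation "SL4" F:max => Matrix.SpecialLinearGroup (Fin 4) F

variable {F : Type*} [Field F] [Fintype F] {m : ℕ}

/-- The matrix of an element of the Suzuki group. -/
def szMat : Cfsg.Sz F m →* Matrix (Fin 4) (Fin 4) F where
  toFun g := ((g : SL4 F) : Matrix (Fin 4) (Fin 4) F)
  map_one' := rfl
  map_mul' _ _ := rfl

theorem szMat_injective : Function.Injective (szMat (F := F) (m := m)) :=
  fun _ _ h => Subtype.ext (Subtype.ext h)

theorem mul_aeval_of_semiconj {n : ℕ} {P M N : Matrix (Fin n) (Fin n) F} (h : P * M = N * P)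
    (f : F[X]) : P * aeval M f = aeval N f * P := by
  induction f using Polynomial.induction_on' with
  | add a b ha hb => rw [map_add, map_add, mul_add, add_mul, ha, hb]
  | monomial k c =>
    rw [aeval_monomial, aeval_monomial, ← mul_assoc, ← Algebra.commutes c P, mul_assoc,
      (SemiconjBy.pow_right (show SemiconjBy P M N from h) k).eq, mul_assoc]

/-- A conjugate of an anisotropic element which is one of its powers is a Frobenius power. -/
theorem conj_pow_eq_frobenius (hS : SzField F m) {r : ℕ} (hr : Anis F r) {s g : Cfsg.Sz F m}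
    (hs : orderOf s = r) {k : ℕ} (hk : g * s * g⁻¹ = s ^ k) :
    ∃ j < 4, g * s * g⁻¹ = s ^ (Fintype.card F ^ j) := by
  obtain ⟨M, hM⟩ : ∃ M, M = szMat s := ⟨_, rfl⟩
  obtain ⟨hirr, hdeg⟩ : Irreducible (minpoly F M) ∧ (minpoly F M).natDegree = 4 :=
    hM ▸ anis_matrix hS hr hs
  haveI : Fact (Irreducible (minpoly F M)) := ⟨hirr⟩
  have hμ0 : minpoly F M ≠ 0 := hirr.ne_zero
  haveI : Module.Finite F (AdjoinRoot (minpoly F M)) := (AdjoinRoot.powerBasis hμ0).finite
  haveI : Finite (AdjoinRoot (minpoly F M)) := Module.finite_of_finite F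
  have hev : Function.Injective (minpolyEval M) := (minpolyEval M).toRingHom.injective
  set α := AdjoinRoot.root (minpoly F M)
  have hroot : aeval (α ^ k) (minpoly F M) = 0 := by
    apply hev
    rw [map_zero, ← Polynomial.aeval_algHom_apply, map_pow, minpolyEval_root]
    have h1 : szMat g * M = M ^ k * szMat g := by
      rw [hM, ← map_mul, ← map_pow, ← map_mul, ← hk, inv_mul_cancel_right]
    have h2 := mul_aeval_of_semiconj h1 (minpoly F M)
    rw [minpoly.aeval, mul_zero] at h2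
    calc aeval (M ^ k) (minpoly F M)
        = aeval (M ^ k) (minpoly F M) * szMat g * szMat g⁻¹ := by
          rw [mul_assoc, ← map_mul, mul_inv_cancel, map_one, mul_one]
      _ = 0 := by rw [← h2, zero_mul]
  let σ : AdjoinRoot (minpoly F M) →ₐ[F] AdjoinRoot (minpoly F M) :=
    AdjoinRoot.liftAlgHom (minpoly F M) (Algebra.ofId F _) (α ^ k) hroot
  obtain ⟨j, hj⟩ := (FiniteField.bijective_frobeniusAlgHom_pow F _).2 σ
  have hfr : Module.finrank F (AdjoinRoot (minpoly F M)) = 4 := by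
    rw [PowerBasis.finrank (AdjoinRoot.powerBasis hμ0), AdjoinRoot.powerBasis_dim, hdeg]
  refine ⟨j, lt_of_lt_of_eq j.2 hfr, ?_⟩
  have hσ : σ α = α ^ k := AdjoinRoot.lift_root hroot
  have h3 : α ^ (Fintype.card F ^ (j : ℕ)) = α ^ k := by
    rw [← hσ, ← hj]
    simp only [AlgHom.coe_pow, FiniteField.coe_frobeniusAlgHom, pow_iterate]
  have h4 := congrArg (minpolyEval M) h3
  rw [map_pow, map_pow, minpolyEval_root] at h4
  generalize (j : ℕ) = n at h4 ⊢
  rw [hM, ← map_pow, ← map_pow] at h4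
  rw [hk, szMat_injective h4]

theorem isCyclic_mem_zpowers {H : Type*} [Group H] [Finite H] [IsCyclic H] {s w : H}
    (hw : w ^ orderOf s = 1) : w ∈ zpowers s := by
  classical
  haveI := Fintype.ofFinite H
  set T : Finset H := Finset.univ.filter fun x => x ^ orderOf s = 1
  have hT : T.card ≤ orderOf s := IsCyclic.card_pow_eq_one_le (orderOf_pos s)
  set S : Finset H := Finset.univ.filter fun x => x ∈ zpowers s
  have hST : S ⊆ T := by
    intro x hx
    obtain ⟨i, rfl⟩ := mem_zpowers_iff.mp (Finset.mem_filter.mp hx).2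
    refine Finset.mem_filter.mpr ⟨Finset.mem_univ _, ?_⟩
    rw [← zpow_natCast, ← zpow_mul, mul_comm, zpow_mul, zpow_natCast, pow_orderOf_eq_one,
      one_zpow]
  have hS : S.card = orderOf s := by
    rw [← Nat.card_zpowers, Nat.card_eq_fintype_card, Fintype.card_subtype]
  have := Finset.eq_of_subset_of_card_le hST (hT.trans hS.ge)
  exact (Finset.mem_filter.mp (this ▸ Finset.mem_filter.mpr ⟨Finset.mem_univ _, hw⟩ : w ∈ S)).2

/-- An anisotropic element of prime order is conjugate to a nontrivial power of itself. -/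
theorem exists_conj_ne (hS : SzField F m) {r : ℕ} (hr : Anis F r) {s : Cfsg.Sz F m}
    (hs : orderOf s = r) : ∃ (g : Cfsg.Sz F m) (k : ℕ), g * s * g⁻¹ = s ^ k ∧ g * s * g⁻¹ ≠ s := by
  haveI := Fact.mk hr.prime
  haveI := isCyclic_centralizer_of_anis hS hr hs
  haveI hsimple := isSimpleGroup_sz hS
  have hp : IsPGroup r (zpowers s) :=
    IsPGroup.of_card (n := 1) (by rw [Nat.card_zpowers, hs, pow_one])
  obtain ⟨R, hR⟩ := hp.exists_le_sylow
  haveI := isCyclic_sylow hS (hr.ne_two hS) R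
  have hRs : (R : Subgroup (Cfsg.Sz F m)) ≤ centralizer {s} := fun x hx => by
    rw [mem_centralizer_singleton_iff]
    letI := IsCyclic.commGroup (α := R)
    exact congrArg Subtype.val (mul_comm (⟨x, hx⟩ : R) ⟨s, hR (mem_zpowers s)⟩)
  obtain ⟨g, hgN, hgC⟩ : ∃ g ∈ normalizer (R : Set (Cfsg.Sz F m)),
      g ∉ centralizer (R : Set (Cfsg.Sz F m)) := by
    refine SetLike.not_le_iff_exists.mp fun hle => ?_
    have hc := MonoidHom.ker_transferSylow_isComplement' R hle
    have hne : (R : Subgroup (Cfsg.Sz F m)) ≠ ⊥ := fun hb => by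
      have h1 : s ∈ (⊥ : Subgroup (Cfsg.Sz F m)) := hb ▸ hR (mem_zpowers s)
      rw [mem_bot] at h1
      rw [h1, orderOf_one] at hs
      exact hr.prime.ne_one hs.symm
    have hcard := hc.card_mul
    rcases (MonoidHom.normal_ker (MonoidHom.transferSylow R hle)).eq_bot_or_eq_top with hK | hK
    · rw [hK, Subgroup.card_bot, one_mul] at hcard
      obtain ⟨n, hn⟩ := IsPGroup.iff_card.mp R.2
      have h2 : 2 ∣ Nat.card (Cfsg.Sz F m) := by
        rw [card_sz hS]
        exact ((dvd_pow hS.even_card two_ne_zero).mul_right _).mul_right _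
      rw [← hcard, hn] at h2
      exact hr.ne_two hS ((Nat.prime_dvd_prime_iff_eq Nat.prime_two hr.prime).1
        (Nat.prime_two.dvd_of_dvd_pow h2)).symm
    · exact hne (disjoint_top.mp (hK ▸ hc.disjoint).symm)
  have hmemR : g * s * g⁻¹ ∈ R := (mem_normalizer_iff.mp hgN s).mp (hR (mem_zpowers s))
  have ho : orderOf (g * s * g⁻¹) = r := by
    rw [← MulAut.conj_apply g s]
    exact (MulEquiv.orderOf_eq (MulAut.conj g) s).trans hs
  have hmem : (⟨g * s * g⁻¹, hmemR⟩ : R) ∈ zpowers (⟨s, hR (mem_zpowers s)⟩ : R) :=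
    isCyclic_mem_zpowers (Subtype.ext (by
      rw [Subgroup.orderOf_mk, hs, SubgroupClass.coe_pow]
      have h := pow_orderOf_eq_one (g * s * g⁻¹)
      rw [ho] at h
      exact h))
  obtain ⟨k, hk⟩ := (isOfFinOrder_of_finite _).mem_powers_iff_mem_zpowers.mpr hmem
  refine ⟨g, k, (congrArg Subtype.val hk).symm, fun hgs => hgC ?_⟩
  rw [mem_centralizer_iff]
  intro x hx
  letI := IsCyclic.commGroup (α := centralizer ({s} : Set (Cfsg.Sz F m)))
  have hgc : g ∈ centralizer ({s} : Set (Cfsg.Sz F m)) :=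
    mem_centralizer_singleton_iff.mpr (by rw [← mul_inv_eq_iff_eq_mul]; exact hgs)
  exact congrArg Subtype.val
    (mul_comm (⟨x, hRs hx⟩ : centralizer ({s} : Set (Cfsg.Sz F m))) ⟨g, hgc⟩)

/-- An element of odd prime order is inverted by some element. -/
theorem exists_inverting (hS : SzField F m) {r : ℕ} (hr : r.Prime) (hr2 : r ≠ 2)
    {s : Cfsg.Sz F m} (hs : orderOf s = r) : ∃ g : Cfsg.Sz F m, g * s * g⁻¹ = s⁻¹ := by
  have hs1 : s ≠ 1 := fun h => hr.ne_one (by rw [← hs, h, orderOf_one])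
  by_cases hA : r ∣ Fintype.card F ^ 2 + 1
  · obtain ⟨g, k, hk, hne⟩ := exists_conj_ne hS ⟨hr, hA⟩ hs
    obtain ⟨j, hj4, hj⟩ := conj_pow_eq_frobenius hS ⟨hr, hA⟩ hs hk
    set q := Fintype.card F
    have hinv : s ^ (q ^ 2) = s⁻¹ := by
      refine eq_inv_of_mul_eq_one_left ?_
      rw [← pow_succ]
      exact orderOf_dvd_iff_pow_eq_one.mp (hs ▸ hA)
    have hiter : ∀ n : ℕ, g ^ n * s * (g ^ n)⁻¹ = s ^ (q ^ (j * n)) := by
      intro n
      induction n with
      | zero => simp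
      | succ n ih =>
        calc g ^ (n + 1) * s * (g ^ (n + 1))⁻¹ = g ^ n * (g * s * g⁻¹) * (g ^ n)⁻¹ := by
              rw [pow_succ]; group
          _ = (g ^ n * s * (g ^ n)⁻¹) ^ (q ^ j) := by rw [hj, conj_pow]
          _ = s ^ (q ^ (j * (n + 1))) := by rw [ih, ← pow_mul, ← pow_add, mul_add, mul_one]
    interval_cases j
    · exact absurd (by simpa using hj) hne
    · exact ⟨g ^ 2, by rw [hiter]; exact hinv⟩
    · exact ⟨g, by rw [hj]; exact hinv⟩
    · refine ⟨g ^ 2, ?_⟩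
      rw [hiter, show q ^ (3 * 2) = q ^ 2 * q ^ 2 * q ^ 2 by ring, pow_mul, pow_mul, hinv, inv_pow,
        hinv, inv_inv, hinv]
  · have hfix := fixesPoint_of_prime_order (F := F) (m := m) hr hA hs
    obtain ⟨c, hc⟩ := fixesPoint_cases hS hs1 hfix
    rcases hc with ⟨a, b, e⟩ | ⟨μ, -, e⟩
    · exfalso
      haveI : Fact (Nat.Prime 2) := ⟨Nat.prime_two⟩
      have ho : orderOf (c * s * c⁻¹) = r := by
        rw [← MulAut.conj_apply c s]
        exact (MulEquiv.orderOf_eq (MulAut.conj c) s).trans hs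
      obtain ⟨n, hn⟩ := (isPGroup_uniSub hS) ⟨c * s * c⁻¹, e ▸ uniEl_mem hS a b⟩
      have := orderOf_dvd_of_pow_eq_one (congrArg Subtype.val hn)
      simp only [] at this
      rw [ho] at this
      exact hr2 ((Nat.prime_dvd_prime_iff_eq hr Nat.prime_two).1 (hr.dvd_of_dvd_pow this))
    · refine ⟨c⁻¹ * weylEl hS * c, ?_⟩
      have hw : weylEl hS * torSz hS μ * (weylEl hS)⁻¹ = (torSz hS μ)⁻¹ := by
        rw [← map_inv]
        refine Subtype.ext ?_
        show weyl * tor m μ * (weyl : SL4 F)⁻¹ = tor m μ⁻¹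
        rw [inv_eq_of_mul_eq_one_right weyl_mul_weyl, weyl_conj_tor]
      calc c⁻¹ * weylEl hS * c * s * (c⁻¹ * weylEl hS * c)⁻¹
          = c⁻¹ * (weylEl hS * (c * s * c⁻¹) * (weylEl hS)⁻¹) * c := by group
        _ = c⁻¹ * (c * s * c⁻¹)⁻¹ * c := by rw [e, hw]
        _ = s⁻¹ := by group

/-- An element of odd prime order is inverted by an involution. -/
theorem exists_inverting_involution (hS : SzField F m) {r : ℕ} (hr : r.Prime) (hr2 : r ≠ 2)
    {s : Cfsg.Sz F m} (hs : orderOf s = r) :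
    ∃ h : Cfsg.Sz F m, h * h = 1 ∧ h * s * h⁻¹ = s⁻¹ := by
  have hs1 : s ≠ 1 := fun h => hr.ne_one (by rw [← hs, h, orderOf_one])
  by_cases hfix : FixesPoint s
  · obtain ⟨c, hc⟩ := fixesPoint_cases hS hs1 hfix
    rcases hc with ⟨a, b, e⟩ | ⟨μ, -, e⟩
    · exfalso
      haveI : Fact (Nat.Prime 2) := ⟨Nat.prime_two⟩
      have ho : orderOf (c * s * c⁻¹) = r := by
        rw [← MulAut.conj_apply c s]
        exact (MulEquiv.orderOf_eq (MulAut.conj c) s).trans hs
      obtain ⟨n, hn⟩ := (isPGroup_uniSub hS) ⟨c * s * c⁻¹, e ▸ uniEl_mem hS a b⟩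
      have := orderOf_dvd_of_pow_eq_one (congrArg Subtype.val hn)
      simp only [] at this
      rw [ho] at this
      exact hr2 ((Nat.prime_dvd_prime_iff_eq hr Nat.prime_two).1 (hr.dvd_of_dvd_pow this))
    · refine ⟨c⁻¹ * weylEl hS * c, ?_, ?_⟩
      · have hww : weylEl hS * weylEl hS = 1 := Subtype.ext weyl_mul_weyl
        calc c⁻¹ * weylEl hS * c * (c⁻¹ * weylEl hS * c)
            = c⁻¹ * (weylEl hS * weylEl hS) * c := by group
          _ = 1 := by rw [hww]; group
      have hw : weylEl hS * torSz hS μ * (weylEl hS)⁻¹ = (torSz hS μ)⁻¹ := by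
        rw [← map_inv]
        refine Subtype.ext ?_
        show weyl * tor m μ * (weyl : SL4 F)⁻¹ = tor m μ⁻¹
        rw [inv_eq_of_mul_eq_one_right weyl_mul_weyl, weyl_conj_tor]
      calc c⁻¹ * weylEl hS * c * s * (c⁻¹ * weylEl hS * c)⁻¹
          = c⁻¹ * (weylEl hS * (c * s * c⁻¹) * (weylEl hS)⁻¹) * c := by group
        _ = c⁻¹ * (c * s * c⁻¹)⁻¹ * c := by rw [e, hw]
        _ = s⁻¹ := by group
  obtain ⟨g, hg⟩ := exists_inverting hS hr hr2 hs
  obtain ⟨a, o, ho, hao⟩ := Nat.exists_eq_two_pow_mul_odd (orderOf_pos g).ne'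
  have hiter : ∀ n : ℕ, Odd n → g ^ n * s * (g ^ n)⁻¹ = s⁻¹ := by
    intro n hn
    obtain ⟨i, rfl⟩ := hn
    induction i with
    | zero => simpa using hg
    | succ i ih =>
      calc g ^ (2 * (i + 1) + 1) * s * (g ^ (2 * (i + 1) + 1))⁻¹
          = g * (g * (g ^ (2 * i + 1) * s * (g ^ (2 * i + 1))⁻¹) * g⁻¹) * g⁻¹ := by
            rw [show 2 * (i + 1) + 1 = 1 + (1 + (2 * i + 1)) by ring, pow_add, pow_add g 1,
              pow_one]; group
        _ = g * (g * s * g⁻¹)⁻¹ * g⁻¹ := by rw [ih]; group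
        _ = g * s * g⁻¹ := by conv_lhs => rw [hg, inv_inv]
        _ = s⁻¹ := hg
  set h := g ^ o with hh
  have hinv : h * s * h⁻¹ = s⁻¹ := hiter o ho
  refine ⟨h, ?_, hinv⟩
  by_contra hne
  have hcomm : h * h * s = s * (h * h) := by
    calc h * h * s = h * (h * s * h⁻¹) * h⁻¹ * (h * h) := by group
      _ = (h * s * h⁻¹)⁻¹ * (h * h) := by
        conv_lhs => rw [hinv]
        group
      _ = s * (h * h) := by rw [hinv, inv_inv]
  have hord : (h * h) ^ 2 ^ a = 1 := by
    rw [hh, ← pow_add, ← pow_mul]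
    exact orderOf_dvd_iff_pow_eq_one.mp ⟨2, by rw [hao]; ring⟩
  obtain ⟨i, -, hi⟩ := (Nat.dvd_prime_pow Nat.prime_two).mp (orderOf_dvd_of_pow_eq_one hord)
  have hi0 : i ≠ 0 := fun h0 => hne (orderOf_eq_one_iff.mp (by rw [hi, h0, pow_zero]))
  set t := (h * h) ^ (orderOf (h * h) / 2) with ht
  have hto : orderOf t = 2 :=
    orderOf_pow_orderOf_div (orderOf_pos _).ne' (hi ▸ dvd_pow_self 2 hi0)
  have htfix : FixesPoint t := fixesPoint_of_prime_order Nat.prime_two (by
    intro h2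
    have h3 : 2 ∣ Fintype.card F ^ 2 := dvd_pow hS.even_card two_ne_zero
    omega) hto
  refine hfix (htfix.of_commute hS (fun h1 => by rw [h1, orderOf_one] at hto; omega) ?_)
  exact ((show Commute s (h * h) from hcomm.symm).pow_right _).eq

theorem mem_uniCenter_of_sq (hS : SzField F m) {x : Cfsg.Sz F m} (hx : x ∈ uniSub hS)
    (h2 : x ^ 2 = 1) : x ∈ uniCenter hS := by
  obtain ⟨a, b, rfl⟩ := hx
  rw [pow_two, uniEl_sq, ← uniEl_zero hS, uniEl_eq_iff] at h2
  rcases mul_eq_zero.mp h2.2 with h | h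
  · exact θ_eq_zero.mp h ▸ uniCenter_mem hS b
  · exact h ▸ uniCenter_mem hS b

theorem exists_conj_mem_uniSub (hS : SzField F m) {K : Subgroup (Cfsg.Sz F m)}
    (hK : IsPGroup 2 K) : ∃ g : Cfsg.Sz F m, ∀ x ∈ K, g * x * g⁻¹ ∈ uniSub hS := by
  haveI : Fact (Nat.Prime 2) := ⟨Nat.prime_two⟩
  obtain ⟨P, hP⟩ := hK.exists_le_sylow
  obtain ⟨g, hg⟩ := MulAction.exists_smul_eq (Cfsg.Sz F m) P (uniSylow hS)
  refine ⟨g, fun x hx => ?_⟩
  rw [← uniSylow_coe, ← hg, Sylow.smul_def]
  exact ⟨x, hP hx, rfl⟩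

/-- A subgroup of order `q` and exponent two meets every conjugacy class of involutions. -/
theorem inConj_of_sq (hS : SzField F m) {K : Subgroup (Cfsg.Sz F m)}
    (h2 : ∀ x ∈ K, x ^ 2 = 1) (hc : Nat.card K = Fintype.card F) {t : Cfsg.Sz F m}
    (ht : t ^ 2 = 1) : InConj K t := by
  haveI : Fact (Nat.Prime 2) := ⟨Nat.prime_two⟩
  have hpow : ∀ (H : Subgroup (Cfsg.Sz F m)), (∀ x ∈ H, x ^ 2 = 1) → IsPGroup 2 H := fun H hH x =>
    ⟨1, Subtype.ext (by simpa using hH x x.2)⟩
  obtain ⟨g, hg⟩ := exists_conj_mem_uniSub hS (hpow K h2)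
  have hle : K.map (MulAut.conj g).toMonoidHom ≤ uniCenter hS := by
    rintro _ ⟨x, hx, rfl⟩
    refine mem_uniCenter_of_sq hS (hg x hx) ?_
    rw [← map_pow, h2 x hx, map_one]
  have heq := eq_of_le_of_card_ge hle
    (by rw [card_map_of_injective (MulAut.conj g).injective, hc, card_uniCenter])
  have hcyc : ∀ x ∈ zpowers t, x ^ 2 = 1 := by
    intro x hx
    obtain ⟨i, rfl⟩ := mem_zpowers_iff.mp hx
    rw [← zpow_natCast, ← zpow_mul, mul_comm, zpow_mul, zpow_natCast, ht, one_zpow]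
  obtain ⟨c, hc'⟩ := exists_conj_mem_uniSub hS (hpow _ hcyc)
  have hu : c * t * c⁻¹ ∈ uniCenter hS := by
    refine mem_uniCenter_of_sq hS (hc' t (mem_zpowers t)) ?_
    rw [conj_pow, ht]; group
  rw [← heq] at hu
  obtain ⟨x, hx, e⟩ := hu
  have e' : g * x * g⁻¹ = c * t * c⁻¹ := e
  refine ⟨c⁻¹ * g, ?_⟩
  have e'' : (c⁻¹ * g)⁻¹ * t * (c⁻¹ * g) = x := by
    calc (c⁻¹ * g)⁻¹ * t * (c⁻¹ * g) = g⁻¹ * (c * t * c⁻¹) * g := by group
      _ = x := by rw [← e']; group
  rw [e'']
  exact hx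

namespace FrakLQuot

variable {G : Type*} [Group G] {L Y A : Subgroup G} {d : FrakLData 2 L Y A}
  {φ : ↥L →* Cfsg.Sz F m}

/-- With quotient `Sz(q)`, `q ≥ 8`, and root group of order `q`, every element which is not a
`2`-element is good. -/
theorem good_of_sz [Finite G] (hS : SzField F m) (q : FrakLQuot d φ)
    (h2 : ∀ x ∈ q.ybar, x ^ 2 = 1) (hc : Nat.card q.ybar = Fintype.card F) {M : Cfsg.Sz F m}
    (hnp : ¬ ∃ k : ℕ, orderOf M = 2 ^ k) : q.Good M := by
  haveI : Fact (Nat.Prime 2) := ⟨Nat.prime_two⟩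
  obtain ⟨r, hr, hrd, hr2⟩ : ∃ r : ℕ, r.Prime ∧ r ∣ orderOf M ∧ r ≠ 2 := by
    by_contra hno
    push Not at hno
    exact hnp ⟨_, Nat.eq_prime_pow_of_unique_prime_dvd (orderOf_pos M).ne'
      (fun {d} hd hdd => hno d hd hdd)⟩
  refine q.good_of_pow (n := orderOf M / r) ?_
  set s := M ^ (orderOf M / r)
  have hs : orderOf s = r := orderOf_pow_orderOf_div (orderOf_pos M).ne' hrd
  obtain ⟨h, hh, hinv⟩ := exists_inverting_involution hS hr hr2 hs
  have e : s = h * (h * s) := by rw [← mul_assoc, hh, one_mul]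
  have hhs : (h * s) ^ 2 = 1 := by
    calc (h * s) ^ 2 = h * s * h⁻¹ * (h * h) * s := by rw [pow_two]; group
      _ = 1 := by rw [hinv, hh, mul_one, inv_mul_cancel]
  have hnps : ¬ ∃ k : ℕ, orderOf s = 2 ^ k := by
    rintro ⟨k, hk⟩
    rw [hs] at hk
    exact hr2 ((Nat.prime_dvd_prime_iff_eq hr Nat.prime_two).1
      (hr.dvd_of_dvd_pow (dvd_of_eq hk)))
  rw [e] at hnps ⊢
  exact q.good_of_prod (inConj_of_sq hS h2 hc (by rw [pow_two, hh]))
    (inConj_of_sq hS h2 hc hhs) hnps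

end FrakLQuot

end CfsgLib.LocalEven48
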