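import Cfsg.Agent.LocalEven48.FrakLTwo
import Cfsg.Agent.LocalEven48.SL2Roots
import Cfsg.Agent.LocalEven48.SzRoots

/-!
# Elements of a member of `𝔏_G(Y_M)` which are not `p`-elements act fixed-point-freely
-/

set_option autoImplicit false

open Subgroup
open scoped commutatorElement

namespace CfsgLib.LocalEven48

variable {G : Type*} [Group G] {p : ℕ}

theorem ker_comp_mk {L : Subgroup G} {Q : Type*} [Group Q] [hn : (Cfsg.pCore p ↥L).Normal]
    (e : ↥L ⧸ Cfsg.pCore p ↥L ≃* Q) (x : ↥L) :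
    (e.toMonoidHom.comp (QuotientGroup.mk' (Cfsg.pCore p ↥L))) x = 1 ↔
      (x : G) ∈ Cfsg.pCoreOf p L := by
  rw [MonoidHom.comp_apply]
  show e (QuotientGroup.mk x) = 1 ↔ _
  rw [MulEquiv.map_eq_one_iff, QuotientGroup.eq_one_iff]
  exact ⟨fun h => ⟨x, h, rfl⟩, fun ⟨y, hy, h⟩ => (Subtype.ext h : y = x) ▸ hy⟩

theorem frakLQuot_of_equiv {L Y : Subgroup G} (d : FrakLData p L Y (Cfsg.pCoreOf p L))
    {Q : Type*} [Group Q] [hn : (Cfsg.pCore p ↥L).Normal]
    (e : ↥L ⧸ Cfsg.pCore p ↥L ≃* Q) :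
    FrakLQuot d (e.toMonoidHom.comp (QuotientGroup.mk' (Cfsg.pCore p ↥L))) where
  surj := e.surjective.comp (QuotientGroup.mk'_surjective _)
  ker := ker_comp_mk e

theorem FrakLQuot.ybar_ne_bot [Finite G] {L Y A : Subgroup G} {d : FrakLData p L Y A}
    {Q : Type*} [Group Q] {φ : ↥L →* Q} (q : FrakLQuot d φ) : q.ybar ≠ ⊥ := by
  intro h
  have hYA : Y ≤ A := fun y hy => (q.ker ⟨y, d.yL hy⟩).mp
    (mem_bot.mp (h ▸ mem_map.mpr ⟨_, hy, rfl⟩))
  exact d.lne ((d.lgen A d.an hYA).trans d.aY)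

theorem fixed_point_free [Finite G] [Fact p.Prime] {M L : Subgroup G}
    (hL : Cfsg.IsInFrakL p M L) {h a : G} (hh : h ∈ L)
    (hnp : ¬ ∃ k : ℕ, orderOf h = p ^ k) (ha : a ∈ Cfsg.pCoreOf p L)
    (hha : ⁅h, a⁆ ∈ Cfsg.largestPReducedOf p M ⊓ centralizer (L : Set G)) :
    a ∈ Cfsg.largestPReducedOf p M ⊓ centralizer (L : Set G) := by
  haveI := LocalStructure.pCore_normal (p := p) (G := ↥L)
  have d := frakLData_of_isInFrakL hL
  have hY := LocalStructure.isReducedIn_largest (p := p) M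
  obtain ⟨-, -, -, -, -, -, hcase⟩ := hL
  have finish : ∀ {Q : Type} [Group Q] (e : ↥L ⧸ Cfsg.pCore p ↥L ≃* Q),
      (∀ (m : Q), (¬ ∃ k : ℕ, orderOf m = p ^ k) → (frakLQuot_of_equiv d e).Good m) →
      a ∈ Cfsg.largestPReducedOf p M ⊓ centralizer (L : Set G) := by
    intro Q _ e hgood
    exact hgood _ ((frakLQuot_of_equiv d e).not_isPPow (x := ⟨h, hh⟩) hnp) ⟨h, hh⟩ rfl a ha hha
  rcases hcase with ⟨F, _, _, hF, ⟨e⟩⟩ | ⟨rfl, F, _, _, m, hFm, hF, ⟨e⟩⟩ | ⟨rfl, r, hr, hr2, ⟨e⟩⟩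
  · refine finish e fun m hm => ?_
    have hc := (frakLQuot_of_equiv d e).card_ybar.trans hF.symm
    haveI : Finite (frakLQuot_of_equiv d e).ybar :=
      Nat.finite_of_card_ne_zero (hc.trans_ne Fintype.card_ne_zero)
    haveI : CharP F p := charP_of_card_pGroup _ (frakLQuot_of_equiv d e).ybar_isPGroup hc
    exact (frakLQuot_of_equiv d e).good_of_SL_two hc hm
  · have hexp : ∀ {Q : Type} [Group Q] (q' : ↥L ⧸ Cfsg.pCore 2 ↥L ≃* Q),
        ∀ x ∈ (frakLQuot_of_equiv d q').ybar, x ^ 2 = 1 := by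
      intro Q _ q' x hx
      obtain ⟨y, hy, rfl⟩ := mem_map.mp hx
      rw [← map_pow, (Subtype.ext (by simpa using hY.elab'.2 _ hy) : y ^ 2 = 1), map_one]
    have hc := fun {Q : Type} [Group Q] (q' : ↥L ⧸ Cfsg.pCore 2 ↥L ≃* Q) =>
      (frakLQuot_of_equiv d q').card_ybar.trans hF.symm
    rcases Nat.eq_zero_or_pos m with rfl | hm
    · refine finish e fun x hx => ?_
      exact (frakLQuot_of_equiv d e).good_of_card_two (by rw [hc, hFm]; norm_num) hx
    · have hS : Suzuki.SzField F m := ⟨hm, hFm⟩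
      refine finish (e.trans (Suzuki.lieSzEquiv hS).symm) fun x hx => ?_
      exact (frakLQuot_of_equiv d _).good_of_sz hS (hexp _) (hc _) hx
  · refine finish e fun x hx => ?_
    refine (frakLQuot_of_equiv d e).good_of_card_two ?_ hx
    haveI : NeZero r := ⟨hr.ne_zero⟩
    have hne := (frakLQuot_of_equiv d e).ybar_ne_bot
    have hdvd := card_subgroup_dvd_card (frakLQuot_of_equiv d e).ybar
    obtain ⟨k, hk⟩ := IsPGroup.iff_card.mp (frakLQuot_of_equiv d e).ybar_isPGroup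
    rw [hk, DihedralGroup.nat_card] at hdvd
    rw [hk]
    match k, hk, hdvd with
    | 0, hk, _ => exact absurd (eq_bot_of_card_eq _ (by simpa using hk)) hne
    | 1, _, _ => rfl
    | k + 2, _, hdvd =>
      exfalso
      have h2 : 2 ^ (k + 1) ∣ r := Nat.dvd_of_mul_dvd_mul_left two_pos (by rwa [← pow_succ'])
      exact hr2 ((Nat.prime_dvd_prime_iff_eq Nat.prime_two hr).mp
        ((dvd_pow_self 2 k.succ_ne_zero).trans h2)).symm

end CfsgLib.LocalEven48
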