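import Cfsg.Agent.LocalStructure.Reduced
import Cfsg.Agent.LocalStructure.Elements
import Cfsg.Agent.OddOrder.BG1Stab

/-!
# Abstract facts about a member of `𝔏_G(Y)`

`L` is generated by the conjugates of the abelian subgroup `Y`, `L ⊓ N(Y)` is its only maximal
subgroup over `Y`, and `A = O_p(L)` normalises `Y` and is generated by the conjugates of `Y ⊓ A`.
Writing `C = Y ⊓ C(L)`, the action of `L` on `A ⧸ C` is quadratic; `fixed_mem_C` says that a
product of two root elements which is not a `p`-element has no nontrivial fixed point on `A ⧸ C`.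
-/

set_option autoImplicit false

open Subgroup
open scoped commutatorElement

namespace CfsgLib.LocalEven48

variable {G : Type*} [Group G]

/-- Conjugate of a subgroup. -/
abbrev cnj (g : G) (X : Subgroup G) : Subgroup G := X.map (MulAut.conj g).toMonoidHom

theorem mem_cnj {g x : G} {X : Subgroup G} : x ∈ cnj g X ↔ g⁻¹ * x * g ∈ X := by
  constructor
  · rintro ⟨y, hy, rfl⟩
    simpa [mul_assoc] using hy
  · intro h
    exact ⟨_, h, by simp [mul_assoc]⟩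

theorem conj_mem_cnj {g x : G} {X : Subgroup G} (h : x ∈ X) : g * x * g⁻¹ ∈ cnj g X :=
  mem_cnj.mpr (by simpa [mul_assoc] using h)

theorem card_cnj (g : G) (X : Subgroup G) : Nat.card ↥(cnj g X) = Nat.card X :=
  card_map_of_injective (MulAut.conj g).injective

/-- The data carried by a member `L` of `𝔏_G(Y)`. -/
structure FrakLData (p : ℕ) (L Y A : Subgroup G) : Prop where
  yp : IsPGroup p Y
  ycomm : ∀ a ∈ Y, ∀ b ∈ Y, a * b = b * a
  yL : Y ≤ L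
  aL : A ≤ L
  ap : IsPGroup p A
  an : L ≤ normalizer (A : Set G)
  amax : ∀ N : Subgroup G, N ≤ L → L ≤ normalizer (N : Set G) → IsPGroup p N → N ≤ A
  aY : A ≤ normalizer (Y : Set G)
  agen : ∀ N : Subgroup G, L ≤ normalizer (N : Set G) → Y ⊓ A ≤ N → A ≤ N
  lgen : ∀ N : Subgroup G, L ≤ normalizer (N : Set G) → Y ≤ N → L ≤ N
  lmax : ∀ X : Subgroup G, Y ≤ X → X < L → X ≤ normalizer (Y : Set G)
  lne : ¬ L ≤ normalizer (Y : Set G)
  char : L ⊓ centralizer (A : Set G) ≤ A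

namespace FrakLData

variable {p : ℕ} {L Y A : Subgroup G}

/-- `C = C_Y(L)`. -/
def fixC (_d : FrakLData p L Y A) : Subgroup G := Y ⊓ centralizer (L : Set G)

theorem conj_L (_d : FrakLData p L Y A) {g x : G} (hg : g ∈ L) (hx : x ∈ L) : g * x * g⁻¹ ∈ L :=
  L.mul_mem (L.mul_mem hg hx) (L.inv_mem hg)

theorem cnj_le_L (d : FrakLData p L Y A) {g : G} (hg : g ∈ L) : cnj g Y ≤ L := by
  rintro _ ⟨y, hy, rfl⟩
  exact d.conj_L hg (d.yL hy)

theorem conj_A (d : FrakLData p L Y A) {g a : G} (hg : g ∈ L) (ha : a ∈ A) : g * a * g⁻¹ ∈ A :=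
  (mem_normalizer_iff.mp (d.an hg) a).mp ha

theorem comm_mem_A (d : FrakLData p L Y A) {x a : G} (hx : x ∈ L) (ha : a ∈ A) : ⁅x, a⁆ ∈ A :=
  A.mul_mem (d.conj_A hx ha) (A.inv_mem ha)

theorem aY' (d : FrakLData p L Y A) {g : G} (hg : g ∈ L) :
    A ≤ normalizer ((cnj g Y : Subgroup G) : Set G) := by
  rw [le_normalizer_iff]
  intro a ha x hx
  rw [mem_cnj] at hx ⊢
  have h1 : g⁻¹ * a * g ∈ A := by simpa using d.conj_A (L.inv_mem hg) ha
  have := (mem_normalizer_iff.mp (d.aY h1) _).mp hx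
  simpa [mul_assoc] using this

theorem comm_mem_cnj (d : FrakLData p L Y A) {g u a : G} (hg : g ∈ L) (hu : u ∈ cnj g Y)
    (ha : a ∈ A) : ⁅u, a⁆ ∈ cnj g Y := by
  have h := (mem_normalizer_iff.mp (d.aY' hg ha) u⁻¹).mp (inv_mem hu)
  have := (cnj g Y).mul_mem hu h
  simpa [commutatorElement_def, mul_assoc] using this

/-- The two conjugates `Y`, `Y^g` generate `L`. -/
theorem sup_cnj_eq [Finite G] (d : FrakLData p L Y A) {g : G} (hg : g ∈ L)
    (hgN : g ∉ normalizer (Y : Set G)) : Y ⊔ cnj g Y = L := by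
  refine ((sup_le d.yL (d.cnj_le_L hg)).lt_or_eq).resolve_left fun hlt => ?_
  set N := L ⊓ normalizer (Y : Set G) with hN
  have hYg : cnj g Y ≤ N :=
    le_inf (d.cnj_le_L hg) ((le_sup_right).trans (d.lmax _ le_sup_left hlt))
  have hNlt : N < L := lt_of_le_of_ne inf_le_left fun h => d.lne (h ▸ inf_le_right)
  have hX : cnj g⁻¹ N < L := by
    refine lt_of_le_of_ne ?_ fun h => ?_
    · rintro _ ⟨n, hn, rfl⟩
      exact d.conj_L (L.inv_mem hg) (mem_inf.mp hn).1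
    · have := card_lt_of_lt hNlt
      rw [← card_cnj g⁻¹ N, h] at this
      exact lt_irrefl _ this
  have hle : cnj g⁻¹ N ≤ N := by
    refine le_inf hX.le (d.lmax _ ?_ hX)
    intro y hy
    rw [mem_cnj, inv_inv]
    exact hYg (conj_mem_cnj hy)
  have hgNN : g ∈ normalizer (N : Set G) := by
    have : g⁻¹ ∈ normalizer (N : Set G) :=
      mem_normalizer_iff_map_conj_eq.mpr (eq_of_le_of_card_ge hle (card_cnj _ _).ge)
    simpa using inv_mem this
  rcases (inf_le_left : L ⊓ normalizer (N : Set G) ≤ L).lt_or_eq with h | h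
  · exact hgN (d.lmax _ ((le_inf d.yL le_normalizer).trans
      (le_inf inf_le_left le_normalizer)) h (mem_inf.mpr ⟨hg, hgNN⟩))
  · exact hNlt.not_ge (d.lgen N (inf_eq_left.mp h) (le_inf d.yL le_normalizer))
where
  card_lt_of_lt {H K : Subgroup G} [Finite G] (h : H < K) : Nat.card H < Nat.card K :=
    lt_of_not_ge fun hle => h.ne (eq_of_le_of_card_ge h.le hle)

theorem exists_g (d : FrakLData p L Y A) : ∃ g ∈ L, g ∉ normalizer (Y : Set G) :=
  SetLike.not_le_iff_exists.mp d.lne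

/-- `Y ∩ Y^g = C` when `Y` and `Y^g` generate `L`. -/
theorem inf_cnj_eq [Finite G] (d : FrakLData p L Y A) {g : G} (hg : g ∈ L)
    (hgN : g ∉ normalizer (Y : Set G)) : Y ⊓ cnj g Y = d.fixC := by
  apply le_antisymm
  · rintro c ⟨hc, hc'⟩
    refine mem_inf.mpr ⟨hc, ?_⟩
    have h : L ≤ centralizer ({c} : Set G) := by
      rw [← d.sup_cnj_eq hg hgN]
      refine sup_le (fun y hy => mem_centralizer_singleton_iff.mpr (d.ycomm y hy c hc)) fun x hx => ?_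
      rw [mem_centralizer_singleton_iff]
      have e := d.ycomm _ (mem_cnj.mp hx) _ (mem_cnj.mp hc')
      calc x * c = g * ((g⁻¹ * x * g) * (g⁻¹ * c * g)) * g⁻¹ := by group
        _ = g * ((g⁻¹ * c * g) * (g⁻¹ * x * g)) * g⁻¹ := by rw [e]
        _ = c * x := by group
    exact mem_centralizer_iff.mpr fun l hl => mem_centralizer_singleton_iff.mp (h hl)
  · rintro c ⟨hc, hc'⟩
    refine mem_inf.mpr ⟨hc, mem_cnj.mpr ?_⟩
    rw [mul_assoc, ← mem_centralizer_iff.mp hc' g hg, inv_mul_cancel_left]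
    exact hc

theorem C_le_cnj (d : FrakLData p L Y A) {g : G} (hg : g ∈ L) : d.fixC ≤ cnj g Y := by
  rintro c ⟨hc, hc'⟩
  rw [mem_cnj, mul_assoc, ← mem_centralizer_iff.mp hc' g hg, inv_mul_cancel_left]
  exact hc

theorem C_le_A (d : FrakLData p L Y A) : d.fixC ≤ A := by
  refine d.amax _ (inf_le_left.trans d.yL) (le_normalizer_iff.mpr fun l hl c hc => ?_)
    d.yp.to_inf_left
  rw [mem_centralizer_iff.mp (mem_inf.mp hc).2 l hl, mul_inv_cancel_right]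
  exact hc

theorem conj_C (d : FrakLData p L Y A) {g c : G} (hg : g ∈ L) (hc : c ∈ d.fixC) :
    g * c * g⁻¹ = c := by
  rw [mem_centralizer_iff.mp (mem_inf.mp hc).2 g hg, mul_inv_cancel_right]

/-- Every element of `A` is a product from `Y ∩ A` and `Y^g ∩ A`. -/
theorem exists_decomp [Finite G] (d : FrakLData p L Y A) {g : G} (hg : g ∈ L)
    (hgN : g ∉ normalizer (Y : Set G)) {v : G} (hv : v ∈ A) :
    ∃ a ∈ Y ⊓ A, ∃ b ∈ cnj g Y ⊓ A, a * b = v := by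
  set U := Y ⊓ A with hU
  set V := cnj g Y ⊓ A with hV
  have hY : Y ≤ normalizer ((U ⊔ V : Subgroup G) : Set G) := by
    rw [le_normalizer_iff_commutator_le_left]
    rw [commutator_le]
    intro x hx y hy
    have hle : U ⊔ V ≤ A := sup_le inf_le_right inf_le_right
    refine mem_sup_left (mem_inf.mpr ⟨?_, ?_⟩)
    · have h1 := (mem_normalizer_iff.mp (d.aY (hle hx)) y).mp hy
      simpa [commutatorElement_def] using Y.mul_mem h1 (Y.inv_mem hy)
    · have h1 := A.inv_mem (d.comm_mem_A (d.yL hy) (hle hx))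
      rwa [commutatorElement_inv] at h1
  have hY' : cnj g Y ≤ normalizer ((U ⊔ V : Subgroup G) : Set G) := by
    rw [le_normalizer_iff_commutator_le_left, commutator_le]
    intro x hx y hy
    have hle : U ⊔ V ≤ A := sup_le inf_le_right inf_le_right
    refine mem_sup_right (mem_inf.mpr ⟨?_, ?_⟩)
    · have h1 := (mem_normalizer_iff.mp (d.aY' hg (hle hx)) y).mp hy
      simpa [commutatorElement_def] using (cnj g Y).mul_mem h1 (inv_mem hy)
    · have h1 := A.inv_mem (d.comm_mem_A (d.cnj_le_L hg hy) (hle hx))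
      rwa [commutatorElement_inv] at h1
  have hL : L ≤ normalizer ((U ⊔ V : Subgroup G) : Set G) :=
    (d.sup_cnj_eq hg hgN).ge.trans (sup_le hY hY')
  have hv' := d.agen _ hL le_sup_left hv
  have hnorm : V ≤ normalizer (U : Set G) := by
    rw [le_normalizer_iff]
    intro x hx u hu
    exact mem_inf.mpr ⟨(mem_normalizer_iff.mp (d.aY (mem_inf.mp hx).2) u).mp (mem_inf.mp hu).1,
      d.conj_A (d.aL (mem_inf.mp hx).2) (mem_inf.mp hu).2⟩
  rw [← SetLike.mem_coe, coe_mul_of_right_le_normalizer_left U V hnorm] at hv'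
  obtain ⟨a, ha, b, hb, e⟩ := Set.mem_mul.mp hv'
  exact ⟨a, ha, b, hb, e⟩

/-- The stabiliser in `L` of the coset `aC`. -/
def stab (d : FrakLData p L Y A) (a : G) : Subgroup G where
  carrier := {x | x ∈ L ∧ ⁅x, a⁆ ∈ d.fixC}
  one_mem' := ⟨L.one_mem, by rw [commutatorElement_one_left]; exact one_mem _⟩
  mul_mem' := by
    rintro x y ⟨hx, hxa⟩ ⟨hy, hya⟩
    refine ⟨L.mul_mem hx hy, ?_⟩
    rw [commutatorElement_mul_left_eq_conj_mul, d.conj_C hx hya]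
    exact mul_mem hya hxa
  inv_mem' := by
    rintro x ⟨hx, hxa⟩
    refine ⟨L.inv_mem hx, ?_⟩
    have e : ⁅x⁻¹, a⁆ = x⁻¹ * ⁅x, a⁆⁻¹ * x⁻¹⁻¹ := by
      simp only [commutatorElement_def]; group
    rw [e, d.conj_C (L.inv_mem hx) (inv_mem hxa)]
    exact inv_mem hxa

theorem mem_stab (d : FrakLData p L Y A) {a x : G} : x ∈ d.stab a ↔ x ∈ L ∧ ⁅x, a⁆ ∈ d.fixC :=
  Iff.rfl

theorem comm_mul_right {x a b : G} : ⁅x, a * b⁆ = ⁅x, a⁆ * (a * ⁅x, b⁆ * a⁻¹) := by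
  simp only [commutatorElement_def]; group

/-- An element of `A` fixed by `Y` modulo `C` lies in `Y`. -/
theorem mem_Y_of_fixed [Finite G] (d : FrakLData p L Y A) {b : G} (hb : b ∈ A)
    (h : Y ≤ d.stab b) : b ∈ Y := by
  obtain ⟨g, hg, hgN⟩ := d.exists_g
  obtain ⟨a, ha, w, hw, rfl⟩ := d.exists_decomp hg hgN hb
  refine Y.mul_mem (mem_inf.mp ha).1 ?_
  have hwY : ∀ y ∈ Y, ⁅y, w⁆ ∈ d.fixC := by
    intro y hy
    obtain ⟨-, h1⟩ := h hy
    have h0 : ⁅y, a⁆ = 1 :=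
      commutatorElement_eq_one_iff_mul_comm.mpr (d.ycomm y hy a (mem_inf.mp ha).1)
    rw [comm_mul_right, h0, one_mul] at h1
    have := d.conj_C (L.inv_mem (d.yL (mem_inf.mp ha).1)) h1
    have e : ⁅y, w⁆ = a⁻¹ * (a * ⁅y, w⁆ * a⁻¹) * a⁻¹⁻¹ := by group
    rw [e, this]
    exact h1
  have hwg : ∀ x ∈ cnj g Y, ⁅x, w⁆ = 1 := fun x hx => by
    refine commutatorElement_eq_one_iff_mul_comm.mpr ?_
    have e := d.ycomm _ (mem_cnj.mp hx) _ (mem_cnj.mp (mem_inf.mp hw).1)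
    calc x * w = g * ((g⁻¹ * x * g) * (g⁻¹ * w * g)) * g⁻¹ := by group
      _ = g * ((g⁻¹ * w * g) * (g⁻¹ * x * g)) * g⁻¹ := by rw [e]
      _ = w * x := by group
  have hLstab : L ≤ d.stab w :=
    (d.sup_cnj_eq hg hgN).ge.trans (sup_le (fun y hy => ⟨d.yL hy, hwY y hy⟩)
      (fun x hx => ⟨d.cnj_le_L hg hx, by rw [hwg x hx]; exact one_mem _⟩))
  set K := L ⊓ centralizer ({w} : Set G) with hK
  have hKn : L ≤ normalizer (K : Set G) := by
    rw [le_normalizer_iff]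
    intro l hl x hx
    obtain ⟨hxL, hxw⟩ := mem_inf.mp hx
    refine mem_inf.mpr ⟨d.conj_L hl hxL, ?_⟩
    rw [mem_centralizer_singleton_iff] at hxw ⊢
    obtain ⟨-, hc⟩ := hLstab hl
    set c := ⁅l, w⁆ with hc'
    have e1 : l * w * l⁻¹ = c * w := by rw [hc', commutatorElement_def]; group
    have e2 : l * x * l⁻¹ * c = c * (l * x * l⁻¹) :=
      mem_centralizer_iff.mp (mem_inf.mp hc).2 _ (d.conj_L hl hxL)
    have e3 : l * x * l⁻¹ * (c * w) = c * w * (l * x * l⁻¹) := by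
      rw [← e1]
      calc l * x * l⁻¹ * (l * w * l⁻¹) = l * (x * w) * l⁻¹ := by group
        _ = l * (w * x) * l⁻¹ := by rw [hxw]
        _ = _ := by group
    rw [← mul_assoc, e2, mul_assoc c, mul_assoc c] at e3
    exact mul_left_cancel e3
  have hgK : cnj g Y ≤ K := fun x hx => mem_inf.mpr ⟨d.cnj_le_L hg hx,
    mem_centralizer_singleton_iff.mpr (commutatorElement_eq_one_iff_mul_comm.mp (hwg x hx))⟩
  have hLK : L ≤ K := d.lgen K hKn fun y hy => by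
    have := (mem_normalizer_iff.mp (hKn (L.inv_mem hg)) _).mp (hgK (conj_mem_cnj (g := g) hy))
    simpa [mul_assoc] using this
  have h1 : g * w = w * g := mem_centralizer_singleton_iff.mp (mem_inf.mp (hLK hg)).2
  have h2 := mem_cnj.mp (mem_inf.mp hw).1
  rwa [mul_assoc, ← h1, inv_mul_cancel_left] at h2

theorem eq_C_of_fixed [Finite G] (d : FrakLData p L Y A) {g b : G} (hg : g ∈ L)
    (hgN : g ∉ normalizer (Y : Set G)) (hb : b ∈ A) (hbg : b ∈ cnj g Y) (h : L ≤ d.stab b) :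
    b ∈ d.fixC := by
  rw [← d.inf_cnj_eq hg hgN]
  exact mem_inf.mpr ⟨d.mem_Y_of_fixed hb (d.yL.trans h), hbg⟩

/-- `Y ∩ N_L(Y^g) ≤ A`. -/
theorem mem_A_of_normalizes [Finite G] [Fact p.Prime] (d : FrakLData p L Y A) {g u : G}
    (hg : g ∈ L) (hgN : g ∉ normalizer (Y : Set G)) (hu : u ∈ Y)
    (hun : u ∈ normalizer ((cnj g Y : Subgroup G) : Set G)) : u ∈ A := by
  set K : Subgroup G := L ⊓ ⨅ a : A, d.stab (a : G) with hK
  have memK : ∀ x, x ∈ K ↔ x ∈ L ∧ ∀ a ∈ A, ⁅x, a⁆ ∈ d.fixC := fun x => by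
    simp only [hK, mem_inf, mem_iInf, mem_stab, Subtype.forall]
    exact and_congr_right fun hx => ⟨fun h a ha => (h a ha).2, fun h a ha => ⟨hx, h a ha⟩⟩
  have hKA : K ≤ A := by
    refine d.amax K inf_le_left (le_normalizer_iff.mpr fun l hl x hx => ?_) ?_
    · rw [memK] at hx ⊢
      refine ⟨d.conj_L hl hx.1, fun a ha => ?_⟩
      have ha' : l⁻¹ * a * l ∈ A := by simpa using d.conj_A (L.inv_mem hl) ha
      have h1 := hx.2 _ ha'
      have e : ⁅l * x * l⁻¹, a⁆ = l * ⁅x, l⁻¹ * a * l⁆ * l⁻¹ := by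
        simp only [commutatorElement_def]; group
      rw [e, d.conj_C hl h1]
      exact h1
    · refine LocalStructure.isPGroup_of_coprime_eq_one fun x hx hc => ?_
      rw [memK] at hx
      refine LocalStructure.eq_one_of_coprime_of_mem d.ap (d.char (mem_inf.mpr ⟨hx.1, ?_⟩)) hc
      rw [mem_centralizer_iff]
      intro a ha
      refine (OddOrder.Stab.commute_of_stab_mem (a := x) (x := a)
        (mem_centralizer_iff.mp (mem_inf.mp (hx.2 a ha)).2 x hx.1)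
        (d.comm_mem_A hx.1 ha) ?_).eq.symm
      obtain ⟨k, hk⟩ := IsPGroup.iff_card.mp d.ap
      rw [hk]
      exact hc.pow_right k
  refine hKA ((memK u).mpr ⟨d.yL hu, fun v hv => ?_⟩)
  obtain ⟨a, ha, b, hb, rfl⟩ := d.exists_decomp hg hgN hv
  have h0 : ⁅u, a⁆ = 1 :=
    commutatorElement_eq_one_iff_mul_comm.mpr (d.ycomm u hu a (mem_inf.mp ha).1)
  have h1 : ⁅u, b⁆ ∈ d.fixC := by
    rw [← d.inf_cnj_eq hg hgN]
    refine mem_inf.mpr ⟨?_, ?_⟩
    · have h2 := (mem_normalizer_iff.mp (d.aY (mem_inf.mp hb).2) u⁻¹).mp (inv_mem hu)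
      simpa [commutatorElement_def, mul_assoc] using Y.mul_mem hu h2
    · exact mul_mem ((mem_normalizer_iff.mp hun b).mp (mem_inf.mp hb).1)
        (inv_mem (mem_inf.mp hb).1)
  rw [comm_mul_right, h0, one_mul, d.conj_C (d.yL (mem_inf.mp ha).1) h1]
  exact h1

/-- A root element outside `A` only fixes `(Y ∩ A) ⧸ C`. -/
theorem mem_Y_of_fixed_one [Finite G] [Fact p.Prime] (d : FrakLData p L Y A) {u v : G}
    (hu : u ∈ Y) (huA : u ∉ A) (hv : v ∈ A) (h : ⁅u, v⁆ ∈ d.fixC) : v ∈ Y := by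
  obtain ⟨g, hg, hgN⟩ := d.exists_g
  obtain ⟨a, ha, b, hb, rfl⟩ := d.exists_decomp hg hgN hv
  refine Y.mul_mem (mem_inf.mp ha).1 ?_
  have h0 : ⁅u, a⁆ = 1 :=
    commutatorElement_eq_one_iff_mul_comm.mpr (d.ycomm u hu a (mem_inf.mp ha).1)
  rw [comm_mul_right, h0, one_mul] at h
  have hub : ⁅u, b⁆ ∈ d.fixC := by
    have := d.conj_C (L.inv_mem (d.yL (mem_inf.mp ha).1)) h
    have e : ⁅u, b⁆ = a⁻¹ * (a * ⁅u, b⁆ * a⁻¹) * a⁻¹⁻¹ := by group
    rw [e, this]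
    exact h
  have hsg : cnj g Y ≤ d.stab b := fun x hx => by
    refine ⟨d.cnj_le_L hg hx, ?_⟩
    have e := d.ycomm _ (mem_cnj.mp hx) _ (mem_cnj.mp (mem_inf.mp hb).1)
    have : ⁅x, b⁆ = 1 := commutatorElement_eq_one_iff_mul_comm.mpr (by
      calc x * b = g * ((g⁻¹ * x * g) * (g⁻¹ * b * g)) * g⁻¹ := by group
        _ = g * ((g⁻¹ * b * g) * (g⁻¹ * x * g)) * g⁻¹ := by rw [e]
        _ = b * x := by group)
    rw [this]
    exact one_mem _
  have hun : u ∉ normalizer ((cnj g Y : Subgroup G) : Set G) :=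
    fun hh => huA (d.mem_A_of_normalizes hg hgN hu hh)
  set g' := g⁻¹ * u * g with hg'
  have hg'L : g' ∈ L := by
    have := d.conj_L (L.inv_mem hg) (d.yL hu)
    simpa [hg'] using this
  have hg'N : g' ∉ normalizer (Y : Set G) := fun hh => hun (by
    rw [mem_normalizer_iff]
    intro x
    rw [mem_cnj, mem_cnj, mem_normalizer_iff.mp hh (g⁻¹ * x * g)]
    constructor <;> intro h' <;> simpa [hg', mul_assoc] using h')
  have hLs : L ≤ d.stab b := by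
    intro l hl
    have hus : u ∈ d.stab b := ⟨d.yL hu, hub⟩
    have hl' : g⁻¹ * l * g ∈ Y ⊔ cnj g' Y := by
      rw [d.sup_cnj_eq hg'L hg'N]
      have := d.conj_L (L.inv_mem hg) hl
      simpa using this
    have hle : Y ⊔ cnj g' Y ≤ (d.stab b).comap (MulAut.conj g).toMonoidHom := by
      refine sup_le (fun y hy => hsg (conj_mem_cnj hy)) fun x hx => ?_
      have h3 := mul_mem (mul_mem hus (hsg (conj_mem_cnj (g := g) (mem_cnj.mp hx)))) (inv_mem hus)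
      show g * x * g⁻¹ ∈ d.stab b
      have e : g * x * g⁻¹ = u * (g * (g'⁻¹ * x * g') * g⁻¹) * u⁻¹ := by rw [hg']; group
      rw [e]
      exact h3
    have := hle hl'
    simpa [mul_assoc] using this
  exact (mem_inf.mp (d.eq_C_of_fixed hg hgN (mem_inf.mp hb).2 (mem_inf.mp hb).1 hLs)).1

theorem mem_cnj_of_fixed_one [Finite G] [Fact p.Prime] (d : FrakLData p L Y A) {g u v : G}
    (hg : g ∈ L) (hu : u ∈ cnj g Y) (huA : u ∉ A) (hv : v ∈ A) (h : ⁅u, v⁆ ∈ d.fixC) :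
    v ∈ cnj g Y := by
  rw [mem_cnj] at hu ⊢
  refine d.mem_Y_of_fixed_one hu (fun hh => huA ?_) (by simpa using d.conj_A (L.inv_mem hg) hv) ?_
  · simpa [mul_assoc] using d.conj_A hg hh
  · have e : ⁅g⁻¹ * u * g, g⁻¹ * v * g⁆ = g⁻¹ * ⁅u, v⁆ * g⁻¹⁻¹ := by
      simp only [commutatorElement_def]; group
    rw [e, d.conj_C (L.inv_mem hg) h]
    exact h

theorem A_le_stab [Finite G] (d : FrakLData p L Y A) {v : G} (hv : v ∈ A) : A ≤ d.stab v := by
  obtain ⟨g, hg, hgN⟩ := d.exists_g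
  intro x hx
  obtain ⟨a₁, ha₁, b₁, hb₁, rfl⟩ := d.exists_decomp hg hgN hx
  obtain ⟨a, ha, b, hb, rfl⟩ := d.exists_decomp hg hgN hv
  obtain ⟨haY, haA⟩ := mem_inf.mp ha
  obtain ⟨hbY, hbA⟩ := mem_inf.mp hb
  have mixed : ∀ y z : G, y ∈ Y ⊓ A → z ∈ cnj g Y ⊓ A → ⁅y, z⁆ ∈ d.fixC := by
    intro y z hy hz
    rw [← d.inf_cnj_eq hg hgN]
    refine mem_inf.mpr ⟨?_, ?_⟩
    · have h2 := (mem_normalizer_iff.mp (d.aY (mem_inf.mp hz).2) y⁻¹).mp
        (inv_mem (mem_inf.mp hy).1)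
      simpa [commutatorElement_def, mul_assoc] using Y.mul_mem (mem_inf.mp hy).1 h2
    · have h2 := inv_mem (d.comm_mem_cnj hg (mem_inf.mp hz).1 (mem_inf.mp hy).2)
      rwa [commutatorElement_inv] at h2
  refine mul_mem ⟨d.aL (mem_inf.mp ha₁).2, ?_⟩ ⟨d.aL (mem_inf.mp hb₁).2, ?_⟩
  · have h0 : ⁅a₁, a⁆ = 1 :=
      commutatorElement_eq_one_iff_mul_comm.mpr (d.ycomm _ (mem_inf.mp ha₁).1 _ haY)
    rw [comm_mul_right, h0, one_mul, d.conj_C (d.aL haA) (mixed _ _ ha₁ hb)]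
    exact mixed _ _ ha₁ hb
  · have h0 : ⁅b₁, b⁆ = 1 := by
      rw [commutatorElement_eq_one_iff_mul_comm]
      have e := d.ycomm _ (mem_cnj.mp (mem_inf.mp hb₁).1) _ (mem_cnj.mp hbY)
      calc b₁ * b = g * ((g⁻¹ * b₁ * g) * (g⁻¹ * b * g)) * g⁻¹ := by group
        _ = g * ((g⁻¹ * b * g) * (g⁻¹ * b₁ * g)) * g⁻¹ := by rw [e]
        _ = b * b₁ := by group
    rw [comm_mul_right, h0, mul_one, mul_inv_cancel, mul_one, ← commutatorElement_inv]
    exact inv_mem (mixed _ _ ha hb₁)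

/-- A product of two root elements (times an element of `A`) which is not a `p`-element fixes
nothing outside `C`. -/
theorem fixed_mem_C [Finite G] [Fact p.Prime] (d : FrakLData p L Y A) {g₁ g₂ u₁ u₂ a v : G}
    (hg₁ : g₁ ∈ L) (hg₂ : g₂ ∈ L) (hu₁ : u₁ ∈ cnj g₁ Y) (hu₂ : u₂ ∈ cnj g₂ Y) (ha : a ∈ A)
    (hs : ¬ ∃ k : ℕ, orderOf (u₁ * u₂ * a) = p ^ k) (hv : v ∈ A)
    (h : ⁅u₁ * u₂ * a, v⁆ ∈ d.fixC) : v ∈ d.fixC := by
  set Y₁ := cnj g₁ Y with hY₁
  set Y₂ := cnj g₂ Y with hY₂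
  have hY₁p : IsPGroup p Y₁ := d.yp.map _
  have hY₂p : IsPGroup p Y₂ := d.yp.map _
  have hP : ∀ i : G, i ∈ L → IsPGroup p ↥(cnj i Y ⊔ A) := fun i hi =>
    (d.yp.map _).to_sup_of_normal_left' d.ap (d.aY' hi)
  have hno : ∀ i, i ∈ L → ¬ u₁ * u₂ * a ∈ cnj i Y ⊔ A := fun i hi hmem => by
    obtain ⟨k, hk⟩ := (hP i hi) ⟨_, hmem⟩
    obtain ⟨j, -, hj⟩ := (Nat.dvd_prime_pow Fact.out).mp
      (orderOf_dvd_of_pow_eq_one (congrArg Subtype.val hk))
    exact hs ⟨j, by simpa using hj⟩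
  have hu₁A : u₁ ∉ A := fun hh => hno g₂ hg₂
    (mul_mem (mul_mem (mem_sup_right hh) (mem_sup_left hu₂)) (mem_sup_right ha))
  have hu₂A : u₂ ∉ A := fun hh => hno g₁ hg₁
    (mul_mem (mul_mem (mem_sup_left hu₁) (mem_sup_right hh)) (mem_sup_right ha))
  set g := g₁⁻¹ * g₂ with hg
  have hgL : g ∈ L := L.mul_mem (L.inv_mem hg₁) hg₂
  have hgN : g ∉ normalizer (Y : Set G) := fun hh => by
    refine hno g₁ hg₁ (mul_mem (mul_mem (mem_sup_left hu₁) (mem_sup_left ?_)) (mem_sup_right ha))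
    rw [hY₂, mem_cnj] at hu₂
    rw [mem_cnj]
    have := (mem_normalizer_iff.mp hh _).mp hu₂
    simpa [hg, mul_assoc] using this
  have hinf : Y₁ ⊓ Y₂ ≤ d.fixC := by
    rintro c ⟨h1, h2⟩
    have h3 : g₁⁻¹ * c * g₁ ∈ d.fixC := by
      rw [← d.inf_cnj_eq hgL hgN]
      refine mem_inf.mpr ⟨mem_cnj.mp h1, mem_cnj.mpr ?_⟩
      simpa [hg, mul_assoc] using mem_cnj.mp h2
    have h4 := d.conj_C hg₁ h3
    rw [show g₁ * (g₁⁻¹ * c * g₁) * g₁⁻¹ = c by group] at h4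
    rw [h4]
    exact h3
  have hu₁L := d.cnj_le_L hg₁ hu₁
  have hu₂L := d.cnj_le_L hg₂ hu₂
  have h12 : u₁ * u₂ ∈ d.stab v := by
    have := mul_mem (⟨L.mul_mem (L.mul_mem hu₁L hu₂L) (d.aL ha), h⟩ : u₁ * u₂ * a ∈ d.stab v)
      (inv_mem (d.A_le_stab hv ha))
    simpa using this
  obtain ⟨-, hc⟩ := h12
  rw [commutatorElement_mul_left_eq_conj_mul] at hc
  have h1 : ⁅u₁, v⁆ ∈ Y₁ := d.comm_mem_cnj hg₁ hu₁ hv
  have h2 : ⁅u₂, v⁆ ∈ Y₁ := by
    have h3 := mul_mem (d.C_le_cnj hg₁ hc) (inv_mem h1)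
    have h4 := mul_mem (mul_mem (inv_mem hu₁) h3) hu₁
    have e : u₁⁻¹ * (u₁ * ⁅u₂, v⁆ * u₁⁻¹ * ⁅u₁, v⁆ * ⁅u₁, v⁆⁻¹) * u₁ = ⁅u₂, v⁆ := by group
    rwa [e] at h4
  have h5 : ⁅u₂, v⁆ ∈ d.fixC := hinf (mem_inf.mpr ⟨h2, d.comm_mem_cnj hg₂ hu₂ hv⟩)
  have h6 : ⁅u₁, v⁆ ∈ d.fixC := by
    have := mul_mem (inv_mem h5) hc
    rwa [d.conj_C hu₁L h5, inv_mul_cancel_left] at this
  exact hinf (mem_inf.mpr ⟨d.mem_cnj_of_fixed_one hg₁ hu₁ hu₁A hv h6,
    d.mem_cnj_of_fixed_one hg₂ hu₂ hu₂A hv h5⟩)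

end FrakLData

end CfsgLib.LocalEven48
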