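import Cfsg.Agent.LocalEven48.FrakLQuot

/-!
# Members of `𝔏_G(Y)` whose root groups have order two

The quotient is then generated by two involutions, so every element of odd order is a product of
two root elements.
-/

set_option autoImplicit false

open Subgroup
open scoped commutatorElement

namespace CfsgLib.LocalEven48

variable {Q : Type*} [Group Q]

/-- Two involutions generate a group in which every element is a power of their product, or a
conjugate of one of them. -/
theorem dihedral_cases (t t' : Q) (ht : t * t = 1) (ht' : t' * t' = 1) {z : Q}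
    (hz : z ∈ closure ({t, t'} : Set Q)) :
    ∃ i : ℤ, z = (t * t') ^ i ∨ z = (t * t') ^ i * t := by
  set x := t * t' with hx
  have htinv : t⁻¹ = t := inv_eq_of_mul_eq_one_right ht
  have ht'inv : t'⁻¹ = t' := inv_eq_of_mul_eq_one_right ht'
  have hxt : ∀ j : ℤ, t * x ^ j = x ^ (-j) * t := by
    intro j
    have h1 : t * x * t⁻¹ = x⁻¹ := by
      rw [hx, mul_inv_rev, ht'inv, htinv, ← mul_assoc, ht, one_mul]
    calc t * x ^ j = t * x ^ j * t⁻¹ * t := by group
      _ = (t * x * t⁻¹) ^ j * t := by rw [conj_zpow]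
      _ = x ^ (-j) * t := by rw [h1, inv_zpow']
  refine closure_induction ?_ ⟨0, Or.inl (zpow_zero x).symm⟩ ?_ ?_ hz
  · rintro y (rfl | rfl)
    · exact ⟨0, Or.inr (by rw [zpow_zero, one_mul])⟩
    · refine ⟨-1, Or.inr ?_⟩
      rw [zpow_neg_one, hx, mul_inv_rev, ht'inv, htinv, mul_assoc, ht, mul_one]
  · rintro a b - - ⟨i, rfl | rfl⟩ ⟨j, rfl | rfl⟩
    · exact ⟨i + j, Or.inl (zpow_add x i j).symm⟩
    · exact ⟨i + j, Or.inr (by rw [← mul_assoc, zpow_add])⟩
    · exact ⟨i + -j, Or.inr (by rw [mul_assoc, hxt, ← mul_assoc, zpow_add])⟩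
    · refine ⟨i + -j, Or.inl ?_⟩
      rw [mul_assoc, ← mul_assoc t, hxt, mul_assoc (x ^ (-j)), ht, mul_one, zpow_add]
  · rintro a - ⟨i, rfl | rfl⟩
    · exact ⟨-i, Or.inl (zpow_neg x i).symm⟩
    · refine ⟨i, Or.inr ?_⟩
      rw [mul_inv_rev, htinv, ← zpow_neg, hxt, neg_neg]

/-- All the involutions of the second kind are conjugates of the generators. -/
theorem inConj_zpow_mul (t t' : Q) (ht : t * t = 1) (ht' : t' * t' = 1) {K : Subgroup Q}
    (hK : InConj K t) (hK' : InConj K t') (i : ℤ) : InConj K ((t * t') ^ i * t) := by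
  set x := t * t' with hx
  have htinv : t⁻¹ = t := inv_eq_of_mul_eq_one_right ht
  have ht'inv : t'⁻¹ = t' := inv_eq_of_mul_eq_one_right ht'
  have hxt : ∀ k : ℤ, t * x ^ (-k) = x ^ k * t := by
    intro k
    have h1 : t * x * t⁻¹ = x⁻¹ := by
      rw [hx, mul_inv_rev, ht'inv, htinv, ← mul_assoc, ht, one_mul]
    calc t * x ^ (-k) = (t * x * t⁻¹) ^ (-k) * t := by rw [conj_zpow]; group
      _ = x ^ k * t := by rw [h1, inv_zpow', neg_neg]
  rcases Int.even_or_odd i with ⟨k, rfl⟩ | ⟨k, rfl⟩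
  · have h := hK.conj (x ^ k)
    rwa [mul_assoc, ← zpow_neg, hxt, ← mul_assoc, ← zpow_add] at h
  · have hb : InConj K (x * t) := by
      have := hK'.conj t
      rwa [htinv] at this
    have h := hb.conj (x ^ k)
    rwa [mul_assoc, mul_assoc x, ← zpow_neg, hxt, ← mul_assoc x, ← zpow_one_add, ← mul_assoc,
      ← zpow_add, show k + (1 + k) = 2 * k + 1 by ring] at h

namespace FrakLQuot

variable {G : Type*} [Group G] {L Y A : Subgroup G} {d : FrakLData 2 L Y A} {φ : ↥L →* Q}

/-- If the image of `Y` has order two, every element which is not a `2`-element is good. -/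
theorem good_of_card_two [Finite G] (q : FrakLQuot d φ) (h2 : Nat.card q.ybar = 2) {m : Q}
    (hnp : ¬ ∃ k : ℕ, orderOf m = 2 ^ k) : q.Good m := by
  haveI : Fact (Nat.Prime 2) := ⟨Nat.prime_two⟩
  obtain ⟨g, hg, hgN⟩ := d.exists_g
  haveI : Finite q.ybar := Nat.finite_of_card_ne_zero (by omega)
  have hnt : q.ybar ≠ ⊥ := fun h => by rw [h, Subgroup.card_bot] at h2; omega
  obtain ⟨⟨t, htY⟩, ha⟩ := Subgroup.ne_bot_iff_exists_ne_one.mp hnt
  have ht1 : t ≠ 1 := fun h => ha (Subtype.ext h)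
  have ht : t * t = 1 := by
    have := pow_card_eq_one' (G := q.ybar) (x := ⟨t, htY⟩)
    rw [h2, pow_two] at this
    exact congrArg Subtype.val this
  have honly : ∀ z ∈ q.ybar, z = 1 ∨ z = t := by
    intro z hz
    obtain ⟨a, b, hab, huniv⟩ := (Nat.card_eq_two_iff (α := q.ybar)).mp h2
    have hmem : ∀ w : q.ybar, w = a ∨ w = b := fun w => by
      have : w ∈ ({a, b} : Set q.ybar) := huniv ▸ Set.mem_univ w
      exact this
    rcases hmem ⟨z, hz⟩ with e | e <;> rcases hmem 1 with e1 | e1 <;>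
      rcases hmem ⟨t, htY⟩ with e2 | e2 <;>
      simp only [Subtype.ext_iff] at e e1 e2 <;>
      first
        | exact Or.inl (e.trans e1.symm)
        | exact Or.inr (e.trans e2.symm)
        | exact absurd (e2.trans e1.symm) ht1
  set c := φ ⟨g, hg⟩ with hc
  set t' := c * t * c⁻¹ with ht'def
  have ht' : t' * t' = 1 := by
    rw [ht'def]
    calc c * t * c⁻¹ * (c * t * c⁻¹) = c * (t * t) * c⁻¹ := by group
      _ = 1 := by rw [ht]; group
  have hgen : ∀ z : Q, z ∈ closure ({t, t'} : Set Q) := by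
    set K := (closure ({t, t'} : Set Q)).comap φ with hK
    have hY : Y ≤ K.map L.subtype := by
      intro y hy
      refine ⟨⟨y, d.yL hy⟩, ?_, rfl⟩
      rcases honly _ (mem_map.mpr ⟨⟨y, d.yL hy⟩, hy, rfl⟩) with h | h
      · exact (mem_comap).mpr (h ▸ one_mem _)
      · exact (mem_comap).mpr (h ▸ subset_closure (Or.inl rfl))
    have hY' : cnj g Y ≤ K.map L.subtype := by
      rintro _ ⟨y, hy, rfl⟩
      refine ⟨⟨g, hg⟩ * ⟨y, d.yL hy⟩ * ⟨g, hg⟩⁻¹, mem_comap.mpr ?_, rfl⟩
      rw [map_mul, map_mul, map_inv, ← hc]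
      rcases honly _ (mem_map.mpr ⟨⟨y, d.yL hy⟩, hy, rfl⟩) with h | h
      · rw [h, mul_one, mul_inv_cancel]; exact one_mem _
      · rw [h]; exact subset_closure (Or.inr rfl)
    intro z
    obtain ⟨x, rfl⟩ := q.surj z
    obtain ⟨w, hw, e⟩ := (d.sup_cnj_eq hg hgN).ge.trans (sup_le hY hY') x.2
    exact (Subtype.ext e : w = x) ▸ mem_comap.mp hw
  have hK : InConj q.ybar t := .of_mem htY
  obtain ⟨i, rfl | rfl⟩ := dihedral_cases t t' ht ht' (hgen m)
  · have e : (t * t') ^ i = (t * t') ^ i * t * t := by rw [mul_assoc, ht, mul_one]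
    rw [e] at hnp ⊢
    exact q.good_of_prod (inConj_zpow_mul t t' ht ht' hK (hK.conj c) i) hK hnp
  · refine absurd ?_ hnp
    obtain ⟨w, hw⟩ := inConj_zpow_mul t t' ht ht' hK (hK.conj c) i
    set m := (t * t') ^ i * t
    have hm2 : (w⁻¹ * m * w) ^ 2 = 1 := by
      rcases honly _ hw with h | h <;> rw [h]
      · exact one_pow 2
      · rw [pow_two, ht]
    have : m ^ 2 = 1 := by
      have e : m ^ 2 = w * (w⁻¹ * m * w) ^ 2 * w⁻¹ := by rw [pow_two, pow_two]; group
      rw [e, hm2]; group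
    obtain ⟨k, -, hk⟩ := (Nat.dvd_prime_pow Nat.prime_two).mp
      (by simpa using orderOf_dvd_of_pow_eq_one this : orderOf m ∣ 2 ^ 1)
    exact ⟨k, hk⟩

end FrakLQuot

end CfsgLib.LocalEven48
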