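import Mathlib.LinearAlgebra.Matrix.GeneralLinearGroup.Defs
import Mathlib.GroupTheory.SpecificGroups.Alternating
import Mathlib.Data.ZMod.Units
import Mathlib.Tactic

/-!
Subgroups `A₄` of `GL₂(ℤ/2ᵏ)`: an element of order three is the companion matrix of
`X² + X + 1` in a suitable basis, and then the four group is determined.
-/

namespace CfsgLib.LocalEven48.GL2A4

open Matrix

section Ring

variable {R : Type*} [CommRing R]

/-- The companion matrix of `X² + X + 1`. -/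
def sg : Matrix (Fin 2) (Fin 2) R := !![0, -1; 1, -1]

/-- `(p + q ω) + (u + v ω) τ` as a matrix. -/
def mk (p q u v : R) : Matrix (Fin 2) (Fin 2) R := !![p + u, -q - u + v; q + v, p - q - u]

theorem mk_mul (p q u v p' q' u' v' : R) : mk p q u v * mk p' q' u' v' =
    mk (p * p' - q * q' + (u * (u' - v') + v * v'))
      (p * q' + q * p' - q * q' + (u * -v' + v * (u' - v') + v * v'))
      (p * u' - q * v' + (u * (p' - q') + v * q'))
      (p * v' + q * u' - q * v' + (u * -q' + v * (p' - q') + v * q')) := by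
  ext i j
  fin_cases i <;> fin_cases j <;> simp [mk, Matrix.mul_apply, Fin.sum_univ_two] <;> ring

theorem sg_conj (p q u v : R) : sg * mk p q u v * (sg * sg) = mk p q (-u + v) (-u) := by
  ext i j
  fin_cases i <;> fin_cases j <;> simp [mk, sg, Matrix.mul_apply, Fin.sum_univ_two] <;> ring

theorem mk_surjective {e : R} (he : 3 * e = 1) (X : Matrix (Fin 2) (Fin 2) R) :
    ∃ p q u v, X = mk p q u v := by
  refine ⟨X 0 0 - e * (2 * (X 0 0 - X 1 1) - (X 1 0 - X 0 1)),
    e * (2 * (X 1 0 - X 0 1) - (X 0 0 - X 1 1)), e * (2 * (X 0 0 - X 1 1) - (X 1 0 - X 0 1)),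
    X 1 0 - e * (2 * (X 1 0 - X 0 1) - (X 0 0 - X 1 1)), ?_⟩
  ext i j
  fin_cases i <;> fin_cases j <;> simp [mk]
  · linear_combination (X 1 0 - X 0 1) * he
  · linear_combination (X 0 0 - X 1 1) * he

theorem mk_injective {e : R} (he : 3 * e = 1) {p q u v p' q' u' v' : R}
    (h : mk p q u v = mk p' q' u' v') : p = p' ∧ q = q' ∧ u = u' ∧ v = v' := by
  have h1 := congrFun₂ h 0 0
  have h2 := congrFun₂ h 0 1
  have h3 := congrFun₂ h 1 0
  have h4 := congrFun₂ h 1 1
  simp [mk] at h1 h2 h3 h4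
  have hu : u = u' := by linear_combination e * (2 * (h1 - h4) - (h3 - h2)) - (u - u') * he
  have hq : q = q' := by linear_combination e * (2 * (h3 - h2) - (h1 - h4)) - (q - q') * he
  exact ⟨by linear_combination h1 - hu, hq, hu, by linear_combination h3 - hq⟩

/-- The involutions of a four group normalised by `sg`. -/
theorem eq_mk {e : R} (he : 3 * e = 1) {A : Matrix (Fin 2) (Fin 2) R} (h2 : A * A = 1)
    (hprod : A * (sg * A * (sg * sg)) = sg * (sg * A * (sg * sg)) * (sg * sg))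
    (hcomm : A * (sg * A * (sg * sg)) = sg * A * (sg * sg) * A) :
    ∃ u v, A = mk 1 0 u v ∧ 2 * u = 0 ∧ 2 * v = 0 := by
  obtain ⟨p, q, u, v, rfl⟩ := mk_surjective he A
  have h1 : (1 : Matrix (Fin 2) (Fin 2) R) = mk 1 0 0 0 := by
    ext i j; fin_cases i <;> fin_cases j <;> simp [mk]
  simp only [sg_conj, mk_mul] at h2 hprod hcomm
  rw [h1] at h2
  obtain ⟨ap, aq, -, -⟩ := mk_injective he h2
  obtain ⟨bp, bq, bu, bv⟩ := mk_injective he hprod
  obtain ⟨cp, cq, -, -⟩ := mk_injective he hcomm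
  have hN : u * u - u * v + v * v = 0 := by linear_combination cp
  have hp : p = 1 := by linear_combination ap - bp - hN
  have hq : q = 0 := by linear_combination aq - bq + hN
  subst hp hq
  exact ⟨u, v, rfl, by linear_combination bu - bv, by linear_combination bu⟩

theorem comp_sg {M : Matrix (Fin 2) (Fin 2) R} (hM : M * M + M + 1 = 0) :
    M * !![1, M 0 0; 0, M 1 0] = !![1, M 0 0; 0, M 1 0] * sg := by
  have h00 := congrFun₂ hM 0 0
  have h10 := congrFun₂ hM 1 0
  simp [Matrix.mul_apply, Fin.sum_univ_two] at h00 h10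
  ext i j
  fin_cases i <;> fin_cases j <;> simp [sg, Matrix.mul_apply, Fin.sum_univ_two]
  · linear_combination h00
  · linear_combination h10

end Ring

section ModTwoPow

variable (k : ℕ)

/-- Reduction modulo two. -/
def red (hk : 1 ≤ k) : ZMod (2 ^ k) →+* ZMod 2 := ZMod.castHom (dvd_pow_self 2 (by omega)) (ZMod 2)

theorem exists_two_mul {hk : 1 ≤ k} {z : ZMod (2 ^ k)} (h : red k hk z = 0) : ∃ w, z = 2 * w := by
  rw [← ZMod.natCast_zmod_val z, map_natCast, ZMod.natCast_eq_zero_iff] at h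
  obtain ⟨w, hw⟩ := h
  exact ⟨w, by rw [← ZMod.natCast_zmod_val z, hw]; push_cast; rfl⟩

theorem isUnit_of_red {hk : 1 ≤ k} {z : ZMod (2 ^ k)} (h : red k hk z ≠ 0) : IsUnit z := by
  rw [← ZMod.natCast_zmod_val z, map_natCast, Ne, ZMod.natCast_eq_zero_iff] at h
  rw [← ZMod.natCast_zmod_val z, ZMod.isUnit_iff_coprime]
  exact (Nat.coprime_two_right.2 (Nat.odd_iff.2 (by omega))).pow_right k

theorem two_mul_eq_zero (hk : 1 ≤ k) {z : ZMod (2 ^ k)} (h : 2 * z = 0) :
    z = 0 ∨ z = 2 ^ (k - 1) := by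
  have h' : ((2 * z.val : ℕ) : ZMod (2 ^ k)) = 0 := by
    rw [Nat.cast_mul, ZMod.natCast_zmod_val]; simpa using h
  rw [ZMod.natCast_eq_zero_iff] at h'
  obtain ⟨c, hc⟩ := h'
  have hlt := ZMod.val_lt z
  have hpow : 2 ^ k = 2 * 2 ^ (k - 1) := by rw [← pow_succ', Nat.sub_add_cancel hk]
  have hzc : z.val = 2 ^ (k - 1) * c :=
    Nat.eq_of_mul_eq_mul_left two_pos (hc.trans ((congrArg (· * c) hpow).trans (mul_assoc _ _ _)))
  have hc2 : c < 2 := by
    by_contra hc2
    have : 2 ^ (k - 1) * 2 ≤ 2 ^ (k - 1) * c := Nat.mul_le_mul_left _ (by omega)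
    omega
  interval_cases c
  · exact Or.inl (by rw [← ZMod.natCast_zmod_val z, hzc]; simp)
  · exact Or.inr (by rw [← ZMod.natCast_zmod_val z, hzc]; simp)

theorem neg_half (hk : 1 ≤ k) : -(2 ^ (k - 1) : ZMod (2 ^ k)) = 2 ^ (k - 1) := by
  rw [neg_eq_iff_add_eq_zero, ← two_mul, ← pow_succ', Nat.sub_add_cancel hk]
  have := ZMod.natCast_self (2 ^ k)
  push_cast at this
  exact this

theorem pow_two_pow_eq (X : Matrix (Fin 2) (Fin 2) (ZMod (2 ^ k))) (j : ℕ) :
    ∃ Y, (1 + (2 : ZMod (2 ^ k)) • X) ^ 2 ^ j = 1 + (2 ^ (j + 1) : ZMod (2 ^ k)) • Y := by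
  induction j with
  | zero => exact ⟨X, by simp⟩
  | succ j ih =>
    obtain ⟨Y, hY⟩ := ih
    refine ⟨Y + (2 ^ j : ZMod (2 ^ k)) • (Y * Y), ?_⟩
    rw [pow_succ, pow_mul, hY, sq, add_mul, mul_add, mul_add, one_mul, one_mul, mul_one,
      Matrix.smul_mul, Matrix.mul_smul, smul_smul, smul_add, smul_smul]
    ring_nf
    module

theorem mod_two_facts : ∀ s : Matrix (Fin 2) (Fin 2) (ZMod 2), s * s * s = 1 →
    s = 1 ∨ (s 0 0 - 1) * (s 1 1 - 1) - s 0 1 * s 1 0 ≠ 0 := by decide +kernel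

/-- An element of order three satisfies `M² + M + 1 = 0`. -/
theorem quadratic (hk : 1 ≤ k) {M : Matrix (Fin 2) (Fin 2) (ZMod (2 ^ k))} (h3 : M * M * M = 1)
    (h1 : M ≠ 1) : M * M + M + 1 = 0 := by
  set f := (red k hk).mapMatrix (m := Fin 2) with hf
  rcases mod_two_facts (f M) (by rw [← map_mul, ← map_mul, h3, map_one]) with hs | hd
  · exfalso
    have hX : ∀ i j, ∃ w, M i j - (1 : Matrix (Fin 2) (Fin 2) (ZMod (2 ^ k))) i j = 2 * w := by
      intro i j
      refine exists_two_mul k (hk := hk) ?_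
      have := congrFun₂ hs i j
      rw [map_sub, show red k hk (M i j) = (f M) i j from rfl, this]
      rcases eq_or_ne i j with rfl | hij
      · simp
      · simp [Matrix.one_apply_ne hij]
    choose X hX using hX
    have hMX : M = 1 + (2 : ZMod (2 ^ k)) • Matrix.of X := by
      ext i j; simp [← hX]
    obtain ⟨Y, hY⟩ := pow_two_pow_eq k (Matrix.of X) k
    rw [← hMX] at hY
    have hzero : (2 ^ (k + 1) : ZMod (2 ^ k)) = 0 := by
      have := ZMod.natCast_self (2 ^ k)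
      push_cast at this
      rw [pow_succ, this, zero_mul]
    rw [hzero, zero_smul, add_zero] at hY
    refine h1 (orderOf_eq_one_iff.1 (Nat.eq_one_of_dvd_coprimes
      (((Nat.coprime_primes Nat.prime_three Nat.prime_two).2 (by omega)).pow_right k)
      (orderOf_dvd_of_pow_eq_one (by rw [← h3, pow_succ, pow_two])) (orderOf_dvd_of_pow_eq_one hY)))
  · have hu : IsUnit (M - 1).det := by
      refine isUnit_of_red k (hk := hk) ?_
      rw [RingHom.map_det, Matrix.det_fin_two]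
      simpa [hf] using hd
    obtain ⟨U, hU⟩ := (Matrix.isUnit_iff_isUnit_det _).2 hu
    have h0 : (U : Matrix (Fin 2) (Fin 2) (ZMod (2 ^ k))) * (M * M + M + 1) = 0 := by
      rw [hU, sub_mul, mul_add, mul_add, mul_one, one_mul, ← mul_assoc, h3]
      abel
    simpa using congrArg ((↑U⁻¹ : Matrix (Fin 2) (Fin 2) (ZMod (2 ^ k))) * ·) h0

theorem alt_four_facts : ∀ s a : alternatingGroup (Fin 4), s * s * s = 1 → s ≠ 1 →
    a * a = 1 → a ≠ 1 →
    (a * (s * a * (s * s)) = s * (s * a * (s * s)) * (s * s) ∧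
      a * (s * a * (s * s)) = s * a * (s * s) * a) := by decide +kernel

set_option synthInstance.maxSize 4000 in
set_option synthInstance.maxHeartbeats 400000 in
theorem alt_four_gen : ∀ s a : alternatingGroup (Fin 4), s * s * s = 1 → s ≠ 1 →
    a * a = 1 → a ≠ 1 → ∀ x : alternatingGroup (Fin 4), ∃ i j : Fin 3, x = s ^ i.val ∨
      x = s ^ i.val * (s ^ j.val * a * (s ^ j.val)⁻¹) := by decide +kernel

theorem alt_four_exists : ∃ s a : alternatingGroup (Fin 4), s * s * s = 1 ∧ s ≠ 1 ∧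
    a * a = 1 ∧ a ≠ 1 := by decide +kernel

variable {k}

/-- Every subgroup `A₄` is conjugate to the standard one. -/
theorem exists_standard (hk : 2 ≤ k) (H : Subgroup (GL (Fin 2) (ZMod (2 ^ k))))
    (e : ↥H ≃* alternatingGroup (Fin 4)) :
    ∃ (P S A : GL (Fin 2) (ZMod (2 ^ k))), H.map (MulAut.conj P).toMonoidHom = Subgroup.closure {S, A} ∧
      (S : Matrix (Fin 2) (Fin 2) (ZMod (2 ^ k))) = sg ∧
      (A : Matrix (Fin 2) (Fin 2) (ZMod (2 ^ k))) = mk 1 0 (2 ^ (k - 1)) 0 := by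
  have hk1 : 1 ≤ k := by omega
  obtain ⟨t, b, ht3, ht1, hb2, hb1⟩ := alt_four_exists
  obtain ⟨hr1, hr2⟩ := alt_four_facts t b ht3 ht1 hb2 hb1
  set s : H := e.symm t with hs
  set a : H := e.symm b with ha
  set M : Matrix (Fin 2) (Fin 2) (ZMod (2 ^ k)) := Units.val (s : GL (Fin 2) (ZMod (2 ^ k))) with hM
  have hM3 : M * M * M = 1 := by
    have := congrArg (fun x => ((e.symm x : GL (Fin 2) (ZMod (2 ^ k))) :
      Matrix (Fin 2) (Fin 2) (ZMod (2 ^ k)))) ht3
    simpa [map_mul] using this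
  have hM1 : M ≠ 1 := fun h => ht1 (e.symm.injective (by
    rw [map_one]; exact Subtype.ext (Units.ext h)))
  have hq := quadratic k hk1 hM3 hM1
  have hu : IsUnit (M 1 0) := by
    refine isUnit_of_red k (hk := hk1) fun h0 => ?_
    have := congrArg (red k hk1) (congrFun₂ hq 0 0)
    simp [Matrix.mul_apply, Fin.sum_univ_two, h0] at this
    have h2 : ∀ z : ZMod 2, z * z + z + 1 ≠ 0 := by decide
    exact h2 _ this
  obtain ⟨Q, hQ⟩ : ∃ Q : GL (Fin 2) (ZMod (2 ^ k)),
      (Q : Matrix (Fin 2) (Fin 2) (ZMod (2 ^ k))) = !![1, M 0 0; 0, M 1 0] :=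
    (Matrix.isUnit_iff_isUnit_det _).2 (by simpa [Matrix.det_fin_two] using hu)
  set P := Q⁻¹ with hP
  set φ : ↥H →* GL (Fin 2) (ZMod (2 ^ k)) := (MulAut.conj P).toMonoidHom.comp H.subtype with hφ
  have hS : (φ s : Matrix (Fin 2) (Fin 2) (ZMod (2 ^ k))) = sg := by
    have hc := comp_sg hq
    rw [← hQ] at hc
    show ((P * (s : GL (Fin 2) (ZMod (2 ^ k))) * P⁻¹ : GL (Fin 2) (ZMod (2 ^ k))) :
      Matrix (Fin 2) (Fin 2) (ZMod (2 ^ k))) = sg
    rw [hP, inv_inv, mul_assoc, Units.val_mul, Units.val_mul, hc, ← mul_assoc, ← Units.val_mul,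
      inv_mul_cancel, Units.val_one, one_mul]
  have key : ∀ {x y : alternatingGroup (Fin 4)}, x = y →
      (φ (e.symm x) : Matrix (Fin 2) (Fin 2) (ZMod (2 ^ k))) = (φ (e.symm y) : _) := by
    rintro x y rfl; rfl
  obtain ⟨i3, hi3⟩ : ∃ i : ZMod (2 ^ k), 3 * i = 1 := by
    obtain ⟨U, hU⟩ := isUnit_of_red k (hk := hk1) (z := 3) (by rw [map_ofNat]; decide)
    exact ⟨(↑U⁻¹ : ZMod (2 ^ k)), by rw [← hU, Units.mul_inv]⟩
  have e1 := key hb2
  have e2 := key hr1
  have e3 := key hr2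
  simp only [map_mul, map_one, Units.val_mul, Units.val_one, ← hs, ← ha, hS] at e1 e2 e3
  obtain ⟨u, v, huv, hu2, hv2⟩ := eq_mk hi3 e1 e2 e3
  have hA1 : (φ a : Matrix (Fin 2) (Fin 2) (ZMod (2 ^ k))) ≠ 1 := by
    intro h
    apply hb1
    have : φ a = φ 1 := by rw [map_one]; exact Units.ext h
    have h' : (a : GL (Fin 2) (ZMod (2 ^ k))) = ((1 : ↥H) : GL (Fin 2) (ZMod (2 ^ k))) :=
      (MulAut.conj P).injective this
    simpa [ha] using congrArg e (Subtype.ext h' : a = 1)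
  set h := (2 ^ (k - 1) : ZMod (2 ^ k)) with hh
  have hneg : -h = h := neg_half k hk1
  -- replace `a` by a conjugate with coordinates `(h, 0)`
  obtain ⟨a', ha'2, ha'1, hA⟩ : ∃ a' : alternatingGroup (Fin 4), a' * a' = 1 ∧ a' ≠ 1 ∧
      (φ (e.symm a') : Matrix (Fin 2) (Fin 2) (ZMod (2 ^ k))) = mk 1 0 h 0 := by
    have hconj : ∀ c : alternatingGroup (Fin 4), c * c = 1 → c ≠ 1 →
        t * c * (t * t) * (t * c * (t * t)) = 1 ∧ t * c * (t * t) ≠ 1 := fun c hc hc1 => by
      have htt : t * t = t⁻¹ := eq_inv_of_mul_eq_one_left ht3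
      rw [htt]
      exact ⟨by rw [conj_mul, hc, mul_one, mul_inv_cancel], fun h => hc1 (conj_eq_one_iff.1 h)⟩
    have hstep : ∀ c : alternatingGroup (Fin 4), ∀ u v,
        (φ (e.symm c) : Matrix (Fin 2) (Fin 2) (ZMod (2 ^ k))) = mk 1 0 u v →
        (φ (e.symm (t * c * (t * t))) : Matrix (Fin 2) (Fin 2) (ZMod (2 ^ k))) =
          mk 1 0 (-u + v) (-u) := fun c u v hc => by
      simp only [map_mul, Units.val_mul, ← hs, hS, hc, sg_conj]
    rcases two_mul_eq_zero k hk1 hu2 with rfl | rfl <;>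
      rcases two_mul_eq_zero k hk1 hv2 with rfl | rfl
    · exfalso
      apply hA1
      rw [huv]
      ext i j; fin_cases i <;> fin_cases j <;> simp [mk]
    · exact ⟨_, (hconj b hb2 hb1).1, (hconj b hb2 hb1).2, by
        rw [hstep b 0 h huv]; simp⟩
    · exact ⟨b, hb2, hb1, huv⟩
    · refine ⟨_, (hconj _ (hconj b hb2 hb1).1 (hconj b hb2 hb1).2).1,
        (hconj _ (hconj b hb2 hb1).1 (hconj b hb2 hb1).2).2, ?_⟩
      rw [hstep _ (-h + h) (-h) (hstep b h h huv)]
      rw [show -(-h + h) + -h = h by linear_combination hneg,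
        show -(-h + h) = 0 by ring]
  refine ⟨P, φ s, φ (e.symm a'), ?_, hS, hA⟩
  refine le_antisymm ?_ ((Subgroup.closure_le _).2 ?_)
  · rintro _ ⟨x, hx, rfl⟩
    obtain ⟨i, j, hxs | hxs⟩ := alt_four_gen t a' ht3 ht1 ha'2 ha'1 (e ⟨x, hx⟩)
    all_goals
      have hxe : (MulAut.conj P).toMonoidHom x = φ (e.symm (e ⟨x, hx⟩)) := by
        rw [MulEquiv.symm_apply_apply]; rfl
      rw [hxe, hxs]
      simp only [map_mul, map_inv, map_pow, ← hs]
    · exact pow_mem (Subgroup.subset_closure (by simp)) _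
    · exact mul_mem (pow_mem (Subgroup.subset_closure (by simp)) _) (mul_mem (mul_mem
        (pow_mem (Subgroup.subset_closure (by simp)) _) (Subgroup.subset_closure (by simp)))
        (inv_mem (pow_mem (Subgroup.subset_closure (by simp)) _)))
  · rintro z (rfl | rfl)
    · exact ⟨_, s.2, rfl⟩
    · exact ⟨_, (e.symm a').2, rfl⟩

end ModTwoPow

end CfsgLib.LocalEven48.GL2A4
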