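import Cfsg.Agent.LocalStructure.Large
import Cfsg.Agent.LocalStructure.Tools
import Cfsg.Agent.Coprime.Action
import Cfsg.Agent.Solvable.Frattini

/-!
`Y ≤ O_p(M†)` with `[Y, A] ≤ [A, A]` for a normal `p`-subgroup `A` of `L` lies in `O_p(L)`.
-/

namespace CfsgLib.LocalEven48

open Subgroup Cfsg CfsgLib.LocalStructure
open scoped commutatorElement

variable {G : Type*} [Group G] [Finite G] {p : ℕ} [Fact p.Prime]

/-- A group generated by `p`-elements, whose elements of order prime to `p` are central modulo a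
normal `p`-subgroup, is a `p`-group. -/
theorem isPGroup_of_coprime_central_mod {U : Type*} [Group U] [Finite U] (P : Subgroup U) [P.Normal]
    (hP : IsPGroup p P) (s : Set U) (hs : Subgroup.closure s = ⊤)
    (hsp : ∀ x ∈ s, ∃ k : ℕ, x ^ p ^ k = 1)
    (hc : ∀ x : U, (orderOf x).Coprime p → ∀ u : U, ⁅x, u⁆ ∈ P) : IsPGroup p U := by
  set π := QuotientGroup.mk' P with hπ
  have hZ : IsPGroup p ((U ⧸ P) ⧸ Subgroup.center (U ⧸ P)) := by
    intro q
    obtain ⟨q, rfl⟩ := QuotientGroup.mk'_surjective _ q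
    obtain ⟨u, rfl⟩ := QuotientGroup.mk'_surjective P q
    obtain ⟨a, b, ha, hb, ⟨k, hk⟩, hbc, hab⟩ := exists_pPart_mul (p := p) u
    refine ⟨k, ?_⟩
    rw [← map_pow]
    refine (QuotientGroup.eq_one_iff _).2 (Subgroup.mem_center_iff.2 fun v => ?_)
    obtain ⟨v, rfl⟩ := QuotientGroup.mk'_surjective P v
    rw [← map_pow]
    have hcomm : Commute a b := by
      obtain ⟨i, rfl⟩ := ha
      obtain ⟨j, rfl⟩ := hb
      exact Commute.zpow_zpow_self u i j
    have hu : u ^ p ^ k = b ^ p ^ k := by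
      rw [← hab, hcomm.mul_pow, ← hk, pow_orderOf_eq_one, one_mul]
    rw [hu]
    have h1 : π ⁅b ^ p ^ k, v⁆ = 1 := (QuotientGroup.eq_one_iff _).2
      (hc _ (Nat.Coprime.coprime_dvd_left (orderOf_pow_dvd _) hbc) v)
    rw [map_commutatorElement, commutatorElement_eq_one_iff_mul_comm] at h1
    exact h1.symm
  haveI : Group.IsNilpotent (U ⧸ P) := by
    haveI := hZ.isNilpotent
    exact Subgroup.isNilpotent_of_ker_le_center (QuotientGroup.mk' (Subgroup.center (U ⧸ P)))
      (by rw [QuotientGroup.ker_mk'])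
  obtain ⟨R⟩ : Nonempty (Sylow p (U ⧸ P)) := inferInstance
  have htop : (R : Subgroup (U ⧸ P)) = ⊤ := by
    refine top_le_iff.1 ?_
    rw [← Subgroup.map_top_of_surjective π (QuotientGroup.mk'_surjective P), ← hs,
      MonoidHom.map_closure, Subgroup.closure_le]
    rintro _ ⟨x, hx, rfl⟩
    obtain ⟨k, hk⟩ := hsp x hx
    have hz : IsPGroup p (Subgroup.zpowers (π x)) :=
      LocalStructure.isPGroup_of_coprime_eq_one fun b hb hbc => by
        refine eq_one_of_coprime_of_pow hbc (k := k) ?_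
        obtain ⟨i, rfl⟩ := hb
        show (π x ^ i) ^ p ^ k = 1
        rw [← zpow_natCast, ← zpow_mul, mul_comm, zpow_mul, zpow_natCast, ← map_pow, hk, map_one,
          one_zpow]
    exact R.is_maximal' (IsPGroup.to_sup_of_normal_left R.2 hz) le_sup_left ▸
      Subgroup.mem_sup_right (Subgroup.mem_zpowers _)
  have hQ : IsPGroup p (U ⧸ P) := by
    have := R.2
    rw [htop] at this
    exact this.of_equiv Subgroup.topEquiv
  intro u
  obtain ⟨k, hk⟩ := hQ (π u)
  rw [← map_pow] at hk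
  obtain ⟨j, hj⟩ := hP ⟨u ^ p ^ k, (QuotientGroup.eq_one_iff _).1 hk⟩
  exact ⟨k + j, by rw [pow_add, pow_mul]; exact congrArg Subtype.val hj⟩

omit [Fact p.Prime] in
theorem normalizer_inf_centralizer {L A : Subgroup G} (hLA : L ≤ Subgroup.normalizer (A : Set G)) :
    L ≤ Subgroup.normalizer ((L ⊓ centralizer (A : Set G) : Subgroup G) : Set G) :=
  le_normalizer_inf' Subgroup.le_normalizer
    (hLA.trans (normalizer_le_normalizer_centralizer A))

/-- `Y ≤ O_p(N)`, `C_L(A) ≤ N`, `[A, Y] ≤ [A, A]`, `A` a normal `p`-subgroup of `L`: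
then `Y ≤ O_p(L)`. -/
theorem le_pCoreOf_of_commutator_le {N L A Y : Subgroup G} (hAp : IsPGroup p A)
    (hLA : L ≤ Subgroup.normalizer (A : Set G)) (hYL : Y ≤ L) (hY : Y ≤ pCoreOf p N)
    (hN : L ⊓ centralizer (A : Set G) ≤ N) (hc : ⁅A, Y⁆ ≤ ⁅A, A⁆) : Y ≤ pCoreOf p L := by
  set E := L ⊓ centralizer (A : Set G) with hE
  set P := pCoreOf p E with hPd
  have hLE : L ≤ Subgroup.normalizer (E : Set G) := normalizer_inf_centralizer hLA
  have hLP : L ≤ Subgroup.normalizer (P : Set G) :=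
    hLE.trans (normalizer_le_normalizer_pCoreOf E)
  have hLD : L ≤ Subgroup.normalizer ((⁅A, A⁆ : Subgroup G) : Set G) :=
    (le_inf hLA hLA).trans (normalizer_le_normalizer_commutator A A)
  set s := {z : G | ∃ l ∈ L, ∃ y ∈ Y, z = l * y * l⁻¹} with hs
  set U := Subgroup.closure s with hU
  have hsL : s ⊆ L := by
    rintro _ ⟨l, hl, y, hy, rfl⟩
    exact L.mul_mem (L.mul_mem hl (hYL hy)) (L.inv_mem hl)
  have hUL : U ≤ L := (Subgroup.closure_le _).2 hsL
  have hYU : Y ≤ U := fun y hy => Subgroup.subset_closure ⟨1, L.one_mem, y, hy, by simp⟩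
  have hLU : L ≤ Subgroup.normalizer (U : Set G) := by
    intro m hm
    refine mem_normalizer_of_forall fun z hz => ?_
    induction hz using Subgroup.closure_induction with
    | mem z hz =>
      obtain ⟨l, hl, y, hy, rfl⟩ := hz
      exact Subgroup.subset_closure ⟨m * l, L.mul_mem hm hl, y, hy, by group⟩
    | one => simp [U.one_mem]
    | mul a b _ _ ha hb =>
      have e : m * (a * b) * m⁻¹ = (m * a * m⁻¹) * (m * b * m⁻¹) := by group
      exact e ▸ U.mul_mem ha hb
    | inv a _ ha =>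
      have e : m * a⁻¹ * m⁻¹ = (m * a * m⁻¹)⁻¹ := by group
      exact e ▸ U.inv_mem ha
  -- `U` acts trivially on `A / [A, A]`
  have hAU : ∀ u ∈ U, ∀ a ∈ A, ⁅a, u⁆ ∈ ⁅A, A⁆ := by
    intro u hu
    induction hu using Subgroup.closure_induction with
    | mem z hz =>
      obtain ⟨l, hl, y, hy, rfl⟩ := hz
      intro a ha
      have h1 : ⁅l⁻¹ * a * l, y⁆ ∈ ⁅A, A⁆ := hc (commutator_mem_commutator
        ((mem_normalizer_iff''.1 (hLA hl) a).1 ha) hy)
      have h2 := (mem_normalizer_iff.1 (hLD hl) _).1 h1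
      rw [conjugate_commutatorElement] at h2
      simpa [mul_assoc] using h2
    | one => intro a _; simp [(⁅A, A⁆ : Subgroup G).one_mem]
    | mul u v hu _ ihu ihv =>
      intro a ha
      have e : ⁅a, u * v⁆ = ⁅a, u⁆ * (u * ⁅a, v⁆ * u⁻¹) := by simp [commutatorElement_def]; group
      rw [e]
      exact mul_mem (ihu a ha) ((mem_normalizer_iff.1 (hLD (hUL hu)) _).1 (ihv a ha))
    | inv u hu ihu =>
      intro a ha
      have e : ⁅a, u⁻¹⁆ = u⁻¹ * ⁅a, u⁆⁻¹ * u := by simp [commutatorElement_def]; group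
      rw [e]
      exact (mem_normalizer_iff''.1 (hLD (hUL hu)) _).1 (inv_mem (ihu a ha))
  have hcop : ∀ x ∈ U, (orderOf x).Coprime p → x ∈ E := by
    intro x hx hxc
    refine ⟨hUL hx, CfsgLib.Coprime.le_centralizer_of_commutator_le_frattini
      (zpowers_le.2 (hLA (hUL hx))) ?_ ?_ (mem_zpowers x)⟩
    · obtain ⟨n, hn⟩ := (hAp.to_subgroup (frattini ↥A)).exists_card_eq
      rw [Nat.card_zpowers, hn]
      exact hxc.pow_right n
    · refine commutator_le.2 fun a ha z hz => ?_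
      have h1 := hAU z (zpowers_le.2 hx hz) a ha
      rw [← Subgroup.map_subtype_commutator A] at h1
      exact Subgroup.map_mono (CfsgLib.Solvable.commutator_le_frattini hAp) h1
  -- `U` centralises `E / P`
  have hEY : ∀ e ∈ E, ∀ y ∈ Y, ⁅e, y⁆ ∈ P := by
    intro e he y hy
    have h0 : ⁅e, y⁆ ∈ E ⊓ pCoreOf p N := by
      refine ⟨?_, ?_⟩
      · have e1 : ⁅e, y⁆ = e * (y * e⁻¹ * y⁻¹) := by simp [commutatorElement_def]; group
        rw [e1]
        exact E.mul_mem he ((mem_normalizer_iff.1 (hLE (hYL hy)) _).1 (E.inv_mem he))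
      · rw [commutatorElement_def]
        exact Subgroup.mul_mem _ ((mem_normalizer_iff.1 (le_normalizer_pCoreOf N (hN he)) y).1 (hY hy))
          (Subgroup.inv_mem _ (hY hy))
    exact le_pCoreOf inf_le_left (le_normalizer_inf' Subgroup.le_normalizer
      (hN.trans (le_normalizer_pCoreOf N))) ((pCoreOf_isPGroup N).to_inf_right) h0
  have hEU : ∀ u ∈ U, ∀ e ∈ E, ⁅e, u⁆ ∈ P := by
    intro u hu
    induction hu using Subgroup.closure_induction with
    | mem z hz =>
      obtain ⟨l, hl, y, hy, rfl⟩ := hz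
      intro a ha
      have h2 := (mem_normalizer_iff.1 (hLP hl) _).1
        (hEY _ ((mem_normalizer_iff''.1 (hLE hl) a).1 ha) y hy)
      rw [conjugate_commutatorElement] at h2
      simpa [mul_assoc] using h2
    | one => intro a _; simp [P.one_mem]
    | mul u v hu _ ihu ihv =>
      intro a ha
      have e : ⁅a, u * v⁆ = ⁅a, u⁆ * (u * ⁅a, v⁆ * u⁻¹) := by simp [commutatorElement_def]; group
      rw [e]
      exact mul_mem (ihu a ha) ((mem_normalizer_iff.1 (hLP (hUL hu)) _).1 (ihv a ha))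
    | inv u hu ihu =>
      intro a ha
      have e : ⁅a, u⁻¹⁆ = u⁻¹ * ⁅a, u⁆⁻¹ * u := by simp [commutatorElement_def]; group
      rw [e]
      exact (mem_normalizer_iff''.1 (hLP (hUL hu)) _).1 (inv_mem (ihu a ha))
  haveI : (P.subgroupOf U).Normal := normal_subgroupOf_of_le_normalizer (hUL.trans hLP)
  have hUp : IsPGroup p U := by
    refine isPGroup_of_coprime_central_mod (P.subgroupOf U) ((pCoreOf_isPGroup E).comap_subtype)
      (U.subtype ⁻¹' s) ?_ ?_ ?_
    · exact Subgroup.closure_preimage_eq_top s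
    · rintro ⟨x, hx⟩ ⟨l, hl, y, hy, e⟩
      obtain ⟨k, hk⟩ := ((pCoreOf_isPGroup (p := p) N).to_le hY) ⟨y, hy⟩
      refine ⟨k, Subtype.ext ?_⟩
      have hk' : y ^ p ^ k = 1 := congrArg Subtype.val hk
      simp only [Subgroup.coe_subtype] at e
      simp [e, conj_pow, hk']
    · intro x hx u
      rw [mem_subgroupOf]
      have hx' : (orderOf (x : G)).Coprime p := by rwa [orderOf_coe]
      exact hEU u u.2 x (hcop x x.2 hx')
  exact hYU.trans (le_pCoreOf hUL hLU hUp)

/-- The members of `𝔐_G(S)` absorb the normalisers of their nontrivial normal `p`-subgroups. -/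
theorem normalizer_le_of_isInFrakM {Q : Subgroup G} (hQp : IsPGroup p Q) (hQ1 : Q ≠ ⊥)
    (hQ : IsLarge Q) (S : Sylow p G) {M : Subgroup G} (hSM : (S : Subgroup G) ≤ M)
    (hM : IsInFrakM p M) {I : Subgroup G} (hI1 : I ≠ ⊥) (hIp : IsPGroup p I)
    (hMI : M ≤ Subgroup.normalizer (I : Set G)) :
    Subgroup.normalizer (I : Set G) ≤ M ⊔ centralizer (largestPReducedOf p M : Set G) := by
  set R := Subgroup.normalizer (I : Set G)
  have hIR : I ≤ pCoreOf p R := le_pCoreOf Subgroup.le_normalizer le_rfl hIp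
  have hne : pCoreOf p R ≠ ⊥ := fun h => hI1 (le_bot_iff.1 (h ▸ hIR))
  have hR : R ∈ charPSubgroups p G := by
    refine ⟨fun h => hne ?_, large_centralizer_parabolic hQp hQ1 hQ ⟨S, hSM.trans hMI⟩ hne⟩
    rw [pCoreOf, h, Subgroup.map_bot]
  obtain ⟨Z, hRZ, hZ⟩ := (Set.toFinite (charPSubgroups p G)).exists_le_maximal hR
  have := hM.2.2.1 Z ⟨hZ.prop, fun L hL hZL => (hZ.eq_of_le hL hZL).symm⟩ (hMI.trans hRZ)
  exact this ▸ hRZ

end CfsgLib.LocalEven48
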