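import Cfsg.Agent.LocalEven48.WeakClosureProduct
import Cfsg.Agent.LocalEven48.LargeAbsorb
import Cfsg.Agent.Components.Basic

/-!
A large subgroup and a quasisimple section of `N(U)` on an elementary abelian `p`-group `U`.
-/

namespace CfsgLib.LocalEven48.LargeSection

open Subgroup Cfsg CfsgLib.LocalStructure CfsgLib.Components
open CfsgLib.LocalEven48.WCProduct (commutator_sup_le pResOf_sup_pgroup le_pResOf_sup)
open scoped commutatorElement

variable {G : Type*} [Group G] [Finite G] {p : ℕ} [Fact p.Prime]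

/-- `O^p(W) = [O^p(W), Q]` when `W` is the normal closure of `Q` in itself. -/
theorem residual_commutator_eq {W Q : Subgroup G} (hQp : IsPGroup p Q) (hQW : Q ≤ W)
    (hgen : ∀ X : Subgroup G, Q ≤ X → X ≤ W → W ≤ Subgroup.normalizer (X : Set G) → W ≤ X) :
    ⁅pResOf p W, Q⁆ = pResOf p W := by
  set K := pResOf p W with hK
  have hWK : W ≤ Subgroup.normalizer (K : Set G) :=
    Subgroup.le_normalizer.trans (normalizer_le_normalizer_pResOf W)
  refine le_antisymm (le_normalizer_iff_commutator_le_left.1 (hQW.trans hWK)) ?_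
  set X := ⁅K, Q⁆
  have hKX : K ≤ Subgroup.normalizer (X : Set G) :=
    le_sup_left.trans (CfsgLib.Coprime.sup_le_normalizer_commutator K Q)
  have hQX : Q ≤ Subgroup.normalizer (X : Set G) :=
    le_sup_right.trans (CfsgLib.Coprime.sup_le_normalizer_commutator K Q)
  have hn : K ⊔ Q ≤ Subgroup.normalizer ((X ⊔ Q : Subgroup G) : Set G) := by
    refine sup_le (fun k hk => mem_normalizer_of_forall fun x hx => ?_)
      (le_normalizer_sup hQX Subgroup.le_normalizer)
    obtain ⟨q, hq, a, ha, rfl⟩ := exists_mul_of_mem_sup hQX ((sup_comm X Q).le hx)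
    have e : k * (q * a) * k⁻¹ = ⁅k, q⁆ * q * (k * a * k⁻¹) := by
      simp [commutatorElement_def]
    rw [e]
    exact mul_mem (mul_mem (mem_sup_left (commutator_mem_commutator hk hq))
      (mem_sup_right hq)) (mem_sup_left ((mem_normalizer_iff.1 (hKX hk) a).1 ha))
  have hXW : X ⊔ Q ≤ W := sup_le
    ((le_normalizer_iff_commutator_le_left.1 (hQW.trans hWK)).trans (pResOf_le W)) hQW
  calc K ≤ pResOf p (X ⊔ Q) :=
        pResOf_mono (hgen _ le_sup_right hXW ((le_pResOf_sup hQW hgen).trans hn))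
    _ = pResOf p X := pResOf_sup_pgroup hQp hQX
    _ ≤ X := pResOf_le X

/-- Conjugates of `Q` in `E` give the commutator `[C, W] ≤ O_p(C)`. -/
theorem commutator_weakClosure_le {Q E C : Subgroup G} (hQp : IsPGroup p Q)
    (hwc : IsWeaklyClosedSubgroup p Q) (hQE : Q ≤ E) (hEC : E ≤ Subgroup.normalizer (C : Set G))
    (hCQ : C ≤ Subgroup.normalizer (Q : Set G)) :
    ⁅C, weakClosure Q E⁆ ≤ pCoreOf p C := by
  have hER : E ≤ Subgroup.normalizer (pCoreOf p C : Set G) :=
    hEC.trans (normalizer_le_normalizer_pCoreOf C)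
  refine WCProduct.commutator_le_of_le_commLe (weakClosure_le_iff.2 fun g hg =>
    WCProduct.le_commLe (hg.trans hER) ?_)
  obtain ⟨k, hk, e⟩ := wc_conj_in hQp hwc hQE hg
  have hCg : C ≤ Subgroup.normalizer (conjS g Q : Set G) := by
    rw [e, normalizer_conjS]
    exact (conjS_eq_self_iff.2 (hEC hk)).ge.trans (conjS_mono hCQ)
  refine le_trans (le_inf (le_normalizer_iff_commutator_le_left.1 (hg.trans hEC))
      (le_normalizer_iff_commutator_le_right.1 hCg)) ?_
  exact le_pCoreOf inf_le_left (le_normalizer_inf' Subgroup.le_normalizer hCg)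
    (hQp.map _).to_inf_right

/-- The properties of `Ē = E/C` used: `O_p(Ē) = 1` and `O^p(Ē)` quasisimple. -/
structure SectionData (p : ℕ) (E C K : Subgroup G) : Prop where
  hCE : C ≤ E
  hEC : E ≤ Subgroup.normalizer (C : Set G)
  hK : K = pResOf p E ⊔ C
  red : ∀ N : Subgroup G, N ≤ E → E ≤ Subgroup.normalizer (N : Set G) → pResOf p N ≤ C → N ≤ C
  qs : ∀ N : Subgroup G, N ≤ K → K ≤ Subgroup.normalizer (N : Set G) →
    K ≤ N ⊔ C ∨ ⁅N, K⁆ ≤ C
  perf : K ≤ ⁅K, K⁆ ⊔ C
  ne : ¬ K ≤ C
  cent : ∀ Y : Subgroup G, Y ≤ E → IsPGroup p Y → ⁅Y, K⁆ ≤ C → Y ≤ C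

omit [Finite G] [Fact p.Prime] in
theorem mem_pResidual_sup_iff {E C : Subgroup G} (hCE : C ≤ E) (x : E) :
    x ∈ pResidual p ↥E ⊔ C.subgroupOf E ↔ (x : G) ∈ pResOf p E ⊔ C := by
  have : (pResidual p ↥E ⊔ C.subgroupOf E).map E.subtype = pResOf p E ⊔ C := by
    rw [Subgroup.map_sup, map_pResidual, map_subgroupOf_eq_of_le hCE]
  rw [← this]
  exact (Subgroup.mem_map_iff_mem E.subtype_injective).symm

theorem sectionData {E : Subgroup G} (D : Subgroup G) [(D.subgroupOf E).Normal]
    (hred : pCore p (↥E ⧸ D.subgroupOf E) = ⊥)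
    (hqs : IsQuasisimple ↥((pResidual p ↥E ⊔ D.subgroupOf E).map
      (QuotientGroup.mk' (D.subgroupOf E)))) :
    SectionData p E (E ⊓ D) (pResOf p E ⊔ (E ⊓ D)) := by
  set C := E ⊓ D with hC
  set K := pResOf p E ⊔ C with hK
  set f := QuotientGroup.mk' (D.subgroupOf E) with hf
  set X := (pResidual p ↥E ⊔ D.subgroupOf E).map f with hX
  have hker : ∀ x : E, f x = 1 ↔ (x : G) ∈ C := fun x =>
    (QuotientGroup.eq_one_iff x).trans ⟨fun h => ⟨x.2, h⟩, fun h => h.2⟩
  have hCs : C.subgroupOf E = D.subgroupOf E := by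
    ext x; simp [C, mem_subgroupOf]
  have hmem : ∀ x : E, f x ∈ X ↔ (x : G) ∈ K := by
    intro x
    rw [← mem_pResidual_sup_iff (p := p) inf_le_left x, hCs]
    constructor
    · rintro ⟨y, hy, e⟩
      have h1 : y⁻¹ * x ∈ D.subgroupOf E := QuotientGroup.eq.1 e
      simpa using mul_mem hy (mem_sup_right (S := pResidual p ↥E) h1)
    · exact fun h => mem_map_of_mem f h
  have hEC : E ≤ Subgroup.normalizer (C : Set G) :=
    (normal_subgroupOf_iff_le_normalizer inf_le_left).1 (hCs ▸ inferInstance)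
  have hKE : K ≤ E := sup_le (pResOf_le E) inf_le_left
  set φ : ↥K →* ↥X := (f.comp (inclusion hKE)).codRestrict X
    (fun k => (hmem _).2 k.2) with hφ
  have hφs : Function.Surjective φ := by
    rintro ⟨_, y, hy, rfl⟩
    exact ⟨⟨y, (hmem y).1 (mem_map_of_mem f hy)⟩, Subtype.ext rfl⟩
  have hφk : ∀ k, φ k = 1 ↔ (k : G) ∈ C := fun k =>
    ⟨fun h => (hker (inclusion hKE k)).1 (congrArg Subtype.val h),
      fun h => Subtype.ext ((hker (inclusion hKE k)).2 h)⟩
  haveI hprX : (pResidual p ↥E).Normal := pResidual_normal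
  refine ⟨inf_le_left, hEC, rfl, ?_, ?_, ?_, ?_, ?_⟩
  · intro N hNE hEN hres x hx
    haveI : (N.subgroupOf E).Normal := (normal_subgroupOf_iff_le_normalizer hNE).2 hEN
    haveI : ((N.subgroupOf E).map f).Normal :=
      Normal.map inferInstance _ (QuotientGroup.mk'_surjective _)
    have hp : IsPGroup p ((N.subgroupOf E).map f) := pResOf_eq_bot.1 (by
      rw [← map_pResOf, Subgroup.map_eq_bot_iff, QuotientGroup.ker_mk']
      refine pResOf_le_of_forall fun g hg hc => ?_
      exact (hres (mem_pResOf (show (g : G) ∈ N from hg) (by rwa [orderOf_coe]))).2)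
    have h1 := LocalStructure.le_pCore hp (mem_map_of_mem f
      (show (⟨x, hNE hx⟩ : E) ∈ N.subgroupOf E from hx))
    rw [hred, mem_bot] at h1
    exact (hker _).1 h1
  · intro N hNK hKN
    haveI : (N.subgroupOf K).Normal := (normal_subgroupOf_iff_le_normalizer hNK).2 hKN
    haveI : ((N.subgroupOf K).map φ).Normal := Normal.map inferInstance _ hφs
    rcases IsQuasisimple.normal_eq_top_or_le_center hqs ((N.subgroupOf K).map φ) with h | h
    · left
      intro k hk
      obtain ⟨n, hn, e⟩ := h.ge (mem_top (φ ⟨k, hk⟩))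
      have h1 : φ (n⁻¹ * ⟨k, hk⟩) = 1 := by rw [map_mul, map_inv, e, inv_mul_cancel]
      have h2 := (hφk _).1 h1
      simpa using mul_mem (mem_sup_left (T := C) (show (n : G) ∈ N from hn)) (mem_sup_right h2)
    · right
      refine commutator_le.2 fun n hn k hk => ?_
      have h1 : φ ⁅(⟨n, hNK hn⟩ : K), ⟨k, hk⟩⁆ = 1 := by
        rw [map_commutatorElement, commutatorElement_eq_one_iff_mul_comm]
        exact (mem_center_iff.1 (h (mem_map_of_mem φ
          (show (⟨n, hNK hn⟩ : K) ∈ N.subgroupOf K from hn))) _).symm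
      exact (hφk _).1 h1
  · intro k hk
    have h0 : (⊤ : Subgroup ↥X) ≤ Subgroup.map φ ⁅(⊤ : Subgroup ↥K), (⊤ : Subgroup ↥K)⁆ := by
      rw [map_commutator, map_top_of_surjective φ hφs]
      exact (IsQuasisimple.perfect hqs).ge
    obtain ⟨d, hd, e⟩ := h0 (mem_top (φ ⟨k, hk⟩))
    have h1 : φ (d⁻¹ * ⟨k, hk⟩) = 1 := by rw [map_mul, map_inv, e, inv_mul_cancel]
    have hd' : (d : G) ∈ ⁅K, K⁆ := by
      rw [← map_subtype_commutator K, commutator_def]
      exact mem_map_of_mem _ hd
    simpa using mul_mem (mem_sup_left (T := C) hd') (mem_sup_right ((hφk _).1 h1))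
  · intro h
    haveI := IsQuasisimple.nontrivial hqs
    obtain ⟨y, hy⟩ := exists_ne (1 : ↥X)
    obtain ⟨k, rfl⟩ := hφs y
    exact hy ((hφk k).2 (h k.2))
  · intro Y hYE hYp hYK
    set Yb := (Y.subgroupOf E).map f with hYb
    haveI : X.Normal := Normal.map inferInstance _ (QuotientGroup.mk'_surjective _)
    have hcent : Yb ≤ centralizer (X : Set (↥E ⧸ D.subgroupOf E)) := by
      rintro _ ⟨y, hy, rfl⟩
      refine mem_centralizer_iff.2 ?_
      intro z hz
      obtain ⟨k, hk, rfl⟩ := hz
      have hk' := (hmem k).1 (mem_map_of_mem f hk)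
      have h1 : f ⁅y, k⁆ = 1 := (hker _).2 (hYK (commutator_mem_commutator hy hk'))
      rw [map_commutatorElement, commutatorElement_eq_one_iff_mul_comm] at h1
      exact h1.symm
    set V := Subgroup.normalClosure (Yb : Set (↥E ⧸ D.subgroupOf E)) with hV
    have hVc : V ≤ centralizer (X : Set (↥E ⧸ D.subgroupOf E)) :=
      normalClosure_le_normal hcent
    have hcop : ∀ v : ↥E ⧸ D.subgroupOf E, (orderOf v).Coprime p → v ∈ X := by
      intro v hc
      obtain ⟨e, rfl⟩ := QuotientGroup.mk'_surjective _ v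
      obtain ⟨k, hk⟩ := exists_pow_mem_pResOf (p := p) (K := (⊤ : Subgroup ↥E)) (mem_top e)
      rw [pResOf_top] at hk
      refine mem_of_coprime_of_pow_mem (k := k) hc ?_
      rw [← map_pow]
      exact mem_map_of_mem f (mem_sup_left hk)
    have hVp : IsPGroup p V := by
      refine isPGroup_of_coprime_central_mod (⊥ : Subgroup V) IsPGroup.of_bot
        (V.subtype ⁻¹' Group.conjugatesOfSet (Yb : Set (↥E ⧸ D.subgroupOf E))) ?_ ?_ ?_
      · exact Subgroup.closure_preimage_eq_top _
      · intro x hx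
        obtain ⟨y, hy, hconj⟩ := Group.mem_conjugatesOfSet_iff.1 hx
        obtain ⟨c, hc⟩ := isConj_iff.1 hconj
        obtain ⟨k, hk⟩ := ((hYp.comap_subtype (K := E)).map f) ⟨y, hy⟩
        refine ⟨k, Subtype.ext ?_⟩
        have hk' : y ^ p ^ k = 1 := congrArg Subtype.val hk
        simp only [coe_subtype] at hc
        simp [← hc, conj_pow, hk']
      · intro x hx v
        rw [mem_bot, ← Subtype.coe_inj]
        exact commutatorElement_eq_one_iff_mul_comm.2
          (mem_centralizer_iff.1 (hVc v.2) _ (hcop _ (by rwa [orderOf_coe])))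
    intro y hy
    have h1 := LocalStructure.le_pCore (hN := Subgroup.normalClosure_normal) hVp
      (Subgroup.subset_normalClosure (mem_map_of_mem f
        (show (⟨y, hYE hy⟩ : E) ∈ Y.subgroupOf E from hy)))
    rw [hred, mem_bot] at h1
    exact (hker _).1 h1

/-- All the conclusions about `E_∘ = O^p(⟨Q^E⟩)`. -/
theorem main {Q E C K : Subgroup G} (hQp : IsPGroup p Q) (hwc : IsWeaklyClosedSubgroup p Q)
    (hQE : Q ≤ E) (hQn : ¬ E ≤ Subgroup.normalizer (Q : Set G))
    (hd : SectionData p E C K) (hCQ : C ≤ Subgroup.normalizer (Q : Set G))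
    {Er : Subgroup G} (hEr : Er = pResOf p (weakClosure Q E)) :
    (K = Er ⊔ C) ∧ ⁅Er, Er⁆ = Er ∧ pResOf p Er = Er ∧
      IsQuasisimple (↥Er ⧸ pCore p ↥Er) ∧
      ∀ Y : Subgroup G, Y ≤ E → IsPGroup p Y → ¬ Y ≤ C → ⁅Er, Y⁆ = Er := by
  set W := weakClosure Q E with hW
  set R := pCoreOf p C with hR
  have hWE : W ≤ E := weakClosure_le
  have hQW : Q ≤ W := self_le_weakClosure hQE
  have hEW : E ≤ Subgroup.normalizer (W : Set G) :=
    Subgroup.le_normalizer.trans (normalizer_le_normalizer_weakClosure Q E)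
  have hEEr : E ≤ Subgroup.normalizer (Er : Set G) :=
    hEr ▸ hEW.trans (normalizer_le_normalizer_pResOf W)
  have hErW : Er ≤ W := hEr ▸ pResOf_le W
  have hErE : Er ≤ E := hErW.trans hWE
  have hErK : Er ≤ K := hd.hK ▸ (hEr ▸ pResOf_mono hWE : Er ≤ pResOf p E).trans le_sup_left
  have hCR : ⁅C, W⁆ ≤ R := commutator_weakClosure_le hQp hwc hQE hd.hEC hCQ
  have hRC : R ≤ C := pCoreOf_le C
  have hKE : K ≤ E := hd.hK ▸ sup_le (pResOf_le E) hd.hCE
  have hidem : pResOf p Er = Er := by rw [hEr, pResOf_idem]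
  have hgen : ∀ X : Subgroup G, Q ≤ X → X ≤ W → W ≤ Subgroup.normalizer (X : Set G) → W ≤ X := by
    intro X hQX _ hX
    refine weakClosure_le_iff.2 fun g hg => ?_
    obtain ⟨k, hk, e⟩ := wc_conj_in hQp hwc hQW (conjS_le_weakClosure hg)
    exact e.le.trans ((conjS_mono hQX).trans (conjS_eq_self_iff.2 (hX hk)).le)
  have hWEr : W ≤ Er ⊔ Q := hEr ▸ le_pResOf_sup hQW hgen
  have hErQ : ⁅Er, Q⁆ = Er := hEr ▸ residual_commutator_eq hQp hQW hgen
  have hQC : ¬ Q ≤ C := fun h => hQn <| by
    have h1 : Q ≤ R := le_pCoreOf h hCQ hQp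
    exact (hd.hEC.trans (normalizer_le_normalizer_pCoreOf C)).trans
      (wc_normalizer_le hwc (pCoreOf_isPGroup C) h1)
  have hErC : ¬ Er ≤ C := fun h => hQC (hQW.trans (hd.red W hWE hEW (hEr ▸ h)))
  have hKEr : K ≤ Er ⊔ C := by
    rcases hd.qs (W ⊓ K) inf_le_right
      (le_normalizer_inf' (hKE.trans hEW) Subgroup.le_normalizer) with h | h
    · have h1 : K ≤ (Er ⊔ C) ⊔ Q := h.trans (sup_le
        (inf_le_left.trans (hWEr.trans (sup_le (le_sup_left.trans le_sup_left) le_sup_right)))
        (le_sup_right.trans le_sup_left))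
      have h2 := pResOf_mono (p := p) h1
      rw [pResOf_sup_pgroup hQp (le_normalizer_sup (hQE.trans hEEr) (hQE.trans hd.hEC))] at h2
      rw [hd.hK]
      refine sup_le (le_trans ?_ (h2.trans (pResOf_le _))) le_sup_right
      exact (pResOf_idem E).ge.trans (pResOf_mono (hd.hK ▸ le_sup_left))
    · exfalso
      have h1 : ⁅⁅W, K⁆, K⁆ ≤ C := (commutator_mono (le_inf
        (le_normalizer_iff_commutator_le_left.1 (hKE.trans hEW))
        (le_normalizer_iff_commutator_le_right.1 (hWE.trans (hd.hK ▸ le_normalizer_sup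
          (Subgroup.le_normalizer.trans (normalizer_le_normalizer_pResOf E)) hd.hEC)))) le_rfl).trans h
      have h2 : ⁅⁅K, K⁆, W⁆ ≤ C := three_subgroups_le (hKE.trans hd.hEC) (hKE.trans hd.hEC)
        (hWE.trans hd.hEC) (by rw [commutator_comm K W]; exact h1) h1
      have h3 : ⁅W, K⁆ ≤ C := (commutator_mono le_rfl hd.perf).trans (commutator_sup_le
        ((sup_le ((commutator_mono hKE hKE).trans (commutator_le.2 fun a ha b hb => by
          rw [commutatorElement_def]
          exact E.mul_mem (E.mul_mem (E.mul_mem ha hb) (E.inv_mem ha)) (E.inv_mem hb))) hd.hCE).trans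
          hd.hEC)
        (by rw [commutator_comm]; exact h2)
        (le_normalizer_iff_commutator_le_right.1 (hWE.trans hd.hEC)))
      have hQEr : ⁅Er, Q⁆ ≤ C := by
        rw [commutator_comm]; exact (commutator_mono hQW hErK).trans h3
      exact hErC (hErQ ▸ hQEr)
  have hK : K = Er ⊔ C := le_antisymm hKEr (sup_le hErK (hd.hK ▸ le_sup_right))
  set Z := Er ⊓ C with hZ
  set R' := Er ⊓ R with hR'
  have hR'p : IsPGroup p R' := (pCoreOf_isPGroup C).to_inf_right
  have hEZ : ⁅Er, Z⁆ ≤ R' := le_inf (le_normalizer_iff_commutator_le_left.1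
      (inf_le_left.trans Subgroup.le_normalizer))
    (by rw [commutator_comm]; exact (commutator_mono inf_le_right hErW).trans hCR)
  have hsplit : ∀ X : Subgroup G, X ≤ Er → Er ≤ Subgroup.normalizer (X : Set G) → Er ≤ X ⊔ C →
      Er ≤ X ⊔ Z := by
    intro X hX _ h x hx
    obtain ⟨a, ha, c, hc, rfl⟩ := exists_mul_of_mem_sup ((hX.trans hErE).trans hd.hEC) (h hx)
    have : c ∈ Er := by simpa using Er.mul_mem (Er.inv_mem (hX ha)) hx
    exact mul_mem (mem_sup_left ha) (mem_sup_right ⟨this, hc⟩)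
  have hperf : ⁅Er, Er⁆ = Er := by
    refine le_antisymm (le_normalizer_iff_commutator_le_left.1 Subgroup.le_normalizer) ?_
    set D := ⁅Er, Er⁆
    have hED : E ≤ Subgroup.normalizer (D : Set G) :=
      (le_inf hEEr hEEr).trans (normalizer_le_normalizer_commutator Er Er)
    have hDEr : D ≤ Er := le_normalizer_iff_commutator_le_left.1 Subgroup.le_normalizer
    have hX : E ≤ Subgroup.normalizer ((D ⊔ C : Subgroup G) : Set G) := le_normalizer_sup hED hd.hEC
    have hin : K ≤ D ⊔ C := by
      refine hd.perf.trans (sup_le ?_ le_sup_right)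
      refine (commutator_mono hKEr hKEr).trans ?_
      refine commutator_sup_le ((sup_le hErE hd.hCE).trans hX) ?_ ?_
      · rw [commutator_comm]
        refine commutator_sup_le ((sup_le hErE hd.hCE).trans hX) le_sup_left ?_
        exact (le_normalizer_iff_commutator_le_right.1 (hErE.trans hd.hEC)).trans le_sup_right
      · exact (le_normalizer_iff_commutator_le_right.1 ((sup_le hErE hd.hCE).trans hd.hEC)).trans
          le_sup_right
    have h1 : Er ≤ D ⊔ R' := by
      conv_lhs => rw [← hErQ]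
      rw [commutator_comm]
      have hn : Q ≤ Subgroup.normalizer ((D ⊔ R' : Subgroup G) : Set G) :=
        le_normalizer_sup (hQE.trans hED) (le_normalizer_inf' (hQE.trans hEEr)
          (hQE.trans (hd.hEC.trans (normalizer_le_normalizer_pCoreOf C))))
      refine (commutator_mono le_rfl
        (hsplit D hDEr (hErE.trans hED) (hErK.trans hin))).trans ?_
      refine commutator_sup_le ((sup_le hDEr inf_le_left).trans (le_normalizer_sup
          (hErE.trans hED) (le_normalizer_inf' Subgroup.le_normalizer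
            (hErE.trans (hd.hEC.trans (normalizer_le_normalizer_pCoreOf C)))))) ?_ ?_
      · exact (le_normalizer_iff_commutator_le_right.1 (hQE.trans hED)).trans le_sup_left
      · refine le_trans (le_inf ?_ ?_) le_sup_right
        · exact (commutator_mono le_rfl inf_le_left).trans
            (le_normalizer_iff_commutator_le_right.1 (hQE.trans hEEr))
        · rw [commutator_comm]; exact (commutator_mono inf_le_right hQW).trans hCR
    calc Er = pResOf p Er := hidem.symm
      _ ≤ pResOf p (D ⊔ R') := pResOf_mono h1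
      _ = pResOf p D := pResOf_sup_pgroup hR'p (inf_le_left.trans (hErE.trans hED))
      _ ≤ D := pResOf_le D
  have habsorb : ∀ X : Subgroup G, X ≤ Er → Er ≤ Subgroup.normalizer (X : Set G) →
      K ≤ X ⊔ C → Er ≤ X := by
    intro X hX hEX h
    have h1 : Er ≤ X ⊔ R' := by
      conv_lhs => rw [← hperf]
      refine (commutator_mono le_rfl (hsplit X hX hEX (hErK.trans h))).trans ?_
      refine commutator_sup_le ((sup_le hX inf_le_left).trans (le_normalizer_sup hEX
        (le_normalizer_inf' Subgroup.le_normalizer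
          (hErE.trans (hd.hEC.trans (normalizer_le_normalizer_pCoreOf C)))))) ?_ ?_
      · exact (le_normalizer_iff_commutator_le_right.1 hEX).trans le_sup_left
      · exact hEZ.trans le_sup_right
    calc Er = pResOf p Er := hidem.symm
      _ ≤ pResOf p (X ⊔ R') := pResOf_mono h1
      _ = pResOf p X := pResOf_sup_pgroup hR'p (inf_le_left.trans hEX)
      _ ≤ X := pResOf_le X
  have hcase : ∀ X : Subgroup G, X ≤ Er → Er ≤ Subgroup.normalizer (X : Set G) →
      Er ≤ X ∨ ⁅X, Er⁆ ≤ C := by
    intro X hX hEX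
    have hn : K ≤ Subgroup.normalizer ((X ⊔ C : Subgroup G) : Set G) := by
      rw [hK]
      refine sup_le (le_normalizer_sup hEX (hErE.trans hd.hEC)) ?_
      rw [le_normalizer_iff_commutator_le_right]
      refine le_trans (commutator_sup_le ((sup_le (hX.trans hErE) hd.hCE).trans hd.hEC)
        (le_normalizer_iff_commutator_le_left.1 ((hX.trans hErE).trans hd.hEC))
        (le_normalizer_iff_commutator_le_right.1 Subgroup.le_normalizer)) le_sup_right
    rcases hd.qs (X ⊔ C) (sup_le (hX.trans hErK) (hd.hK ▸ le_sup_right)) hn with h | h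
    · exact Or.inl (habsorb X hX hEX (h.trans (sup_le le_rfl le_sup_right)))
    · exact Or.inr ((commutator_mono le_sup_left hErK).trans h)
  refine ⟨hK, hperf, hidem, ?_, ?_⟩
  · -- `E_∘ / O_p(E_∘)`
    set P := pCoreOf p Er with hP
    have hPC : P ≤ C := hd.red P ((pCoreOf_le Er).trans hErE)
      (hEEr.trans (normalizer_le_normalizer_pCoreOf Er))
      (by rw [pResOf_eq_bot.2 (pCoreOf_isPGroup Er)]; exact bot_le)
    have hR'P : R' ≤ P := le_pCoreOf inf_le_left (le_normalizer_inf' Subgroup.le_normalizer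
      (hErE.trans (hd.hEC.trans (normalizer_le_normalizer_pCoreOf C)))) hR'p
    set π := QuotientGroup.mk' (pCore p ↥Er) with hπ
    have hmem : ∀ x : Er, π x = 1 ↔ (x : G) ∈ P := fun x =>
      (QuotientGroup.eq_one_iff x).trans (Subgroup.mem_map_iff_mem Er.subtype_injective).symm
    haveI : Nontrivial (↥Er ⧸ pCore p ↥Er) := by
      refine QuotientGroup.nontrivial_iff.2 fun h => hErC fun x hx => hPC ?_
      exact (hmem ⟨x, hx⟩).1 ((QuotientGroup.eq_one_iff _).2 (h ▸ mem_top _))
    refine isQuasisimple_of_normal_le_center ?_ fun N hN hNtop => ?_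
    · rw [← map_top_of_surjective π (QuotientGroup.mk'_surjective _), ← map_commutator]
      refine le_antisymm (map_mono le_top) (map_mono fun x _ => ?_)
      have : (x : G) ∈ ⁅Er, Er⁆ := hperf.ge x.2
      rw [← map_subtype_commutator Er, commutator_def] at this
      exact (Subgroup.mem_map_iff_mem Er.subtype_injective).1 this
    · haveI := hN
      set N' := (N.comap π).map Er.subtype with hN'
      have hN'Er : N' ≤ Er := map_subtype_le _
      have hn : Er ≤ Subgroup.normalizer (N' : Set G) := fun g hg => by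
        refine mem_normalizer_of_forall ?_
        rintro _ ⟨x, hx, rfl⟩
        exact ⟨_, (inferInstance : (N.comap π).Normal).conj_mem x hx ⟨g, hg⟩, rfl⟩
      rcases hcase N' hN'Er hn with h | h
      · refine absurd (top_le_iff.1 fun y _ => ?_) hNtop
        obtain ⟨x, rfl⟩ := QuotientGroup.mk'_surjective _ y
        exact (Subgroup.mem_map_iff_mem Er.subtype_injective).1 (h x.2)
      · have h1 : ⁅⁅Er, N'⁆, Er⁆ ≤ P := by
          rw [commutator_comm Er N', commutator_comm _ Er]
          refine le_trans ?_ (hEZ.trans hR'P)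
          exact commutator_mono le_rfl
            (le_inf (le_normalizer_iff_commutator_le_right.1 (hN'Er.trans Subgroup.le_normalizer)) h)
        have hPn : Er ≤ Subgroup.normalizer (P : Set G) := le_normalizer_pCoreOf Er
        have h2 : ⁅⁅Er, Er⁆, N'⁆ ≤ P := three_subgroups_le hPn hPn (hN'Er.trans hPn) h1
          (by rw [commutator_comm N' Er]; exact h1)
        rw [hperf] at h2
        intro y hy
        obtain ⟨x, rfl⟩ := QuotientGroup.mk'_surjective _ y
        refine mem_center_iff.2 fun z => ?_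
        obtain ⟨z, rfl⟩ := QuotientGroup.mk'_surjective _ z
        have h3 : π ⁅z, x⁆ = 1 := (hmem _).2
          (h2 (commutator_mem_commutator z.2 ⟨x, hy, rfl⟩))
        rw [map_commutatorElement, commutatorElement_eq_one_iff_mul_comm] at h3
        exact h3
  · intro Y hYE hYp hYC
    have hYEr : Y ≤ Subgroup.normalizer (Er : Set G) := hYE.trans hEEr
    refine le_antisymm (le_normalizer_iff_commutator_le_left.1 hYEr) ?_
    rcases hcase ⁅Er, Y⁆ (le_normalizer_iff_commutator_le_left.1 hYEr)
      (le_sup_left.trans (CfsgLib.Coprime.sup_le_normalizer_commutator Er Y)) with h | h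
    · exact h
    · exfalso
      have h1 : ⁅⁅Er, Er⁆, Y⁆ ≤ C := three_subgroups_le (hErE.trans hd.hEC) (hErE.trans hd.hEC)
        (hYE.trans hd.hEC) h (by rw [commutator_comm Y Er]; exact h)
      rw [hperf] at h1
      refine hYC (hd.cent Y hYE hYp ?_)
      rw [hK]
      refine commutator_sup_le ((sup_le hErE hd.hCE).trans hd.hEC)
        (by rw [commutator_comm]; exact h1) ?_
      exact le_normalizer_iff_commutator_le_right.1 (hYE.trans hd.hEC)

end CfsgLib.LocalEven48.LargeSection
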