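import Cfsg.Agent.Mathieu.OctadPointwise
import Cfsg.Agent.AltSylow.Basic

/-!
The octad stabiliser of `Cfsg.M24` and the self-normalisation of a Sylow 2-subgroup.
-/

set_option autoImplicit false

namespace CfsgLib.LocalEven48

open Cfsg CfsgLib.Mathieu
open scoped Pointwise

/-- Transitivity of the pointwise octad stabiliser on the sixteen outer points. -/
theorem octad_pointwise_transitive {o : Finset GolayPt} (ho : o ∈ octads) {p q : GolayPt}
    (hp : p ∉ o) (hq : q ∉ o) :
    ∃ g ∈ M24, (∀ x ∈ o, g x = x) ∧ g p = q := by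
  obtain ⟨a, ha, hoa⟩ := M24_octad_transitive
    (setOf24_mem_wordsOfWeight (M := m24BaseOctad) (n := 8) (by decide +kernel) (by decide +kernel)) ho
  have hout : ∀ r, r ∉ o → a⁻¹ r ∈ (setOf24 m24BaseOctad)ᶜ := by
    intro r hr
    refine Finset.mem_compl.2 fun h => hr ?_
    rw [← hoa]
    exact Finset.mem_image.2 ⟨_, h, perm_apply_inv a r⟩
  have hmove : ∀ r, r ∉ o → ∃ g ∈ M24, (∀ x ∈ setOf24 m24BaseOctad, g x = x) ∧
      g (m24Base.getD 6 none) = a⁻¹ r := by
    intro r hr
    obtain ⟨g, hg, hfix, hgr⟩ := m24_reach 6 (a⁻¹ r)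
      ((by decide +kernel : ∀ s ∈ (setOf24 m24BaseOctad)ᶜ, m24Reaches 6 s = true) _ (hout r hr))
    exact ⟨g, m24Gen_le hg, (m24Base_six_spec ⟨m24Gen_le hg, hfix⟩).1, hgr⟩
  obtain ⟨g, hg, hgfix, hgp⟩ := hmove p hp
  obtain ⟨h, hh, hhfix, hhq⟩ := hmove q hq
  refine ⟨a * (h * g⁻¹) * a⁻¹, mul_mem (mul_mem ha (mul_mem hh (inv_mem hg))) (inv_mem ha), ?_, ?_⟩
  · intro x hx
    rw [← hoa, Finset.mem_image] at hx
    obtain ⟨y, hy, rfl⟩ := hx
    show a (h (g⁻¹ (a⁻¹ (a y)))) = a y
    rw [perm_inv_apply, show g⁻¹ y = y from (congrArg _ (hgfix y hy).symm).trans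
      (perm_inv_apply g y), hhfix y hy]
  · show a (h (g⁻¹ (a⁻¹ p))) = q
    rw [← hgp, perm_inv_apply, hhq, perm_apply_inv]

theorem mem_stabilizer_octad_iff {o : Finset GolayPt} {g : M24} :
    g ∈ MulAction.stabilizer M24 o ↔ o.image (g : Equiv.Perm GolayPt) = o := Iff.rfl

theorem orbit_octad {o : Finset GolayPt} (ho : o ∈ octads) :
    MulAction.orbit M24 o = octads := by
  ext o'
  constructor
  · rintro ⟨g, rfl⟩
    exact octad_image g.2 ho
  · intro ho'
    obtain ⟨g, hg, h⟩ := M24_octad_transitive ho ho'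
    exact ⟨⟨g, hg⟩, h⟩

theorem card_octad_stabilizer {o : Finset GolayPt} (ho : o ∈ octads) :
    Nat.card (MulAction.stabilizer M24 o) = 322560 := by
  have h := (MulAction.stabilizer M24 o).index_mul_card
  rw [MulAction.index_stabilizer, orbit_octad ho, ncard_octads, card_M24] at h
  omega

theorem stabilizer_mem_iff {o : Finset GolayPt} (g : MulAction.stabilizer M24 o) (x : GolayPt) :
    ((g : M24) : Equiv.Perm GolayPt) x ∈ o ↔ x ∈ o := by
  have h : o.image ((g : M24) : Equiv.Perm GolayPt) = o := g.2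
  have h1 := Finset.ext_iff.1 h (((g : M24) : Equiv.Perm GolayPt) x)
  rw [(Equiv.injective _).mem_finset_image] at h1
  exact h1.symm

/-- The action of the octad stabiliser on the eight points of its octad. -/
def octadRestrict (o : Finset GolayPt) :
    MulAction.stabilizer M24 o →* Equiv.Perm {x // x ∈ o} where
  toFun g := ((g : M24) : Equiv.Perm GolayPt).subtypePerm (stabilizer_mem_iff g)
  map_one' := by ext x; rfl
  map_mul' g h := by ext x; rfl

theorem octadRestrict_ker_iff {o : Finset GolayPt} {g : MulAction.stabilizer M24 o} :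
    g ∈ (octadRestrict o).ker ↔ ∀ x ∈ o, ((g : M24) : Equiv.Perm GolayPt) x = x := by
  constructor
  · intro h x hx
    exact congrArg (fun k : Equiv.Perm {x // x ∈ o} => ((k ⟨x, hx⟩ : {x // x ∈ o}) : GolayPt))
      (MonoidHom.mem_ker.1 h)
  · intro h
    exact MonoidHom.mem_ker.2 (Equiv.ext fun x => Subtype.ext (h x x.2))

theorem card_octadRestrict_ker {o : Finset GolayPt} (ho : o ∈ octads) :
    Nat.card (octadRestrict o).ker = 16 := by
  rw [← (octad_pointwise_spec ho).1]
  refine Nat.card_congr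
    { toFun := fun g => ⟨((g.1 : M24) : Equiv.Perm GolayPt), g.1.1.2,
        (mem_fixingSubgroup_iff _).2 fun x hx => octadRestrict_ker_iff.1 g.2 x hx⟩
      invFun := fun g => ⟨⟨⟨g.1, g.2.1⟩, ?_⟩, ?_⟩
      left_inv := fun g => rfl
      right_inv := fun g => rfl }
  · show o.image g.1 = o
    conv_rhs => rw [← Finset.image_id (s := o)]
    exact Finset.image_congr fun x hx => (mem_fixingSubgroup_iff _).1 g.2.2 x hx
  · exact octadRestrict_ker_iff.2 fun x hx => (mem_fixingSubgroup_iff _).1 g.2.2 x hx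

theorem octadRestrict_range {o : Finset GolayPt} (ho : o ∈ octads) :
    (octadRestrict o).range = alternatingGroup {x // x ∈ o} ∧
      Nat.card (octadRestrict o).range = 20160 := by
  have h := (octadRestrict o).ker.index_mul_card
  rw [Subgroup.index_ker, card_octadRestrict_ker ho, card_octad_stabilizer ho] at h
  have h1 : Nat.card (octadRestrict o).range = 20160 := by omega
  refine ⟨Equiv.Perm.eq_alternatingGroup_of_index_eq_two ?_, h1⟩
  have h2 := (octadRestrict o).range.index_mul_card
  rw [h1, Nat.card_perm, Nat.card_eq_fintype_card, Fintype.card_coe, ho.2] at h2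
  rw [show Nat.factorial 8 = 40320 from rfl] at h2
  omega

theorem two_pow_dvd_le_six {k : ℕ} (h : 2 ^ k ∣ 20160) : k ≤ 6 := by
  by_contra hk
  exact absurd ((pow_dvd_pow 2 (show 7 ≤ k by omega)).trans h) (by norm_num)

theorem card_sylow_M24 (S : Sylow 2 M24) : Nat.card (S : Subgroup M24) = 2 ^ 10 := by
  obtain ⟨k, hk⟩ := S.isPGroup'.exists_card_eq
  have h1 := (S : Subgroup M24).index_mul_card
  have h2 : ¬ 2 ∣ (S : Subgroup M24).index := S.not_dvd_index
  rw [hk, card_M24] at h1
  rw [hk]
  have h3 : k ≤ 10 := by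
    by_contra hk'
    have h4 : 2 ^ 11 ∣ 244823040 := (pow_dvd_pow 2 (show 11 ≤ k by omega)).trans
      (Dvd.intro_left _ h1)
    exact absurd h4 (by norm_num)
  interval_cases k <;> omega

theorem M24_sylow_two_normalizer_le (S : Sylow 2 M24) :
    Subgroup.normalizer ((S : Subgroup M24) : Set M24) ≤ (S : Subgroup M24) := by
  obtain ⟨o₀, ho₀⟩ : octads.Nonempty := Set.nonempty_of_ncard_ne_zero (by rw [ncard_octads]; norm_num)
  have hnd : ¬ 2 ∣ Nat.card (MulAction.orbit M24 o₀) := by
    rw [Nat.card_coe_set_eq, orbit_octad ho₀, ncard_octads]; norm_num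
  obtain ⟨⟨o, ho'⟩, hofix⟩ := IsPGroup.nonempty_fixed_point_of_prime_not_dvd_card
    S.isPGroup' (α := MulAction.orbit M24 o₀) hnd
  have ho : o ∈ octads := (orbit_octad ho₀).subset ho'
  have hSstab : (S : Subgroup M24) ≤ MulAction.stabilizer M24 o := fun s hs =>
    congrArg Subtype.val (hofix ⟨s, hs⟩)
  -- restriction of `S`
  set St := (S : Subgroup M24).subgroupOf (MulAction.stabilizer M24 o) with hStdef
  have hStcard : Nat.card St = 2 ^ 10 :=
    (Nat.card_congr (Subgroup.subgroupOfEquivOfLe hSstab).toEquiv).trans (card_sylow_M24 S)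
  set R := St.map (octadRestrict o) with hRdef
  have hRle : R ≤ alternatingGroup {x // x ∈ o} := by
    rw [← (octadRestrict_range ho).1]; exact Subgroup.map_le_range _ _
  have hRp : IsPGroup 2 R := ((IsPGroup.of_card hStcard).map _)
  have hker : Nat.card R * Nat.card ((octadRestrict o).domRestrict St).ker = 2 ^ 10 := by
    rw [← hStcard, hRdef, ← MonoidHom.domRestrict_range, ← Subgroup.index_ker,
      Subgroup.index_mul_card]
  have hkerle : ((octadRestrict o).domRestrict St).ker.map St.subtype ≤ (octadRestrict o).ker := by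
    rintro _ ⟨g, hg, rfl⟩; exact hg
  have hkcard : Nat.card ((octadRestrict o).domRestrict St).ker =
      Nat.card (((octadRestrict o).domRestrict St).ker.map St.subtype : Subgroup _) :=
    (Subgroup.card_map_of_injective St.subtype_injective).symm
  have h16 : Nat.card ((octadRestrict o).domRestrict St).ker ≤ 16 := by
    rw [hkcard, ← card_octadRestrict_ker ho]
    exact Nat.le_of_dvd Nat.card_pos (Subgroup.card_dvd_of_le hkerle)
  obtain ⟨k, hk⟩ := hRp.exists_card_eq
  have hk6 : k ≤ 6 := two_pow_dvd_le_six (by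
    rw [← hk, ← (octadRestrict_range ho).2]
    exact Subgroup.card_dvd_of_le (Subgroup.map_le_range _ _))
  have hR64 : Nat.card R = 64 := by
    rw [hk] at hker ⊢
    interval_cases k <;> omega
  have hkereq : ((octadRestrict o).domRestrict St).ker.map St.subtype = (octadRestrict o).ker := by
    refine Subgroup.eq_of_le_of_card_ge hkerle ?_
    rw [← hkcard, card_octadRestrict_ker ho]
    rw [hR64] at hker
    omega
  have hkerS : (octadRestrict o).ker ≤ St := hkereq ▸ Subgroup.map_subtype_le _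
  -- uniqueness of the fixed octad
  have huniq : ∀ o' ∈ octads, (∀ s ∈ (S : Subgroup M24), o'.image (s : Equiv.Perm GolayPt) = o') →
      o' = o := by
    intro o' ho2 hfix
    by_contra hne
    have hnsub : ¬ o' ⊆ o := fun h => hne (Finset.eq_of_subset_of_card_le h (by rw [ho.2, ho2.2]))
    obtain ⟨p, hp', hp⟩ := Finset.not_subset.1 hnsub
    have hsub : oᶜ ⊆ o' := by
      intro q hq
      obtain ⟨g, hg, hgfix, hgp⟩ := octad_pointwise_transitive ho hp (Finset.mem_compl.1 hq)
      have hgst : (⟨g, hg⟩ : M24) ∈ MulAction.stabilizer M24 o := by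
        show o.image g = o
        conv_rhs => rw [← Finset.image_id (s := o)]
        exact Finset.image_congr hgfix
      have := hkerS (octadRestrict_ker_iff.2 hgfix :
        (⟨⟨g, hg⟩, hgst⟩ : MulAction.stabilizer M24 o) ∈ (octadRestrict o).ker)
      rw [← hgp, ← hfix ⟨g, hg⟩ this]
      exact Finset.mem_image_of_mem _ hp'
    have := Finset.card_le_card hsub
    rw [Finset.card_compl, ho.2, ho2.2, card_golayPt24] at this
    omega
  intro x hx
  have hxo : o.image (x : Equiv.Perm GolayPt) = o := by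
    refine huniq _ (octad_image x.2 ho) fun s hs => ?_
    have h1 : x⁻¹ * s * x ∈ (S : Subgroup M24) := (Subgroup.mem_normalizer_iff''.1 hx s).1 hs
    have h2 : (x⁻¹ * s * x) • o = o := hSstab h1
    show s • (x • o) = x • o
    conv_rhs => rw [← h2, smul_smul]
    rw [smul_smul]
    congr 1
    group
  set xs : MulAction.stabilizer M24 o := ⟨x, hxo⟩ with hxs
  have hnorm : octadRestrict o xs ∈ Subgroup.normalizer (R : Set (Equiv.Perm {x // x ∈ o})) := by
    refine Subgroup.le_normalizer_map _ (Subgroup.mem_map_of_mem _ ?_)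
    refine Subgroup.mem_normalizer_iff.2 fun h => ?_
    exact Subgroup.mem_normalizer_iff.1 hx h.1
  obtain ⟨P, hRP⟩ := hRp.exists_le_sylow
  have hReq : (P : Subgroup (Equiv.Perm {x // x ∈ o})) ⊓ alternatingGroup {x // x ∈ o} = R := by
    refine (Subgroup.eq_of_le_of_card_ge (le_inf hRP hRle) ?_).symm
    obtain ⟨m, hm⟩ := (P.isPGroup'.to_le (inf_le_left (b := alternatingGroup {x // x ∈ o}))).exists_card_eq
    have hm6 : m ≤ 6 := two_pow_dvd_le_six (by
      rw [← hm, ← (octadRestrict_range ho).2, (octadRestrict_range ho).1]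
      exact Subgroup.card_dvd_of_le inf_le_right)
    rw [hm, hR64]
    exact (Nat.pow_le_pow_right (by norm_num) hm6)
  have hxP : octadRestrict o xs ∈ (P : Subgroup (Equiv.Perm {x // x ∈ o})) :=
    CfsgLib.AltSylow.normalizer_sylow_inf_alternating (by rw [Fintype.card_coe, ho.2]; norm_num) P
      (by rw [hReq]; exact hnorm)
  have hxR : octadRestrict o xs ∈ R := by
    rw [← hReq]
    exact ⟨hxP, (octadRestrict_range ho).1 ▸ ⟨xs, rfl⟩⟩
  obtain ⟨t, ht, htx⟩ := hxR
  have h3 : t⁻¹ * xs ∈ (octadRestrict o).ker := by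
    rw [MonoidHom.mem_ker, map_mul, map_inv, htx, inv_mul_cancel]
  have h4 : xs ∈ St := by
    have := mul_mem ht (hkerS h3)
    rwa [mul_inv_cancel_left] at this
  exact h4
where
  card_golayPt24 : Fintype.card GolayPt = 24 := by simp [ZMod.card]

end CfsgLib.LocalEven48
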