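import Cfsg.Agent.LocalStructure.PClosed
import Cfsg.Agent.Subnormal.Join
import Cfsg.Agent.Transfer.Residual

/-!
Structure of `p`-minimal groups: the maximal subgroup over a Sylow subgroup, its core and
the normal subgroups.
-/

namespace CfsgLib.LocalEven48.PMinimal

open Subgroup Cfsg
open scoped Pointwise

variable {P : Type*} [Group P] [Finite P] {p : ℕ} [Fact p.Prime]
  {S : Sylow p P} {M : Subgroup P}

theorem le_of_sylow_le (hP : IsPMinimal p P) (hM : IsCoatom M) (hSM : (S : Subgroup P) ≤ M)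
    {K : Subgroup P} (hSK : (S : Subgroup P) ≤ K) (hK : K ≠ ⊤) : K ≤ M := by
  obtain h | ⟨M', hM', hKM'⟩ := eq_top_or_exists_le_coatom K
  · exact absurd h hK
  · exact (hP S).2.unique ⟨hM', hSK.trans hKM'⟩ ⟨hM, hSM⟩ ▸ hKM'

theorem pResidual_le_or_le_normalCore (hP : IsPMinimal p P) (hM : IsCoatom M)
    (hSM : (S : Subgroup P) ≤ M) (N : Subgroup P) [N.Normal] :
    pResidual p P ≤ N ∨ N ≤ M.normalCore := by
  by_cases h : (S : Subgroup P) ⊔ N = ⊤
  · exact Or.inl (LocalStructure.pResidual_le_of_sup_eq_top S.isPGroup' h)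
  · exact Or.inr (normal_le_normalCore.2
      (le_sup_right.trans (le_of_sylow_le hP hM hSM le_sup_left h)))

theorem not_pResidual_le (hM : IsCoatom M) (hSM : (S : Subgroup P) ≤ M) :
    ¬ pResidual p P ≤ M := fun h =>
  hM.1 (top_le_iff.1 ((LocalStructure.sylow_sup_pResidual S).ge.trans (sup_le hSM h)))

/-- The core of the maximal subgroup over a Sylow subgroup is `p`-closed. -/
theorem normalCore_inf_sylow_le (hP : IsPMinimal p P) (hM : IsCoatom M)
    (hSM : (S : Subgroup P) ≤ M) : M.normalCore ⊓ (S : Subgroup P) ≤ pCore p P := by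
  have hFn : ⊤ ≤ normalizer (M.normalCore : Set P) := (normalizer_eq_top (H := M.normalCore)).ge
  set N₀ := normalizer (((S : Subgroup P) ⊓ M.normalCore : Subgroup P) : Set P) with hN₀
  have hSN₀ : (S : Subgroup P) ≤ N₀ :=
    LocalStructure.le_normalizer_inf' Subgroup.le_normalizer (le_top.trans hFn)
  by_cases h : N₀ = ⊤
  · have : ((S : Subgroup P) ⊓ M.normalCore).Normal := normalizer_eq_top_iff.1 h
    rw [inf_comm]
    exact LocalStructure.le_pCore (S.isPGroup'.to_inf_left)
  · refine absurd (top_le_iff.1 fun g hg => ?_) hM.1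
    obtain ⟨R, hR⟩ := LocalStructure.sylow_inf S (X := M.normalCore) (le_top.trans hFn)
    obtain ⟨a, ha, c, hc, rfl⟩ := LocalStructure.frattini_argument le_top hFn R hg
    rw [hR, map_subgroupOf_eq_of_le inf_le_right] at ha
    exact M.mul_mem (le_of_sylow_le hP hM hSM hSN₀ h ha.2) (normalCore_le M hc)

/-- A subnormal subgroup inside the maximal subgroup lies in its core. -/
theorem le_normalCore_of_isSubnormal (hP : IsPMinimal p P) (hM : IsCoatom M)
    (hSM : (S : Subgroup P) ≤ M) {N : Subgroup P} (hN : N.IsSubnormal) (hNM : N ≤ M) :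
    N ≤ M.normalCore := by
  set T : Set (Subgroup P) := {A | A.IsSubnormal ∧ A ≤ M} with hT
  set U := sSup T with hU
  have hUsn : U.IsSubnormal := Subnormal.isSubnormal_sSup fun A hA => hA.1
  have hUM : U ≤ M := sSup_le fun A hA => hA.2
  have hsn : ∀ g : P, (MulAut.conj g • U).IsSubnormal := fun g =>
    hUsn.map (MulAut.conj g).surjective
  have hself : ∀ g : P, MulAut.conj g • U ≤ M → g ∈ normalizer (U : Set P) := fun g hg => by
    rw [Solvable.mem_normalizer_iff_conj_smul]
    exact eq_of_le_of_card_ge (le_sSup (show MulAut.conj g • U ∈ T from ⟨hsn g, hg⟩))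
      (Solvable.card_conj_smul g U).ge
  have hSU : (S : Subgroup P) ≤ normalizer (U : Set P) := fun s hs => hself s (by
    intro x hx
    rw [Solvable.mem_conj_smul] at hx
    simpa [mul_assoc] using M.mul_mem (M.mul_mem (hSM hs) (hUM hx)) (M.inv_mem (hSM hs)))
  by_cases hn : U.Normal
  · exact (le_sSup (show N ∈ T from ⟨hN, hNM⟩)).trans (normal_le_normalCore.2 hUM)
  · obtain ⟨g, hg, hgle⟩ := Subnormal.exists_conj_le_normalizer hUsn hn
    exact absurd (hself g (hgle.trans (le_of_sylow_le hP hM hSM hSU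
      fun h => hn (normalizer_eq_top_iff.1 h)))) hg

theorem inf_sylow_le_pCore (hP : IsPMinimal p P) (hM : IsCoatom M) (hSM : (S : Subgroup P) ≤ M)
    {N : Subgroup P} (hN : N.IsSubnormal) (hNM : N ≤ M) :
    N ⊓ (S : Subgroup P) ≤ pCore p P :=
  (inf_le_inf_right _ (le_normalCore_of_isSubnormal hP hM hSM hN hNM)).trans
    (normalCore_inf_sylow_le hP hM hSM)

omit [Fact p.Prime] in
theorem card_map_subtype' {K : Subgroup P} (Q : Subgroup ↥K) :
    Nat.card (Q.map K.subtype : Subgroup P) = Nat.card Q :=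
  card_map_of_injective K.subtype_injective

theorem prime_of_dvd_sup {q r : ℕ} [Fact q.Prime] [Fact r.Prime] {A C : Subgroup P}
    (hA : IsPGroup q A) (hAC : A ≤ normalizer (C : Set P))
    (hr : r ∣ Nat.card (A ⊔ C : Subgroup P)) : r = q ∨ r ∣ Nat.card C := by
  obtain ⟨x, hx⟩ := exists_prime_orderOf_dvd_card' r hr
  obtain ⟨k, hk⟩ := LocalStructure.exists_pow_mem_of_mem_sup hA hAC x.2
  by_cases hrq : r = q
  · exact Or.inl hrq
  refine Or.inr ?_
  have ho : orderOf (x : P) = r := by rw [orderOf_coe]; exact hx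
  have hcop : (orderOf (x : P)).Coprime (q ^ k) := by
    rw [ho]; exact ((Nat.coprime_primes Fact.out Fact.out).2 hrq).pow_right k
  have := C.orderOf_dvd_natCard hk
  rwa [hcop.orderOf_pow, ho] at this

/-- In a `p`-closed normal subgroup with Sylow subgroup `T`, a subgroup `TQ` with `Q` a Sylow
`q`-subgroup is normalised by a conjugate of any Sylow `p`-subgroup. -/
theorem exists_invariant (S : Sylow p P) {K : Subgroup P} [K.Normal]
    (hK : IsPClosed p ↥K) (q : ℕ) [Fact q.Prime] :
    ∃ R : Subgroup P, R ≤ K ∧ (S : Subgroup P) ≤ normalizer (R : Set P) ∧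
      (S : Subgroup P) ⊓ K ≤ R ∧ q ^ (Nat.card K).factorization q ∣ Nat.card R ∧
      ∀ r : ℕ, r.Prime → r ∣ Nat.card R → r = p ∨ r = q := by
  set T := pCoreOf p K with hT
  have hTS : T = (S : Subgroup P) ⊓ K := LocalStructure.sylow_inf_normal_of_isPClosed S hK
  have hTn : T.Normal := LocalStructure.pCoreOf_normal K
  obtain ⟨Q⟩ : Nonempty (Sylow q ↥K) := inferInstance
  set Q' : Subgroup P := (Q : Subgroup ↥K).map K.subtype with hQ'
  set R := Q' ⊔ T with hR
  have hRK : R ≤ K := sup_le (map_subtype_le _) (LocalStructure.pCoreOf_le K)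
  set N := normalizer (R : Set P) with hN
  have hQN : normalizer (Q' : Set P) ≤ N := LocalStructure.le_normalizer_sup le_rfl
    (le_top.trans (normalizer_eq_top (H := T)).ge)
  have hNK : N ⊔ K = ⊤ := top_le_iff.1 fun g hg => by
    obtain ⟨a, ha, c, hc, rfl⟩ := LocalStructure.frattini_argument le_top
      (normalizer_eq_top (H := K)).ge Q hg
    exact mul_mem (mem_sup_left (hQN ha.2)) (mem_sup_right hc)
  have hSN : (S : Subgroup P) ⊓ K ≤ N :=
    (hTS.ge.trans le_sup_right).trans Subgroup.le_normalizer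
  have hidx : ¬ p ∣ N.index := by
    intro hd
    refine S.not_dvd_index (hd.trans ?_)
    have h1 : N.index = N.relIndex K := by
      have e1 := Transfer.card_sylow_inf_mul_relIndex K N
      have e2 := Transfer.card_sylow_inf_mul_relIndex N K
      have e3 : K.relIndex N = K.index := by
        rw [← relIndex_sup_right (H := N) (K := K), hNK, relIndex_top_right]
      have e4 := N.card_mul_index.trans K.card_mul_index.symm
      rw [← e1, ← e2, e3, inf_comm K N] at e4
      refine Nat.eq_of_mul_eq_mul_left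
        (Nat.mul_pos (Nat.card_pos (α := (N ⊓ K : Subgroup P)))
          (Nat.pos_of_ne_zero K.index_ne_zero_of_finite)) (e4.trans ?_)
      ring
    rw [h1]
    refine dvd_trans ?_ (Transfer.relIndex_dvd_index_of_normal_right (S : Subgroup P) K)
    rw [← inf_relIndex_right (S : Subgroup P) K, ← inf_relIndex_right N K]
    exact relIndex_dvd_of_le_left _ (le_inf hSN inf_le_right)
  obtain ⟨S₁⟩ : Nonempty (Sylow p ↥N) := inferInstance
  obtain ⟨S₂, hS₂⟩ := (S₁.isPGroup'.map N.subtype).exists_le_sylow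
  have hS₁ : (S₁ : Subgroup ↥N).map N.subtype = (S₂ : Subgroup P) := by
    refine eq_of_le_of_card_ge hS₂ ?_
    rw [card_map_subtype', S₁.card_eq_multiplicity, S₂.card_eq_multiplicity,
      ← N.card_mul_index, Nat.factorization_mul Nat.card_pos.ne' index_ne_zero_of_finite,
      Finsupp.add_apply, Nat.factorization_eq_zero_of_not_dvd hidx, add_zero]
  obtain ⟨g, hg⟩ := MulAction.exists_smul_eq P S₂ S
  have hTg : MulAut.conj g • T = T := Normal.conj_smul_eq_self g T
  refine ⟨MulAut.conj g • R, ?_, ?_, ?_, ?_, ?_⟩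
  · rw [← Normal.conj_smul_eq_self g K]
    exact pointwise_smul_le_pointwise_smul_iff.2 hRK
  · intro s hs
    rw [← hg, Sylow.coe_subgroup_smul, Solvable.mem_conj_smul] at hs
    have h := hS₁.ge hs
    have h' : g⁻¹ * s * g ∈ N := map_subtype_le _ h
    rw [hN, Solvable.mem_normalizer_iff_conj_smul] at h'
    rw [Solvable.mem_normalizer_iff_conj_smul]
    have : s = g * (g⁻¹ * s * g) * g⁻¹ := by group
    rw [this, map_mul, map_mul, mul_smul, mul_smul, ← mul_smul _ (MulAut.conj g), ← map_mul,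
      inv_mul_cancel, map_one, one_smul, h']
  · rw [← hTS, ← hTg]
    exact pointwise_smul_le_pointwise_smul_iff.2 le_sup_right
  · rw [Solvable.card_conj_smul]
    refine dvd_trans ?_ (card_dvd_of_le (le_sup_left : Q' ≤ R))
    rw [hQ', card_map_subtype', Q.card_eq_multiplicity]
  · intro r hr hd
    rw [Solvable.card_conj_smul] at hd
    haveI := Fact.mk hr
    rcases prime_of_dvd_sup (r := r) (Q.isPGroup'.map K.subtype)
      (le_top.trans (normalizer_eq_top (H := T)).ge) hd with h | h
    · exact Or.inr h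
    · obtain ⟨k, hk⟩ := (LocalStructure.pCoreOf_isPGroup (p := p) K).exists_card_eq
      rw [hk] at h
      exact Or.inl ((Nat.prime_dvd_prime_iff_eq hr Fact.out).1 (hr.dvd_of_dvd_pow h))

/-- A `p`-closed normal subgroup outside `M` has a `{p,q}`-subgroup generating `P` with `S`. -/
theorem exists_sup_eq_top (hP : IsPMinimal p P) (hM : IsCoatom M)
    (hSM : (S : Subgroup P) ≤ M) {K : Subgroup P} [K.Normal] (hK : IsPClosed p ↥K)
    (hKM : ¬ K ≤ M) :
    ∃ R : Subgroup P, ∃ q : ℕ, q.Prime ∧ R ≤ K ∧ (S : Subgroup P) ≤ normalizer (R : Set P) ∧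
      (S : Subgroup P) ⊔ R = ⊤ ∧ ∀ r : ℕ, r.Prime → r ∣ Nat.card R → r = p ∨ r = q := by
  by_contra h
  refine hKM (inf_eq_right.1 (eq_of_le_of_card_ge inf_le_right (Nat.le_of_dvd Nat.card_pos ?_)))
  rw [Nat.dvd_iff_prime_pow_dvd_dvd]
  intro r k hr hd
  haveI := Fact.mk hr
  obtain ⟨R, hRK, hn, hTR, hcard, hpr⟩ := exists_invariant S hK r
  have hR : R ≤ M ⊓ K := le_inf (le_sup_right.trans (le_of_sylow_le hP hM hSM le_sup_left
    fun ht => h ⟨R, r, hr, hRK, hn, ht, hpr⟩)) hRK
  refine dvd_trans (dvd_trans (pow_dvd_pow r ?_) hcard) (card_dvd_of_le hR)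
  exact (Nat.Prime.pow_dvd_iff_le_factorization hr Nat.card_pos.ne').1 hd

/-- If `O^p(P)` is `p`-closed, then at most two primes divide `|P|`. -/
theorem primeFactors_card_le (hP : IsPMinimal p P) (hM : IsCoatom M)
    (hSM : (S : Subgroup P) ≤ M) (hK : IsPClosed p ↥(pResidual p P)) :
    (Nat.card P).primeFactors.card ≤ 2 := by
  have : (pResidual p P).Normal := LocalStructure.pResidual_normal
  obtain ⟨R, q, hq, -, hn, ht, hr⟩ :=
    exists_sup_eq_top hP hM hSM hK (not_pResidual_le hM hSM)
  refine (Finset.card_le_card (t := {p, q}) fun r hr' => ?_).trans Finset.card_le_two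
  rw [Nat.mem_primeFactors] at hr'
  haveI := Fact.mk hr'.1
  rw [Finset.mem_insert, Finset.mem_singleton]
  rcases prime_of_dvd_sup (r := r) S.isPGroup' hn (by rw [ht, card_top]; exact hr'.2.1) with h | h
  · exact Or.inl h
  · exact hr r hr'.1 h

end CfsgLib.LocalEven48.PMinimal
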