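import Cfsg.Agent.LocalEven48.PMinimal
import Cfsg.Agent.Components.FStar
import Cfsg.Agent.Solvable.Basic
import Cfsg.Agent.Solvable.Fitting
import Cfsg.Agent.S0542

/-!
Components of `p`-minimal groups with trivial `p`-core.
-/

namespace CfsgLib.LocalEven48.PMinimal

open Subgroup Cfsg CfsgLib.Components
open scoped Pointwise commutatorElement

variable {P : Type*} [Group P] [Finite P] {p : ℕ} [Fact p.Prime]
  {S : Sylow p P} {M : Subgroup P}

/-- A component lies in `O^p`. -/
theorem component_le_pResidual {K : Subgroup P} (hK : IsComponent K) : K ≤ pResidual p P := by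
  have : (pResidual p P).Normal := LocalStructure.pResidual_normal
  haveI : Group.IsNilpotent (P ⧸ pResidual p P) :=
    (LocalStructure.isPGroup_quotient_pResidual (G := P) (p := p)).isNilpotent
  have hs : Group.IsSolvable (P ⧸ pResidual p P) := inferInstance
  obtain ⟨n, hn⟩ := hs.solvable
  have hle : ∀ m, K ≤ derivedSeries P m := fun m => by
    induction m with
    | zero => exact le_top
    | succ m ih => exact (IsComponent.commutator_eq_self hK).ge.trans (commutator_mono ih ih)
  have := (map_derivedSeries_le_derivedSeries (QuotientGroup.mk' (pResidual p P)) n).trans hn.le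
  rw [le_bot_iff, Subgroup.map_eq_bot_iff, QuotientGroup.ker_mk'] at this
  exact (hle n).trans this

theorem layer_le_pResidual : layer P ≤ pResidual p P := sSup_le fun _ h => component_le_pResidual h

theorem isPClosed_of_not_dvd {K : Subgroup P} (h : ¬ p ∣ Nat.card K) : IsPClosed p ↥K := by
  intro Q
  have hc := Q.card_eq_multiplicity
  rw [Nat.factorization_eq_zero_of_not_dvd h, pow_zero] at hc
  rw [eq_bot_of_card_eq _ hc]
  infer_instance

theorem not_dvd_card_of_inf_sylow {K : Subgroup P} [K.Normal]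
    (h : K ⊓ (S : Subgroup P) = ⊥) : ¬ p ∣ Nat.card K := by
  obtain ⟨Q, hQ⟩ := LocalStructure.sylow_inf S (X := K)
    (le_top.trans (normalizer_eq_top (H := K)).ge)
  intro hd
  refine Sylow.ne_bot_of_dvd_card Q hd ?_
  rw [hQ, inf_comm, h, bot_subgroupOf]

theorem not_dvd_card_normalCore (hP : IsPMinimal p P) (hM : IsCoatom M)
    (hSM : (S : Subgroup P) ≤ M) (hOp : pCore p P = ⊥) : ¬ p ∣ Nat.card M.normalCore :=
  not_dvd_card_of_inf_sylow (le_bot_iff.1 (hOp ▸ normalCore_inf_sylow_le hP hM hSM))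

theorem isNilpotent_normalCore (hP : IsPMinimal p P) (hM : IsCoatom M)
    (hSM : (S : Subgroup P) ≤ M) (hOp : pCore p P = ⊥) : Group.IsNilpotent ↥M.normalCore := by
  have hp := not_dvd_card_normalCore hP hM hSM hOp
  refine ((Group.isNilpotent_of_finite_tfae (G := ↥M.normalCore)).out 0 3).mpr fun q hq Q => ?_
  haveI : Fact q.Prime := hq
  obtain ⟨R, hRF, hSR, -, hcard, hpr⟩ := exists_invariant S (isPClosed_of_not_dvd hp) q
  have hRq : IsPGroup q ↥(R.subgroupOf M.normalCore) := by
    refine IsPGroup.of_equiv ?_ (subgroupOfEquivOfLe hRF).symm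
    refine IsPGroup.of_card (n := (Nat.card R).primeFactorsList.length)
      (Nat.eq_prime_pow_of_unique_prime_dvd Nat.card_pos.ne' fun {r} hr hd => ?_)
    exact (hpr r hr hd).resolve_left fun e => hp (((dvd_of_eq e.symm).trans hd).trans (card_dvd_of_le hRF))
  obtain ⟨Q₁, hQ₁⟩ := hRq.exists_le_sylow
  have hQ₁R : (Q₁ : Subgroup ↥M.normalCore) = R.subgroupOf M.normalCore :=
    (eq_of_le_of_card_ge hQ₁ (Nat.le_of_dvd Nat.card_pos (by
      rw [Nat.card_congr (subgroupOfEquivOfLe hRF).toEquiv, Q₁.card_eq_multiplicity]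
      exact hcard))).symm
  have hRn : R.Normal := by
    refine normalizer_eq_top_iff.1 ?_
    by_contra hne
    have hN : normalizer (R : Set P) ≤ M := le_of_sylow_le hP hM hSM hSR hne
    refine hM.1 (top_le_iff.1 fun g hg => ?_)
    obtain ⟨a, ha, c, hc, rfl⟩ := LocalStructure.frattini_argument le_top
      (normalizer_eq_top (H := M.normalCore)).ge Q₁ hg
    rw [hQ₁R, map_subgroupOf_eq_of_le hRF] at ha
    exact M.mul_mem (hN ha.2) (normalCore_le M hc)
  have hQ₁n : (Q₁ : Subgroup ↥M.normalCore).Normal := hQ₁R ▸ hRn.subgroupOf _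
  obtain ⟨g, rfl⟩ := MulAction.exists_smul_eq ↥M.normalCore Q₁ Q
  rwa [Sylow.smul_eq_of_normal]

theorem not_component_le (hP : IsPMinimal p P) (hM : IsCoatom M) (hSM : (S : Subgroup P) ≤ M)
    (hOp : pCore p P = ⊥) {K : Subgroup P} (hK : IsComponent K) : ¬ K ≤ M := fun h => by
  have hKF := le_normalCore_of_isSubnormal hP hM hSM hK.1 h
  haveI := isNilpotent_normalCore hP hM hSM hOp
  exact IsComponent.not_isSolvable hK
    (Group.isSolvable_of_isSolvable_injective (inclusion_injective hKF))

theorem iSup_conj_eq (hP : IsPMinimal p P) (hM : IsCoatom M) (hSM : (S : Subgroup P) ≤ M)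
    (hOp : pCore p P = ⊥) {K : Subgroup P} (hK : IsComponent K) :
    layer P = ⨆ s : ↥(S : Subgroup P), K.map (MulAut.conj (s : P)).toMonoidHom ∧
      pResidual p P = layer P := by
  set L := ⨆ s : ↥(S : Subgroup P), K.map (MulAut.conj (s : P)).toMonoidHom with hL
  have hSL : (S : Subgroup P) ≤ normalizer (L : Set P) := fun t ht => by
    rw [Solvable.mem_normalizer_iff_conj_smul]
    refine eq_of_le_of_card_ge ?_ (Solvable.card_conj_smul t L).ge
    show L.map (MulAut.conj t).toMonoidHom ≤ L
    rw [hL, Subgroup.map_iSup]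
    refine iSup_le fun s => le_iSup_of_le (⟨t, ht⟩ * s) (le_of_eq ?_)
    rw [map_map]
    refine congrArg (fun f => K.map f) (MonoidHom.ext fun x => ?_)
    simp [mul_assoc]
  have htop : (S : Subgroup P) ⊔ L = ⊤ := by
    by_contra hne
    refine not_component_le hP hM hSM hOp hK
      (le_trans ?_ (le_sup_right.trans (le_of_sylow_le hP hM hSM le_sup_left hne)))
    refine le_iSup_of_le (1 : ↥(S : Subgroup P)) (le_of_eq ?_)
    ext x; simp
  have hLn : L.Normal := normalizer_eq_top_iff.1
    (top_le_iff.1 (htop ▸ sup_le hSL Subgroup.le_normalizer))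
  have h1 : pResidual p P ≤ L := LocalStructure.pResidual_le_of_sup_eq_top S.isPGroup' htop
  have h2 : L ≤ layer P := iSup_le fun s => IsComponent.le_layer (IsComponent.conj hK _)
  exact ⟨le_antisymm (layer_le_pResidual.trans h1) h2,
    le_antisymm (h1.trans h2) layer_le_pResidual⟩

theorem fittingSubgroup_le_pResidual (hP : IsPMinimal p P) (hM : IsCoatom M)
    (hSM : (S : Subgroup P) ≤ M) (hOp : pCore p P = ⊥) {K : Subgroup P} (hK : IsComponent K) :
    fittingSubgroup P ≤ pResidual p P := by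
  rcases pResidual_le_or_le_normalCore hP hM hSM (fittingSubgroup P) with h | h
  · haveI := Solvable.fittingSubgroup_isNilpotent (G := P)
    exact absurd (Group.isSolvable_of_isSolvable_injective
      (inclusion_injective ((component_le_pResidual hK).trans h))) (IsComponent.not_isSolvable hK)
  · intro x hx
    exact Transfer.mem_pResidual_of_coprime (Transfer.coprime_orderOf_of_mem
      (not_dvd_card_normalCore hP hM hSM hOp) (h hx))

/-- A component of a `p`-minimal group with trivial `p`-core is not a `p'`-group. -/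
theorem sylow_inf_component_ne_bot (hP : IsPMinimal p P) (hM : IsCoatom M)
    (hSM : (S : Subgroup P) ≤ M) (hOp : pCore p P = ⊥) {K : Subgroup P} (hK : IsComponent K) :
    (S : Subgroup P) ⊓ K ≠ ⊥ := by
  intro hbot
  obtain ⟨Q, hQ⟩ := Cfsg.Agent.S0542.result p K hK.1 S
  have hK' : ¬ p ∣ Nat.card K := fun hd => Sylow.ne_bot_of_dvd_card Q hd (by
    rw [hQ, ← inf_subgroupOf_right, hbot, bot_subgroupOf])
  have hres := iSup_conj_eq hP hM hSM hOp hK
  -- every generator of `O^p(P)` is then a `p'`-group, and the components commute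
  have hnd : ¬ p ∣ Nat.card (pResidual p P) := by
    rw [hres.2, hres.1]
    set C := Set.range fun s : ↥(S : Subgroup P) => K.map (MulAut.conj (s : P)).toMonoidHom
    have hC : ∀ T : Set (Subgroup P), T ⊆ C → ¬ p ∣ Nat.card (sSup T : Subgroup P) := by
      intro T hT
      induction T, Set.toFinite T using Set.Finite.induction_on with
      | empty => simpa using (Fact.out : p.Prime).ne_one
      | @insert X T hXT _ ih =>
        rw [Set.insert_subset_iff] at hT
        obtain ⟨s, rfl⟩ := hT.1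
        intro hd
        rw [sSup_insert] at hd
        obtain ⟨x, hx⟩ := exists_prime_orderOf_dvd_card' p hd
        have hle : sSup T ≤ centralizer (K.map (MulAut.conj (s : P)).toMonoidHom : Set P) := by
          refine sSup_le_centralizer_of_notMem (fun L hL => ?_) (IsComponent.conj hK _) hXT
          obtain ⟨t, rfl⟩ := hT.2 hL
          exact IsComponent.conj hK _
        obtain ⟨a, ha, b, hb, hab⟩ := LocalStructure.exists_mul_of_mem_sup
          ((le_centralizer_iff.1 hle).trans (centralizer_le_normalizer _)) x.2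
        have hcomm : Commute a b := (mem_centralizer_iff.1 (hle hb) a ha)
        have ho : orderOf (x : P) = p := by rw [orderOf_coe]; exact hx
        have h1 : orderOf (x : P) ∣ Nat.lcm (orderOf a) (orderOf b) :=
          hab ▸ hcomm.orderOf_mul_dvd_lcm
        rw [ho] at h1
        rcases (Fact.out : p.Prime).dvd_mul.1 (h1.trans (Nat.lcm_dvd_mul _ _)) with h | h
        · refine hK' (h.trans ((orderOf_dvd_natCard _ ha).trans ?_))
          rw [card_map_of_injective (MulAut.conj (s : P)).injective]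
        · exact ih hT.2 (h.trans (orderOf_dvd_natCard _ hb))
    exact hC C subset_rfl
  have : (pResidual p P).Normal := LocalStructure.pResidual_normal
  obtain ⟨R, q, hq, hRle, hSR, htop, hr⟩ :=
    exists_sup_eq_top hP hM hSM (isPClosed_of_not_dvd hnd) (not_pResidual_le hM hSM)
  have : R.Normal := normalizer_eq_top_iff.1
    (top_le_iff.1 (htop ▸ sup_le hSR Subgroup.le_normalizer))
  haveI := Fact.mk hq
  have hRq : IsPGroup q R := IsPGroup.of_card (n := (Nat.card R).primeFactorsList.length)
    (Nat.eq_prime_pow_of_unique_prime_dvd Nat.card_pos.ne' fun {r} hr' hd =>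
      (hr r hr' hd).resolve_left fun e => hnd (((dvd_of_eq e.symm).trans hd).trans (card_dvd_of_le hRle)))
  haveI := hRq.isNilpotent
  exact IsComponent.not_isSolvable hK (Group.isSolvable_of_isSolvable_injective (inclusion_injective
    ((component_le_pResidual hK).trans
      (LocalStructure.pResidual_le_of_sup_eq_top S.isPGroup' htop))))

/-- The component with its normaliser in `S` is `p`-minimal. -/
theorem isPMinimal_component (hP : IsPMinimal p P) (hM : IsCoatom M)
    (hSM : (S : Subgroup P) ≤ M) (hOp : pCore p P = ⊥) {K : Subgroup P} (hK : IsComponent K) :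
    IsPMinimal p ↥(K ⊔ ((S : Subgroup P) ⊓ normalizer (K : Set P))) := by
  set T := (S : Subgroup P) ⊓ normalizer (K : Set P) with hT
  set H := K ⊔ T with hH
  have hKH : K ≤ H := le_sup_left
  have hTH : T ≤ H := le_sup_right
  have hTK : T ≤ normalizer (K : Set P) := inf_le_right
  have hHK : H ≤ normalizer (K : Set P) := sup_le Subgroup.le_normalizer hTK
  -- decomposition of elements
  have hdec : ∀ x ∈ H, ∃ t ∈ T, ∃ k ∈ K, x = t * k := fun x hx => by
    obtain ⟨t, ht, k, hk, e⟩ := LocalStructure.exists_mul_of_mem_sup hTK ((sup_comm K T).le hx)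
    exact ⟨t, ht, k, hk, e.symm⟩
  have hsylK : (S : Subgroup P) ⊓ K ≤ T := le_inf inf_le_left (inf_le_right.trans Subgroup.le_normalizer)
  obtain ⟨QK, hQK⟩ := Cfsg.Agent.S0542.result p K hK.1 S
  -- `T` is a Sylow subgroup of `H`
  obtain ⟨U, hU⟩ := ((S.isPGroup'.to_inf_left (K := normalizer (K : Set P))).comap_subtype
    (K := H)).exists_le_sylow
  have hUeq : (U : Subgroup ↥H) = T.subgroupOf H := by
    refine le_antisymm (fun u hu => ?_) hU
    obtain ⟨t, ht, k, hk, e⟩ := hdec u u.2
    have hkU : (⟨k, hKH hk⟩ : ↥H) ∈ (U : Subgroup ↥H) := by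
      have : (⟨k, hKH hk⟩ : ↥H) = ⟨t, hTH ht⟩⁻¹ * u := Subtype.ext (by simp [e])
      rw [this]
      exact mul_mem (inv_mem (hU ht)) hu
    set UK : Subgroup ↥K := (U : Subgroup ↥H).comap (inclusion hKH) with hUK
    have hUKp : IsPGroup p UK := U.isPGroup'.comap_of_injective _ (inclusion_injective hKH)
    have hQle : (QK : Subgroup ↥K) ≤ UK := fun q hq => by
      rw [hQK, mem_subgroupOf] at hq
      exact hU (hsylK ⟨hq, q.2⟩)
    have hkQ : (⟨k, hk⟩ : ↥K) ∈ (QK : Subgroup ↥K) := QK.is_maximal' hUKp hQle ▸ hkU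
    rw [hQK, mem_subgroupOf] at hkQ
    rw [mem_subgroupOf, e]
    exact T.mul_mem ht (hsylK ⟨hkQ, hk⟩)
  -- subgroups containing `T` that miss part of `K` lie in `M`
  have hmain : ∀ X : Subgroup P, T ≤ X → X ≤ H → ¬ K ≤ X → X ≤ M := by
    intro X hTX hXH hKX
    set A := X ⊓ K with hA
    have hTA : T ≤ normalizer (A : Set P) :=
      LocalStructure.le_normalizer_inf' (hTX.trans Subgroup.le_normalizer) hTK
    set W := ⨆ s : ↥(S : Subgroup P), A.map (MulAut.conj (s : P)).toMonoidHom with hW
    set C := sSup {L : Subgroup P | IsComponent L ∧ L ≠ K} with hC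
    have hCK : C ≤ centralizer (K : Set P) :=
      sSup_le_centralizer_of_notMem (fun L hL => hL.1) hK fun h => h.2 rfl
    have hWC : W ≤ A ⊔ C := iSup_le fun s => by
      by_cases hs : (s : P) ∈ normalizer (K : Set P)
      · refine le_trans (le_of_eq ?_) le_sup_left
        exact Solvable.mem_normalizer_iff_conj_smul.1 (hTA ⟨s.2, hs⟩)
      · refine ((map_mono inf_le_right).trans (le_sSup (s := {L : Subgroup P | IsComponent L ∧ L ≠ K}) ⟨IsComponent.conj hK _, fun e => hs ?_⟩)).trans
          le_sup_right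
        exact Solvable.mem_normalizer_iff_conj_smul.2 e
    have hAW : A ≤ W := le_iSup_of_le (1 : ↥(S : Subgroup P)) (le_of_eq (by ext x; simp))
    have hSW : (S : Subgroup P) ≤ normalizer (W : Set P) := fun t ht => by
      rw [Solvable.mem_normalizer_iff_conj_smul]
      refine eq_of_le_of_card_ge ?_ (Solvable.card_conj_smul t W).ge
      show W.map (MulAut.conj t).toMonoidHom ≤ W
      rw [hW, Subgroup.map_iSup]
      refine iSup_le fun s => le_iSup_of_le (⟨t, ht⟩ * s) (le_of_eq ?_)
      rw [map_map]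
      refine congrArg (fun f => A.map f) (MonoidHom.ext fun x => ?_)
      simp [mul_assoc]
    have hne : (S : Subgroup P) ⊔ W ≠ ⊤ := by
      intro htop
      have : W.Normal := normalizer_eq_top_iff.1
        (top_le_iff.1 (htop ▸ sup_le hSW Subgroup.le_normalizer))
      have hKW : K ≤ W := (component_le_pResidual hK).trans
        (LocalStructure.pResidual_le_of_sup_eq_top S.isPGroup' htop)
      have hAC : A ≤ normalizer (C : Set P) :=
        ((le_centralizer_iff.1 hCK).trans (centralizer_le_normalizer _)).trans' inf_le_right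
      have key : ∀ k ∈ K, ∃ a ∈ A, ∃ z ∈ K, k = a * z ∧ z ∈ centralizer (K : Set P) := by
        intro k hk
        obtain ⟨a, ha, c, hc, e⟩ := LocalStructure.exists_mul_of_mem_sup hAC (hWC (hKW hk))
        refine ⟨a, ha, c, ?_, e.symm, hCK hc⟩
        have hce : c = a⁻¹ * k := by rw [← e]; group
        rw [hce]
        exact K.mul_mem (K.inv_mem ha.2) hk
      refine hKX ?_
      conv_lhs => rw [← IsComponent.commutator_eq_self hK]
      refine (commutator_le.2 fun k hk l hl => ?_).trans (inf_le_left (b := K))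
      obtain ⟨a, ha, z, hz, rfl, hzc⟩ := key k hk
      obtain ⟨b, hb, w, hw, rfl, hwc⟩ := key l hl
      have e1 : ∀ y ∈ K, y * z = z * y := fun y hy => mem_centralizer_iff.1 hzc y hy
      have e2 : ∀ y ∈ K, y * w = w * y := fun y hy => mem_centralizer_iff.1 hwc y hy
      have : ⁅a * z, b * w⁆ = ⁅a, b⁆ := by
        rw [commutatorElement_def, commutatorElement_def, mul_inv_rev, mul_inv_rev]
        calc a * z * (b * w) * (z⁻¹ * a⁻¹) * (w⁻¹ * b⁻¹)
            = a * (z * (b * w)) * z⁻¹ * a⁻¹ * (w⁻¹ * b⁻¹) := by group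
          _ = a * ((b * w) * z) * z⁻¹ * a⁻¹ * (w⁻¹ * b⁻¹) := by rw [e1 _ (K.mul_mem hb.2 hw)]
          _ = a * b * (w * a⁻¹) * w⁻¹ * b⁻¹ := by group
          _ = a * b * (a⁻¹ * w) * w⁻¹ * b⁻¹ := by rw [e2 _ (K.inv_mem ha.2)]
          _ = a * b * a⁻¹ * b⁻¹ := by group
      rw [this, commutatorElement_def]
      exact A.mul_mem (A.mul_mem (A.mul_mem ha hb) (A.inv_mem ha)) (A.inv_mem hb)
    intro x hx
    obtain ⟨t, ht, k, hk, rfl⟩ := hdec x (hXH hx)
    have hkX : k ∈ X := by simpa using X.mul_mem (X.inv_mem (hTX ht)) hx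
    exact M.mul_mem (hSM ht.1) (le_of_sylow_le hP hM hSM le_sup_left hne
      (mem_sup_right (hAW ⟨hkX, hk⟩)))
  intro V
  obtain ⟨h, rfl⟩ := MulAction.exists_smul_eq ↥H U V
  rw [Sylow.coe_subgroup_smul, hUeq]
  have hTp : IsPGroup p T := S.isPGroup'.to_inf_left
  have hnn : ¬ (T.subgroupOf H).Normal := by
    intro hn
    have hTn : H ≤ normalizer (T : Set P) := (normal_subgroupOf_iff_le_normalizer hTH).1 hn
    have h1 : ((S : Subgroup P) ⊓ K : Subgroup P) = T ⊓ K :=
      le_antisymm (le_inf hsylK inf_le_right) (inf_le_inf_right _ inf_le_left)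
    have h2 : ((S : Subgroup P) ⊓ K).IsSubnormal := by
      refine IsSubnormal.trans inf_le_right (Normal.isSubnormal ?_) hK.1
      rw [h1, normal_subgroupOf_iff_le_normalizer inf_le_right]
      exact LocalStructure.le_normalizer_inf' (hKH.trans hTn) Subgroup.le_normalizer
    exact sylow_inf_component_ne_bot hP hM hSM hOp hK (le_bot_iff.1 (hOp ▸
      LocalStructure.le_pCore_of_isSubnormal h2 S.isPGroup'.to_inf_left))
  have hh : MulAut.conj h • (T.subgroupOf H) = (T.subgroupOf H).map (MulAut.conj h).toMonoidHom :=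
    rfl
  refine ⟨fun hn => hnn ?_, ?_⟩
  · have : (MulAut.conj h⁻¹ • MulAut.conj h • T.subgroupOf H).Normal := by
      rw [Normal.conj_smul_eq_self]; exact hn
    rwa [← mul_smul, ← map_mul, inv_mul_cancel, map_one, one_smul] at this
  have hMH : IsCoatom (M.subgroupOf H) := by
    refine ⟨fun e => not_component_le hP hM hSM hOp hK (hKH.trans (subgroupOf_eq_top.1 e)), ?_⟩
    intro X hX
    by_contra hne
    refine not_le_of_gt hX fun x hx => ?_
    refine hmain (X.map H.subtype) ?_ (map_subtype_le _) (fun hKX => hne ?_) ⟨x, hx, rfl⟩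
    · intro t ht
      exact ⟨⟨t, hTH ht⟩, hX.le (hSM ht.1), rfl⟩
    · refine top_le_iff.1 fun x _ => ?_
      obtain ⟨t, ht, k, hk, e⟩ := hdec x x.2
      obtain ⟨y, hy, hye⟩ := hKX hk
      have : x = ⟨t, hTH ht⟩ * y := Subtype.ext (by simpa [← hye] using e)
      exact this ▸ X.mul_mem (hX.le (hSM ht.1)) hy
  have huniq : ∃! N : Subgroup ↥H, IsCoatom N ∧ T.subgroupOf H ≤ N := by
    refine ⟨M.subgroupOf H, ⟨hMH, fun x hx => hSM hx.1⟩, fun N hN => ?_⟩
    refine (hN.1.le_iff_eq hMH.1).1 (fun x hx => ?_) |>.symm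
    refine hmain (N.map H.subtype) ?_ (map_subtype_le _) (fun hKN => hN.1.1 ?_) ⟨x, hx, rfl⟩
    · intro t ht
      exact ⟨⟨t, hTH ht⟩, hN.2 ht, rfl⟩
    · refine top_le_iff.1 fun x _ => ?_
      obtain ⟨t, ht, k, hk, e⟩ := hdec x x.2
      obtain ⟨y, hy, hye⟩ := hKN hk
      have : x = ⟨t, hTH ht⟩ * y := Subtype.ext (by simpa [← hye] using e)
      exact this ▸ N.mul_mem (hN.2 ht) hy
  obtain ⟨N₀, ⟨hN₀, hle₀⟩, hu⟩ := huniq
  refine ⟨MulAut.conj h • N₀, ⟨(OrderIso.isCoatom_iff (MulAut.conj h).mapSubgroup N₀).2 hN₀,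
    pointwise_smul_le_pointwise_smul_iff.2 hle₀⟩, fun N hN => ?_⟩
  obtain ⟨N', rfl⟩ := (MulAut.conj h).mapSubgroup.surjective N
  rw [hu N' ⟨(OrderIso.isCoatom_iff _ N').1 hN.1, pointwise_smul_le_pointwise_smul_iff.1 hN.2⟩]
  rfl

end CfsgLib.LocalEven48.PMinimal
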