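import Cfsg.Agent.CharPLocal.Basic
import Cfsg.Agent.LocalStructure.Tools
import Cfsg.Agent.BlocksCharsC.PGroupCenter
import Cfsg.Agent.PLocal.Cores
import Cfsg.Agent.LocalEven48.SPE
import Cfsg.Prelude.Def_LocalStructure

/-!
# Parabolic characteristic `p` and centralisers of central elements of order `p`
-/

set_option autoImplicit false

open Subgroup
open scoped Pointwise commutatorElement

namespace CfsgLib.LocalEven48

open CfsgLib.CharPLocal

variable {G : Type*} [Group G] {p : ℕ}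

/-- Having `C(O_p) ≤ O_p` is invariant under isomorphisms. -/
theorem charP_of_equiv {A B : Type*} [Group A] [Group B] (e : A ≃* B)
    (h : centralizer (Cfsg.pCore p A : Set A) ≤ Cfsg.pCore p A) :
    centralizer (Cfsg.pCore p B : Set B) ≤ Cfsg.pCore p B := by
  intro x hx
  rw [← PLocal.map_pCore_equiv e]
  refine ⟨e.symm x, h (mem_centralizer_iff.mpr fun a ha => e.injective ?_), e.apply_symm_apply x⟩
  rw [map_mul, map_mul, e.apply_symm_apply]
  refine mem_centralizer_iff.mp hx _ ?_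
  rw [← PLocal.map_pCore_equiv e]
  exact ⟨a, ha, rfl⟩

theorem isCharP_map_conj {L : Subgroup G} (h : IsCharP p L) (g : G) :
    IsCharP p (L.map (MulAut.conj g).toMonoidHom) :=
  (isCharP_iff_type _).mpr (charP_of_equiv
    (L.equivMapOfInjective _ (MulAut.conj g).injective) ((isCharP_iff_type _).mp h))

theorem centralizer_map_conj (g x : G) :
    (centralizer ({x} : Set G)).map (MulAut.conj g).toMonoidHom =
      centralizer ({g * x * g⁻¹} : Set G) := by
  ext y
  rw [mem_centralizer_singleton_iff]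
  constructor
  · rintro ⟨c, hc, rfl⟩
    have hc' := mem_centralizer_singleton_iff.mp hc
    show g * c * g⁻¹ * (g * x * g⁻¹) = g * x * g⁻¹ * (g * c * g⁻¹)
    calc g * c * g⁻¹ * (g * x * g⁻¹) = g * (c * x) * g⁻¹ := by group
      _ = g * (x * c) * g⁻¹ := by rw [hc']
      _ = _ := by group
  · intro hy
    refine ⟨g⁻¹ * y * g, mem_centralizer_singleton_iff.mpr ?_, by simp [mul_assoc]⟩
    calc g⁻¹ * y * g * x = g⁻¹ * (y * (g * x * g⁻¹)) * g := by group
      _ = g⁻¹ * (g * x * g⁻¹ * y) * g := by rw [hy]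
      _ = _ := by group

theorem isCharP_centralizer_conj {x : G} (h : IsCharP p (centralizer ({x} : Set G))) (g : G) :
    IsCharP p (centralizer ({g * x * g⁻¹} : Set G)) :=
  centralizer_map_conj g x ▸ isCharP_map_conj h g

variable [Finite G] [Fact p.Prime]

theorem generalizedFitting_iff (L : Subgroup G) :
    Cfsg.generalizedFittingSubgroup ↥L = Cfsg.pCore p ↥L ↔ IsCharP p L :=
  ⟨fun h => (isCharP_iff_type L).mpr (centralizer_pCore_le_of_generalizedFitting_eq h),
    fun h => generalizedFittingSubgroup_eq_pCore ((isCharP_iff_type L).mp h)⟩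

/-- A nontrivial subgroup normalised by a `p`-group containing it meets `Ω₁(Z)` of it. -/
theorem exists_mem_omegaZ {T R : Subgroup G} (hT : IsPGroup p T) (hR : R ≤ T)
    (hn : T ≤ normalizer (R : Set G)) (hne : R ≠ ⊥) :
    ∃ z ∈ R, z ≠ 1 ∧ z ∈ Cfsg.omegaOne p (T ⊓ centralizer (T : Set G)) := by
  haveI := (normal_subgroupOf_iff_le_normalizer hR).mpr hn
  haveI : Nontrivial (R.subgroupOf T) := by
    rw [nontrivial_iff_ne_bot, ne_eq, subgroupOf_eq_bot]
    exact fun hd => hne (by rw [← inf_eq_left.mpr hR]; exact hd.eq_bot)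
  set K := R.subgroupOf T ⊓ center T
  have hK : K ≠ ⊥ := BlocksCharsC.inf_center_ne_bot hT _
  haveI := (nontrivial_iff_ne_bot K).mpr hK
  obtain ⟨z, hz⟩ := exists_prime_orderOf_dvd_card' (G := K) p
    (((hT.to_subgroup K).card_eq_or_dvd).resolve_left Finite.one_lt_card.ne')
  have hzR : ((z : T) : G) ∈ R := (mem_inf.mp z.2).1
  have hzp : orderOf ((z : T) : G) = p := by rw [orderOf_coe, orderOf_coe, hz]
  refine ⟨((z : T) : G), hzR, ne_one_of_orderOf hzp, LocalStructure.mem_omegaZ.mpr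
    ⟨(z : T).2, mem_centralizer_iff.mpr fun t ht => ?_, by rw [← hzp, pow_orderOf_eq_one]⟩⟩
  exact congrArg Subtype.val (mem_center_iff.mp (mem_inf.mp z.2).2 ⟨t, ht⟩)

theorem le_centralizer_of_mem_omegaZ {T : Subgroup G} {z : G}
    (hz : z ∈ Cfsg.omegaOne p (T ⊓ centralizer (T : Set G))) :
    T ≤ centralizer ({z} : Set G) := fun t ht => mem_centralizer_singleton_iff.mpr
  (mem_centralizer_iff.mp (LocalStructure.mem_omegaZ.mp hz).2.1 t ht)

theorem isCharP_centralizer_of_parabolic (hG : Cfsg.IsOfParabolicCharacteristic p G)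
    (S : Sylow p G) {z : G} (hz1 : z ≠ 1)
    (hz : z ∈ Cfsg.omegaOne p ((S : Subgroup G) ⊓ centralizer ((S : Subgroup G) : Set G))) :
    IsCharP p (centralizer ({z} : Set G)) := by
  have hzp : orderOf z = p := orderOf_eq_prime (LocalStructure.mem_omegaZ.mp hz).2.2 hz1
  have hle : centralizer ({z} : Set G) ≤ normalizer (zpowers z : Set G) := fun c hc => by
    refine mem_normalizer_iff_map_conj_eq.mpr ?_
    rw [MonoidHom.map_zpowers]
    congr 1
    show c * z * c⁻¹ = z
    rw [mem_centralizer_singleton_iff.mp hc, mul_inv_cancel_right]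
  have hN := (isCharP_iff_type _).mpr (hG (zpowers z) (isPGroup_zpowers_of_orderOf hzp)
    (fun h => hz1 (zpowers_eq_bot.mp h)) ⟨S, (le_centralizer_of_mem_omegaZ hz).trans hle⟩)
  refine hN.of_normal hle ?_
  have h := normalizer_le_normalizer_centralizer (zpowers z)
  rw [zpowers_eq_closure, centralizer_closure] at h
  rw [zpowers_eq_closure]
  exact h

theorem parabolic_iff (S : Sylow p G) :
    Cfsg.IsOfParabolicCharacteristic p G ↔
      ∀ z : G, z ≠ 1 →
        z ∈ Cfsg.omegaOne p ((S : Subgroup G) ⊓ centralizer ((S : Subgroup G) : Set G)) →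
          IsCharP p (centralizer ({z} : Set G)) := by
  refine ⟨fun h z => isCharP_centralizer_of_parabolic h S, fun h R hR hR1 => ?_⟩
  rintro ⟨T, hT⟩
  obtain ⟨g, rfl⟩ := MulAction.exists_smul_eq G S T
  set R' := R.map (MulAut.conj g⁻¹).toMonoidHom with hR'
  have hmem : ∀ {x : G}, x ∈ R' ↔ g * x * g⁻¹ ∈ R := fun {x} => by
    constructor
    · rintro ⟨r, hr, rfl⟩
      simpa [mul_assoc] using hr
    · exact fun hx => ⟨_, hx, by simp [mul_assoc]⟩
  have hR'n : (S : Subgroup G) ≤ normalizer (R' : Set G) := by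
    intro s hs
    have hs' : g * s * g⁻¹ ∈ normalizer (R : Set G) := hT ⟨s, hs, rfl⟩
    rw [mem_normalizer_iff] at hs' ⊢
    intro x
    rw [hmem, hmem, hs' (g * x * g⁻¹)]
    constructor <;> intro h' <;> simpa [mul_assoc] using h'
  have hR'p : IsPGroup p R' := hR.map _
  have hR'le : R' ≤ (S : Subgroup G) := by
    rw [← S.3 (hR'p.to_sup_of_normal_left' S.2 hR'n) le_sup_right]
    exact le_sup_left
  obtain ⟨z, hzR, hz1, hz⟩ := exists_mem_omegaZ S.2 hR'le hR'n
    (fun hb => hR1 ((Subgroup.map_eq_bot_iff_of_injective _ (MulAut.conj g⁻¹).injective).mp hb))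
  refine (isCharP_iff_type _).mp
    (isCharP_normalizer_of_mem hR (hmem.mp hzR) (isCharP_centralizer_conj (h z hz1 hz) g))

theorem isCharP_normalizer_of_sylow (S : Sylow p G)
    (h : ∀ z : G, z ∈ (S : Subgroup G) → orderOf z = p → IsCharP p (centralizer ({z} : Set G)))
    {T : Subgroup G} (hT : IsPGroup p T) (hT1 : T ≠ ⊥) : IsCharP p (normalizer (T : Set G)) := by
  obtain ⟨z, hzT, hzp, -⟩ := exists_central_orderOf hT hT1
  obtain ⟨P, hP⟩ := hT.exists_le_sylow
  obtain ⟨g, rfl⟩ := MulAction.exists_smul_eq G S P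
  obtain ⟨s, hs, rfl⟩ := hP hzT
  have hsp : orderOf s = p := (MulEquiv.orderOf_eq (MulAut.conj g) s).symm.trans hzp
  exact isCharP_normalizer_of_mem hT hzT (isCharP_centralizer_conj (h s hs hsp) g)

theorem parabolic_of_normal (hG : Cfsg.IsOfParabolicCharacteristic p G) (S : Sylow p G)
    (G₁ : Subgroup G) [G₁.Normal]
    (hle : Cfsg.omegaOne p (((S : Subgroup G) ⊓ G₁) ⊓
        centralizer (((S : Subgroup G) ⊓ G₁ : Subgroup G) : Set G)) ≤
      Cfsg.omegaOne p ((S : Subgroup G) ⊓ centralizer ((S : Subgroup G) : Set G))) :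
    Cfsg.IsOfParabolicCharacteristic p ↥G₁ := by
  obtain ⟨P, hP⟩ := LocalStructure.sylow_inf S (X := G₁) ((normalizer_eq_top (H := G₁)).ge.trans' le_top)
  rw [parabolic_iff P]
  intro z hz1 hz
  obtain ⟨hzP, hzc, hzp⟩ := LocalStructure.mem_omegaZ.mp hz
  have hzS : (z : G) ∈ (S : Subgroup G) ⊓ G₁ := by
    have : z ∈ ((S : Subgroup G) ⊓ G₁).subgroupOf G₁ := hP ▸ hzP
    exact this
  have hzc' : (z : G) ∈ centralizer (((S : Subgroup G) ⊓ G₁ : Subgroup G) : Set G) := by
    refine mem_centralizer_iff.mpr fun t ht => ?_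
    have htP : (⟨t, ht.2⟩ : G₁) ∈ (P : Subgroup G₁) := hP ▸ (ht : t ∈ (S : Subgroup G) ⊓ G₁)
    exact congrArg Subtype.val (mem_centralizer_iff.mp hzc _ htP)
  have hz' : (z : G) ≠ 1 := fun h => hz1 (Subtype.ext h)
  have hC := isCharP_centralizer_of_parabolic hG S hz'
    (hle (LocalStructure.mem_omegaZ.mpr ⟨hzS, hzc', congrArg Subtype.val hzp⟩))
  have hC₁ : IsCharP p (G₁ ⊓ centralizer ({(z : G)} : Set G)) :=
    hC.of_normal inf_le_right
      ((le_inf ((normalizer_eq_top (H := G₁)).ge.trans' le_top) le_normalizer).trans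
        inf_normalizer_le_normalizer_inf)
  refine (isCharP_iff_type _).mpr (charP_of_equiv ?_ ((isCharP_iff_type _).mp hC₁))
  exact
    { toFun := fun x => ⟨⟨x, x.2.1⟩, mem_centralizer_singleton_iff.mpr
        (Subtype.ext (mem_centralizer_singleton_iff.mp x.2.2))⟩
      invFun := fun x => ⟨x.1, x.1.2, mem_centralizer_singleton_iff.mpr
        (congrArg Subtype.val (mem_centralizer_singleton_iff.mp x.2))⟩
      left_inv := fun _ => rfl
      right_inv := fun _ => rfl
      map_mul' := fun _ _ => rfl }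

theorem oddCore_eq_bot_of_parabolic {G : Type*} [Group G] [Finite G] (h2 : 2 ∣ Nat.card G)
    (hG : Cfsg.IsOfParabolicCharacteristic 2 G) [hN : (Cfsg.oddCore G).Normal]
    (hZ : center (G ⧸ Cfsg.oddCore G) = ⊥) : Cfsg.oddCore G = ⊥ := by
  haveI : Fact (Nat.Prime 2) := ⟨Nat.prime_two⟩
  set O := Cfsg.oddCore G with hO
  have hOc : (Nat.card O).Coprime 2 := PLocal.coprime_card_pPrimeCore 2 G
  obtain ⟨S⟩ : Nonempty (Sylow 2 G) := inferInstance
  have hS1 : (S : Subgroup G) ≠ ⊥ := S.ne_bot_of_dvd_card h2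
  have hodd : ∀ x ∈ O, x * x = 1 → x = 1 := fun x hx hxx => by
    have h1 : orderOf x ∣ 2 := orderOf_dvd_of_pow_eq_one (by rwa [pow_two])
    have h2' := Nat.dvd_gcd (orderOf_dvd_natCard O hx) h1
    rw [Nat.Coprime.gcd_eq_one hOc] at h2'
    exact orderOf_eq_one_iff.mp (Nat.dvd_one.mp h2')
  -- central involutions act without fixed points on `O`
  have hfree : ∀ z : G, z ≠ 1 →
      z ∈ Cfsg.omegaOne 2 ((S : Subgroup G) ⊓ centralizer ((S : Subgroup G) : Set G)) →
        ∀ x ∈ O, x * z = z * x → x = 1 := by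
    intro z hz1 hz x hx hxz
    set C := centralizer ({z} : Set G)
    have hC : IsCharP 2 C := isCharP_centralizer_of_parabolic hG S hz1 hz
    have hxC : x ∈ C := mem_centralizer_singleton_iff.mpr hxz
    refine hC.eq_one hxC (mem_centralizer_iff.mpr fun u hu => ?_) ?_
    · have hc1 : ⁅x, u⁆ ∈ O := by
        rw [commutatorElement_def, mul_assoc x u, mul_assoc x]
        exact O.mul_mem hx (Normal.conj_mem inferInstance x⁻¹ (inv_mem hx) u)
      have hc2 : ⁅x, u⁆ ∈ Cfsg.pCoreOf 2 C := by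
        rw [commutatorElement_def]
        exact mul_mem ((mem_normalizer_iff.mp
          (LocalStructure.le_normalizer_pCoreOf C hxC) u).mp hu) (inv_mem hu)
      have h1 : ⁅x, u⁆ = 1 := LocalStructure.eq_one_of_coprime_of_mem
        (LocalStructure.pCoreOf_isPGroup C) hc2
        (Nat.Coprime.coprime_dvd_left (orderOf_dvd_natCard O hc1) hOc)
      exact (commutatorElement_eq_one_iff_mul_comm.mp h1).symm
    · exact Nat.Coprime.coprime_dvd_left (orderOf_dvd_natCard O hx) hOc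
  have hinv : ∀ z : G, z ≠ 1 →
      z ∈ Cfsg.omegaOne 2 ((S : Subgroup G) ⊓ centralizer ((S : Subgroup G) : Set G)) →
        ∀ x ∈ O, z * x * z⁻¹ = x⁻¹ := by
    intro z hz1 hz
    have hzz : z * z = 1 := by rw [← pow_two]; exact (LocalStructure.mem_omegaZ.mp hz).2.2
    let f : O → O := fun y => ⟨(y : G) * (z * (y : G)⁻¹ * z⁻¹),
      O.mul_mem y.2 (Normal.conj_mem inferInstance _ (inv_mem y.2) z)⟩
    have hf : Function.Injective f := by
      intro a b hab
      have hab' : (a : G) * (z * (a : G)⁻¹ * z⁻¹) = (b : G) * (z * (b : G)⁻¹ * z⁻¹) :=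
        congrArg Subtype.val hab
      have hc : ((b : G)⁻¹ * a) * z = z * ((b : G)⁻¹ * a) := by
        calc (b : G)⁻¹ * a * z = (b : G)⁻¹ * ((a : G) * (z * (a : G)⁻¹ * z⁻¹)) * z * a := by group
          _ = (b : G)⁻¹ * ((b : G) * (z * (b : G)⁻¹ * z⁻¹)) * z * a := by rw [hab']
          _ = _ := by group
      have := hfree z hz1 hz _ (O.mul_mem (inv_mem b.2) a.2) hc
      exact (Subtype.ext (inv_mul_eq_one.mp this)).symm
    intro x hx
    obtain ⟨y, hy⟩ := Finite.surjective_of_injective hf ⟨x, hx⟩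
    have hy' : (y : G) * (z * (y : G)⁻¹ * z⁻¹) = x := congrArg Subtype.val hy
    rw [← hy', inv_eq_of_mul_eq_one_right hzz]
    calc z * ((y : G) * (z * (y : G)⁻¹ * z)) * z = z * y * z * (y : G)⁻¹ * (z * z) := by group
      _ = z * y * z⁻¹ * (y : G)⁻¹ := by rw [hzz, mul_one, inv_eq_of_mul_eq_one_right hzz]
      _ = _ := by
        rw [mul_inv_rev, mul_inv_rev, mul_inv_rev, inv_inv, inv_eq_of_mul_eq_one_right hzz]
        group
  obtain ⟨z₀, hz₀S, hz₀1, hz₀⟩ := exists_mem_omegaZ (T := (S : Subgroup G)) (R := (S : Subgroup G))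
    S.2 le_rfl le_normalizer hS1
  have hab : ∀ a ∈ O, ∀ b ∈ O, a * b = b * a := by
    intro a ha b hb
    have h1 := hinv z₀ hz₀1 hz₀ (a * b) (O.mul_mem ha hb)
    have h2' : z₀ * (a * b) * z₀⁻¹ = a⁻¹ * b⁻¹ := by
      rw [← hinv z₀ hz₀1 hz₀ a ha, ← hinv z₀ hz₀1 hz₀ b hb]; group
    rw [h2', mul_inv_rev] at h1
    calc a * b = (b⁻¹ * a⁻¹)⁻¹ := by group
      _ = (a⁻¹ * b⁻¹)⁻¹ := by rw [h1]
      _ = b * a := by group
  set K := centralizer (O : Set G) with hK
  haveI : K.Normal := normalizer_eq_top_iff.mp (eq_top_iff.mpr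
    ((normalizer_eq_top (H := O)).ge.trans (CharPLocal.normalizer_le_normalizer_centralizer O)))
  by_contra hO1
  have hKS : K ⊓ (S : Subgroup G) = ⊥ := by
    by_contra hne
    obtain ⟨z, hzK, hz1, hz⟩ := exists_mem_omegaZ (T := (S : Subgroup G)) S.2 inf_le_right
      ((le_inf ((normalizer_eq_top (H := K)).ge.trans' le_top) le_normalizer).trans
        inf_normalizer_le_normalizer_inf) hne
    refine hO1 ((Subgroup.eq_bot_iff_forall O).mpr fun x hx => hfree z hz1 hz x hx ?_)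
    exact mem_centralizer_iff.mp (mem_inf.mp hzK).1 x hx
  have hKO : K ≤ O := by
    refine PLocal.le_pPrimeCore (PLocal.not_dvd_iff_coprime.mpr fun hd => ?_)
    obtain ⟨P, hP⟩ := LocalStructure.sylow_inf S (X := K) ((normalizer_eq_top (H := K)).ge.trans' le_top)
    refine P.ne_bot_of_dvd_card hd ?_
    rw [hP, inf_comm, hKS, bot_subgroupOf]
  have hcent : (QuotientGroup.mk z₀ : G ⧸ O) ∈ center (G ⧸ O) := by
    rw [mem_center_iff]
    intro g
    obtain ⟨g, rfl⟩ := QuotientGroup.mk_surjective g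
    have hmem : (g * z₀)⁻¹ * (z₀ * g) ∈ K := by
      refine mem_centralizer_iff.mpr fun x hx => ?_
      obtain ⟨w, hwdef⟩ : ∃ w, w = g⁻¹ * z₀ * g := ⟨_, rfl⟩
      have hw : w * x * w⁻¹ = x⁻¹ := by
        calc w * x * w⁻¹ = g⁻¹ * (z₀ * (g * x * g⁻¹) * z₀⁻¹) * g := by rw [hwdef]; group
          _ = g⁻¹ * (g * x * g⁻¹)⁻¹ * g := by
            rw [hinv z₀ hz₀1 hz₀ _ (Normal.conj_mem inferInstance x hx g)]
          _ = x⁻¹ := by group
      have hzinv : z₀⁻¹ * x⁻¹ * z₀ = x := by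
        calc z₀⁻¹ * x⁻¹ * z₀ = z₀⁻¹ * (z₀ * x * z₀⁻¹) * z₀ := by rw [hinv z₀ hz₀1 hz₀ x hx]
          _ = x := by group
      have hwx : w * x = x⁻¹ * w := by rw [← hw]; group
      symm
      calc (g * z₀)⁻¹ * (z₀ * g) * x = z₀⁻¹ * (w * x) := by rw [hwdef]; group
        _ = z₀⁻¹ * (x⁻¹ * w) := by rw [hwx]
        _ = (z₀⁻¹ * x⁻¹ * z₀) * (z₀⁻¹ * w) := by group
        _ = _ := by rw [hzinv, hwdef]; group
    rw [← QuotientGroup.mk_mul, ← QuotientGroup.mk_mul]
    exact QuotientGroup.eq.mpr (hKO hmem)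
  rw [hZ, mem_bot, QuotientGroup.eq_one_iff] at hcent
  exact hz₀1 (hodd z₀ hcent (by rw [← pow_two]; exact (LocalStructure.mem_omegaZ.mp hz₀).2.2))

end CfsgLib.LocalEven48
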