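import Cfsg.Agent.LocalStructure.Tools
import Cfsg.Agent.LocalEven48.Basic
import Cfsg.Agent.Coprime.Generation
import Cfsg.Agent.Coprime.PTimesQ
import Cfsg.Agent.Coprime.Abelian
import Cfsg.Agent.Solvable.Frattini
import Cfsg.Agent.PLocal.Cores
import Cfsg.Prelude.Def_Transfer

/-!
# `[R, U]` centralises `E` when every element of `U#` has the same fixed points on `E`
-/

set_option autoImplicit false

open Subgroup
open scoped commutatorElement

namespace CfsgLib.LocalEven48

variable {G : Type*} [Group G] [Finite G] {p : ℕ} [Fact p.Prime]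

omit [Finite G] [Fact p.Prime] in
theorem map_conj_normal (E : Subgroup G) [E.Normal] (g : G) :
    E.map (MulAut.conj g).toMonoidHom = E :=
  LocalStructure.conj_map_eq_of_mem_normalizer ((normalizer_eq_top (H := E)).ge (mem_top g))

omit [Finite G] [Fact p.Prime] in
/-- `W` normalises `C_E(u)` when it centralises `u`. -/
theorem le_normalizer_inf_centralizer {E W : Subgroup G} [E.Normal] {u : G}
    (hWu : W ≤ centralizer ({u} : Set G)) :
    W ≤ normalizer ((E ⊓ centralizer ({u} : Set G) : Subgroup G) : Set G) :=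
  (le_inf ((normalizer_eq_top (H := E)).ge.trans' le_top) (hWu.trans le_normalizer)).trans
    inf_normalizer_le_normalizer_inf

/-- Abelian case: a `p'`-group `X` commuting with `u` and acting trivially on `E / [E, u]`
centralises `E`. -/
theorem le_centralizer_of_abelian {E X : Subgroup G} [E.Normal] [IsMulCommutative E]
    (hE : IsPGroup p E) {u : G} (hu : IsPGroup p (zpowers u))
    (hX : (Nat.card X).Coprime p) (hXu : X ≤ centralizer ({u} : Set G))
    (hXE : ⁅E, X⁆ ≤ ⁅E, zpowers u⁆) : X ≤ centralizer (E : Set G) := by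
  have htop : ∀ H : Subgroup G, H ≤ normalizer (E : Set G) := fun H =>
    (normalizer_eq_top (H := E)).ge.trans' le_top
  have hcop : (Nat.card X).Coprime (Nat.card E) := by
    obtain ⟨n, hn⟩ := IsPGroup.iff_card.mp hE
    rw [hn]; exact hX.pow_right n
  set F := ⁅E, X⁆ with hF
  set C := E ⊓ centralizer (X : Set G) with hC
  have hdec : C ⊔ F = E := Coprime.inf_centralizer_sup_commutator_eq (htop X) hcop
  have hFE : F ≤ E := Coprime.commutator_le_of_le_normalizer (htop X)
  have hbot : C ⊓ F = ⊥ := Coprime.inf_centralizer_inf_commutator_eq_bot (htop X) hcop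
  have hzX : X ≤ centralizer (zpowers u : Set G) := fun x hx => by
    refine mem_centralizer_iff.mpr fun z hz => ?_
    obtain ⟨i, rfl⟩ := mem_zpowers_iff.mp hz
    exact ((show Commute x u from mem_centralizer_singleton_iff.mp (hXu hx)).zpow_right i).eq.symm
  have huF : zpowers u ≤ normalizer (F : Set G) :=
    zpowers_le.mpr (mem_normalizer_iff_map_conj_eq.mpr (by
      show F.map (MulAut.conj u).toMonoidHom = F
      rw [hF, map_commutator,
        show E.map (MulAut.conj u).toMonoidHom = E from
          map_conj_normal E u,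
        show X.map (MulAut.conj u).toMonoidHom = X from ?_]
      ext z
      constructor
      · rintro ⟨x, hx, rfl⟩
        show u * x * u⁻¹ ∈ X
        rw [← mem_centralizer_singleton_iff.mp (hXu hx), mul_inv_cancel_right]
        exact hx
      · intro hz
        refine ⟨z, hz, ?_⟩
        show u * z * u⁻¹ = z
        rw [← mem_centralizer_singleton_iff.mp (hXu hz), mul_inv_cancel_right]))
  have hD : ⁅E, zpowers u⁆ ≤ C ⊔ ⁅F, zpowers u⁆ := by
    refine commutator_le.mpr fun e he z hz => ?_
    have hzC : ∀ c ∈ C, ⁅c, z⁆ ∈ C := by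
      intro c hc
      have hzE : ⁅c, z⁆ ∈ E := by
        rw [commutatorElement_def, mul_assoc c z, mul_assoc c]
        exact mul_mem (mem_inf.mp hc).1 (Normal.conj_mem inferInstance _ (inv_mem (mem_inf.mp hc).1) z)
      refine ⟨hzE, mem_centralizer_iff.mpr fun x hx => ?_⟩
      have h1 : Commute x c := mem_centralizer_iff.mp (mem_inf.mp hc).2 x hx
      have h2 : Commute x z := (mem_centralizer_iff.mp (hzX hx) z hz).symm
      exact ((((h1.mul_right h2).mul_right h1.inv_right).mul_right h2.inv_right)).eq
    obtain ⟨c, hc, f, hf, rfl⟩ := Coprime.exists_mul_of_mem_sup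
      (le_normalizer_of_le_centralizer' (fun a ha => mem_centralizer_iff.mpr fun c hc =>
        setLike_mul_comm (mem_inf.mp hc).1 (hFE ha)) : F ≤ normalizer (C : Set G))
      (hdec.symm ▸ he)
    · rw [commutatorElement_mul_left_eq_conj_mul]
      refine mul_mem ?_ (mem_sup_left (hzC c hc))
      have hfz : ⁅f, z⁆ ∈ ⁅F, zpowers u⁆ := commutator_mem_commutator hf hz
      have hfE : ⁅f, z⁆ ∈ E := hFE (Coprime.commutator_le_of_le_normalizer huF hfz)
      have hcomm : c * ⁅f, z⁆ = ⁅f, z⁆ * c :=
        setLike_mul_comm (mem_inf.mp hc).1 hfE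
      rw [hcomm, mul_inv_cancel_right]
      exact mem_sup_right hfz
  have hFle : F ≤ ⁅F, zpowers u⁆ := by
    intro f hf
    have hCn : ⁅F, zpowers u⁆ ≤ normalizer (C : Set G) :=
      le_normalizer_of_le_centralizer' fun a ha => mem_centralizer_iff.mpr fun c hc =>
        setLike_mul_comm (mem_inf.mp hc).1 (hFE (Coprime.commutator_le_of_le_normalizer huF ha))
    obtain ⟨c, hc, g, hg, e⟩ := Coprime.exists_mul_of_mem_sup hCn (hD (hXE hf))
    have hcF : c ∈ F := by
      have : c = f * g⁻¹ := by rw [← e]; group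
      rw [this]
      exact mul_mem hf (inv_mem (Coprime.commutator_le_of_le_normalizer huF hg))
    have hc1 : c = 1 := mem_bot.mp (hbot ▸ mem_inf.mpr ⟨hc, hcF⟩)
    rw [← e, hc1, one_mul]
    exact hg
  by_contra hne
  refine (Coprime.commutator_lt_of_isPGroup (hE.to_le hFE) hu huF fun hb => hne ?_).not_ge hFle
  rw [← commutator_eq_bot_iff_le_centralizer, commutator_comm]
  exact hb
where
  le_normalizer_of_le_centralizer' {A B : Subgroup G}
      (h : A ≤ centralizer (B : Set G)) : A ≤ normalizer (B : Set G) :=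
    h.trans (centralizer_le_normalizer _)
  setLike_mul_comm {E : Subgroup G} [hE : IsMulCommutative E] {a b : G} (ha : a ∈ E)
      (hb : b ∈ E) : a * b = b * a :=
    congrArg Subtype.val (hE.is_comm.comm ⟨a, ha⟩ ⟨b, hb⟩)

/-- The statement, for a single element `x` of `R` commuting with some `u ∈ U#`. -/
theorem commutator_le_centralizer_fixed {E U R : Subgroup G} [E.Normal] (hE : IsPGroup p E)
    (hU : Cfsg.IsElementaryAbelian p U)
    (hcond : (∀ u ∈ U, u ≠ 1 → E ⊓ centralizer (U : Set G) = E ⊓ centralizer ({u} : Set G)) ∨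
      (∀ u ∈ U, u ≠ 1 → ⁅E, U⁆ = ⁅E, zpowers u⁆))
    (hR : ¬ p ∣ Nat.card R) (hRU : U ≤ normalizer (R : Set G)) {u : G} (hu : u ∈ U) (hu1 : u ≠ 1) :
    ⁅R ⊓ centralizer ({u} : Set G), U⁆ ≤ centralizer (E : Set G) := by
  have hUc : ∀ a ∈ U, ∀ b ∈ U, a * b = b * a := fun a ha b hb =>
    congrArg Subtype.val (hU.1.is_comm.comm ⟨a, ha⟩ ⟨b, hb⟩)
  set W := R ⊓ centralizer ({u} : Set G) with hW
  have hUW : U ≤ normalizer (W : Set G) := by
    refine le_normalizer_iff.mpr fun v hv w hw => ?_
    refine ⟨(mem_normalizer_iff.mp (hRU hv) w).mp (mem_inf.mp hw).1,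
      mem_centralizer_singleton_iff.mpr ?_⟩
    have h1 := mem_centralizer_singleton_iff.mp (mem_inf.mp hw).2
    have h2 : v⁻¹ * u = u * v⁻¹ := (show Commute v u from hUc v hv u hu).inv_left.eq
    calc v * w * v⁻¹ * u = v * (w * (v⁻¹ * u)) := by group
      _ = v * (w * u * v⁻¹) := by rw [h2]; group
      _ = v * (u * w * v⁻¹) := by rw [h1]
      _ = v * u * (w * v⁻¹) := by group
      _ = u * v * (w * v⁻¹) := by rw [hUc v hv u hu]
      _ = _ := by group
  set X := ⁅W, U⁆ with hX
  have hXW : X ≤ W := Coprime.commutator_le_of_le_normalizer hUW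
  have hXp : (Nat.card X).Coprime p :=
    Nat.Coprime.coprime_dvd_left (card_dvd_of_le (hXW.trans inf_le_left))
      (PLocal.not_dvd_iff_coprime.mpr hR)
  have hXu : X ≤ centralizer ({u} : Set G) := hXW.trans inf_le_right
  have hup : IsPGroup p (zpowers u) := IsPGroup.of_card (n := 1) (by
    rw [Nat.card_zpowers, orderOf_eq_prime (hU.2 u hu) hu1, pow_one])
  have hnE : ∀ H : Subgroup G, H ≤ normalizer (E : Set G) := fun H =>
    (normalizer_eq_top (H := E)).ge.trans' le_top
  rcases hcond with hc | hc
  · refine Coprime.le_centralizer_of_inf_centralizer_le hup hXp hE ?_ (hnE _) (hnE _) ?_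
    · refine zpowers_le.mpr (mem_centralizer_iff.mpr fun x hx => ?_)
      exact mem_centralizer_singleton_iff.mp (hXu hx)
    · have hD : E ⊓ centralizer ({u} : Set G) ≤ centralizer (X : Set G) := by
        rw [le_centralizer_iff, ← commutator_eq_bot_iff_le_centralizer, hX]
        have hUD : ⁅U, E ⊓ centralizer ({u} : Set G)⁆ = ⊥ := by
          rw [← hc u hu hu1, commutator_eq_bot_iff_le_centralizer, le_centralizer_iff]
          exact inf_le_right
        refine commutator_commutator_eq_bot_of_rotate ?_ ?_
        · rw [hUD, commutator_bot_left]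
        · refine le_bot_iff.mp ((commutator_mono (Coprime.commutator_le_of_le_normalizer
            (le_normalizer_inf_centralizer inf_le_right)) le_rfl).trans ?_)
          rw [commutator_comm, hUD]
      refine le_trans ?_ hD
      refine inf_le_inf_left _ ?_
      rw [zpowers_eq_closure, centralizer_closure]
  · haveI hΦn : ((frattini ↥E).map E.subtype).Normal :=
      ConjAct.normal_of_characteristic_of_normal
    -- `X` acts trivially on `E / [E, U]`
    have hEX : ⁅E, X⁆ ≤ ⁅E, zpowers u⁆ := by
      rw [← hc u hu hu1, commutator_comm E X, hX]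
      have hWD : W ≤ normalizer ((⁅E, U⁆ : Subgroup G) : Set G) := by
        rw [hc u hu hu1]
        intro w hw
        refine mem_normalizer_iff_map_conj_eq.mpr ?_
        show (⁅E, zpowers u⁆).map (MulAut.conj w).toMonoidHom = ⁅E, zpowers u⁆
        rw [map_commutator, map_conj_normal E, MonoidHom.map_zpowers]
        congr 2
        show w * u * w⁻¹ = u
        rw [mem_centralizer_singleton_iff.mp (mem_inf.mp hw).2, mul_inv_cancel_right]
      refine three_subgroups_le hWD (le_trans le_sup_right (Coprime.sup_le_normalizer_commutator E U))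
        (le_trans le_sup_left (Coprime.sup_le_normalizer_commutator E U)) ?_
        (commutator_mono (Coprime.commutator_le_of_le_normalizer (hnE W)) le_rfl)
      rw [commutator_comm U E]
      exact Coprime.commutator_le_of_le_normalizer hWD
    set Φ := (frattini ↥E).map E.subtype with hΦ
    set π := QuotientGroup.mk' Φ with hπ
    haveI : (E.map π).Normal := Normal.map inferInstance π (QuotientGroup.mk'_surjective _)
    haveI : IsMulCommutative (E.map π) := ⟨⟨by
      rintro ⟨_, a, ha, rfl⟩ ⟨_, b, hb, rfl⟩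
      apply Subtype.ext
      show π a * π b = π b * π a
      rw [← commutatorElement_eq_one_iff_mul_comm, ← map_commutatorElement]
      refine (QuotientGroup.eq_one_iff _).mpr ⟨⁅(⟨a, ha⟩ : E), (⟨b, hb⟩ : E)⁆, ?_, rfl⟩
      exact Solvable.commutator_le_frattini hE (commutator_mem_commutator (mem_top _) (mem_top _))⟩⟩
    have hkey : X.map π ≤ centralizer (E.map π : Set (G ⧸ Φ)) := by
      refine le_centralizer_of_abelian (hE.map π) (u := π u) ?_ ?_ ?_ ?_
      · rw [← MonoidHom.map_zpowers]; exact hup.map π
      · exact Nat.Coprime.coprime_dvd_left (card_map_dvd _ _) hXp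
      · rintro _ ⟨x, hx, rfl⟩
        rw [mem_centralizer_singleton_iff, ← map_mul, mem_centralizer_singleton_iff.mp (hXu hx),
          map_mul]
      · rw [← MonoidHom.map_zpowers, ← map_commutator, ← map_commutator]
        exact map_mono hEX
    -- `X` is trivial on `E / Φ(E)`, hence on `E`
    refine Coprime.le_centralizer_of_commutator_le_frattini (hnE X) ?_ ?_
    · obtain ⟨n, hn⟩ := IsPGroup.iff_card.mp (hE.to_subgroup (frattini E))
      rw [hn]; exact hXp.pow_right n
    · rw [← hΦ, ← QuotientGroup.ker_mk' Φ, ← hπ, ← Subgroup.map_eq_bot_iff, map_commutator,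
        commutator_eq_bot_iff_le_centralizer]
      exact le_centralizer_iff.mp hkey

theorem commutator_le_centralizer_of_cond {E U R : Subgroup G} [E.Normal] (hE : IsPGroup p E)
    (hU : Cfsg.IsElementaryAbelian p U) (hnc : ¬ IsCyclic U)
    (hcond : (∀ u ∈ U, u ≠ 1 → E ⊓ centralizer (U : Set G) = E ⊓ centralizer ({u} : Set G)) ∨
      (∀ u ∈ U, u ≠ 1 → ⁅E, U⁆ = ⁅E, zpowers u⁆))
    (hR : ¬ p ∣ Nat.card R) (hRU : U ≤ normalizer (R : Set G)) :
    ⁅R, U⁆ ≤ centralizer (E : Set G) := by
  haveI := hU.1
  haveI : (centralizer (E : Set G)).Normal := normal_centralizer'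
  set π := QuotientGroup.mk' (centralizer (E : Set G))
  have hUp : IsPGroup p U := fun a => ⟨1, by rw [pow_one]; exact Subtype.ext (hU.2 a a.2)⟩
  have hle : R ≤ (centralizer (U.map π : Set (G ⧸ centralizer (E : Set G)))).comap π := by
    refine Coprime.le_of_forall_inf_centralizer_le hnc hRU ?_ fun u hu hu1 => ?_
    · obtain ⟨n, hn⟩ := IsPGroup.iff_card.mp hUp
      rw [hn]
      exact (PLocal.not_dvd_iff_coprime.mpr hR).symm.pow_left n
    · intro w hw
      rw [mem_comap, mem_centralizer_iff]
      rintro _ ⟨v, hv, rfl⟩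
      have := commutator_le_centralizer_fixed hE hU hcond hR hRU hu hu1
        (commutator_mem_commutator hw hv)
      have h1 : π ⁅w, v⁆ = 1 := (QuotientGroup.eq_one_iff _).mpr this
      rw [map_commutatorElement, commutatorElement_eq_one_iff_mul_comm] at h1
      exact h1.symm
  refine commutator_le.mpr fun r hr v hv => (QuotientGroup.eq_one_iff _).mp ?_
  show π ⁅r, v⁆ = 1
  rw [map_commutatorElement, commutatorElement_eq_one_iff_mul_comm]
  exact (mem_centralizer_iff.mp (hle hr) _ (mem_map_of_mem π hv)).symm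
where
  normal_centralizer' {E : Subgroup G} [E.Normal] : (centralizer (E : Set G)).Normal :=
    Subgroup.normal_centralizer

end CfsgLib.LocalEven48
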