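import Cfsg.Agent.LocalEven48.S3Amalgam.Main
import Cfsg.Agent.LocalStructure.FrakH
import Cfsg.Agent.LocalEvenBasic.CardLattice
import Cfsg.Agent.S3755

/-!
Sims' theorem in local form: a dihedral residue of prime degree forces `S₄` or `2 × S₄`.
-/

set_option autoImplicit false

namespace CfsgLib.LocalEven48.SimsLocal

open Subgroup Cfsg CfsgLib.LocalStructure
open scoped commutatorElement

/-- In a dihedral group of odd degree, the two involutions `t` and `ρ t ρ⁻¹`, `ρ` a rotation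
generator, have as product a nontrivial rotation. -/
theorem dihedral_product {q : ℕ} (hq : q.Prime) (hq2 : q ≠ 2) {τ : DihedralGroup q} (h1 : τ ≠ 1)
    (h2 : τ * τ = 1) :
    τ * (DihedralGroup.r 1 * τ * (DihedralGroup.r 1)⁻¹) ≠ 1 ∧
      (τ * (DihedralGroup.r 1 * τ * (DihedralGroup.r 1)⁻¹)) ^ q = 1 := by
  haveI := Fact.mk hq
  haveI : NeZero q := ⟨hq.ne_zero⟩
  have h2' : (2 : ZMod q) ≠ 0 := by
    rw [show (2 : ZMod q) = ((2 : ℕ) : ZMod q) by norm_num, Ne, ZMod.natCast_eq_zero_iff]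
    intro h
    exact hq2 ((Nat.prime_dvd_prime_iff_eq hq Nat.prime_two).1 h)
  obtain ⟨i⟩ | ⟨i⟩ := τ
  · refine absurd ?_ h1
    rw [DihedralGroup.r_mul_r, DihedralGroup.one_def, DihedralGroup.r.injEq, ← two_mul] at h2
    rw [(mul_eq_zero.1 h2).resolve_left h2']
    rfl
  · have e : DihedralGroup.sr i * (DihedralGroup.r 1 * DihedralGroup.sr i * (DihedralGroup.r 1)⁻¹) =
        DihedralGroup.r (-2 : ZMod q) := by
      rw [DihedralGroup.inv_r, DihedralGroup.r_mul_sr, DihedralGroup.sr_mul_r, DihedralGroup.sr_mul_sr]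
      congr 1
      ring
    rw [e]
    refine ⟨fun h => h2' ?_, by rw [DihedralGroup.r_pow, ZMod.natCast_self, mul_zero, DihedralGroup.r_zero]⟩
    rw [DihedralGroup.one_def, DihedralGroup.r.injEq, neg_eq_zero] at h
    exact h

variable {G : Type*} [Group G] [Finite G]

/-- An element centralizing `D ≤ V` of index at most 4 has sixth power stabilizing `1 ≤ D ≤ V`. -/
theorem six_stab {V D : Subgroup G} (hDV : D ≤ V) (hVab : ∀ a ∈ V, ∀ b ∈ V, a * b = b * a)
    (hidx : D.relIndex V ≤ 4) {y : G} (hyV : y ∈ Subgroup.normalizer (V : Set G))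
    (hyD : y ∈ centralizer (D : Set G)) {v : G} (hv : v ∈ V) : ⁅y ^ 6, v⁆ ∈ D := by
  classical
  have hyDn : y ∈ Subgroup.normalizer (D : Set G) := centralizer_le_normalizer _ hyD
  set c : ℕ → G := fun i => y ^ i * v * (y ^ i)⁻¹ with hc
  have hcV : ∀ i, c i ∈ V := fun i => (mem_normalizer_iff.1 (pow_mem hyV i) v).1 hv
  by_cases hvD : v ∈ D
  · rw [commutatorElement_eq_one_iff_mul_comm.2
      (mem_centralizer_iff.1 (pow_mem hyD 6) v hvD).symm]
    exact one_mem _
  have hcD : ∀ i, c i ∉ D := fun i h => hvD ((mem_normalizer_iff.1 (pow_mem hyDn i) v).2 h)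
  let D' := D.subgroupOf V
  have hcard : Nat.card (↥V ⧸ D') ≤ 4 := hidx
  letI := Fintype.ofFinite (↥V ⧸ D')
  let f : Fin 4 → {k : ↥V ⧸ D' // k ≠ QuotientGroup.mk 1} := fun i =>
    ⟨QuotientGroup.mk ⟨c i, hcV i⟩, fun h => hcD i (by
      have := QuotientGroup.eq.1 h
      simpa [D', mem_subgroupOf] using this)⟩
  obtain ⟨i, j, hij, hf⟩ := Fintype.exists_ne_map_eq_of_card_lt f (by
    rw [Fintype.card_fin, Fintype.card_subtype_compl, Fintype.card_subtype_eq,
      ← Nat.card_eq_fintype_card]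
    omega)
  have key : ∀ a b : ℕ, a < b → ((c a)⁻¹ * c b ∈ D) → ⁅y ^ (b - a), v⁆ ∈ D := by
    intro a b hab h
    have h1 := (mem_normalizer_iff''.1 (pow_mem hyDn a) _).1 h
    have e : (y ^ a)⁻¹ * ((c a)⁻¹ * c b) * y ^ a = v⁻¹ * c (b - a) := by
      obtain ⟨d, rfl⟩ := Nat.exists_eq_add_of_le hab.le
      simp only [hc, Nat.add_sub_cancel_left, pow_add]
      group
    rw [e] at h1
    have e2 : ⁅y ^ (b - a), v⁆ = c (b - a) * v⁻¹ := by simp [hc, commutatorElement_def]
    rw [e2, hVab _ (hcV _) _ (inv_mem hv)]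
    exact h1
  have hstep : ∀ d : ℕ, ⁅y ^ d, v⁆ ∈ D → ∀ m : ℕ, ⁅y ^ (d * m), v⁆ ∈ D := by
    intro d hd m
    induction m with
    | zero => simp [D.one_mem]
    | succ m ih =>
      have e : ⁅y ^ (d * (m + 1)), v⁆ = (y ^ d * ⁅y ^ (d * m), v⁆ * (y ^ d)⁻¹) * ⁅y ^ d, v⁆ := by
        rw [show d * (m + 1) = d + d * m by ring, pow_add, commutatorElement_def,
          commutatorElement_def, commutatorElement_def]
        group
      rw [e]
      exact mul_mem ((mem_normalizer_iff.1 (pow_mem hyDn d) _).1 ih) hd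
  have hd : ∀ i j : Fin 4, (i : ℕ) < j → f i = f j → ⁅y ^ 6, v⁆ ∈ D := by
    intro i j hlt hfe
    have h1 := key i j hlt (by
      have := QuotientGroup.eq.1 (congrArg Subtype.val hfe)
      simpa [D', mem_subgroupOf] using this)
    have hd6 : ((j : ℕ) - i) ∣ 6 := by
      have := j.isLt
      rcases (by omega : (j : ℕ) - i = 1 ∨ (j : ℕ) - i = 2 ∨ (j : ℕ) - i = 3) with e | e | e <;>
        rw [e] <;> norm_num
    obtain ⟨m, hm⟩ := hd6
    rw [hm]
    exact hstep _ h1 m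
  rcases lt_trichotomy (i : ℕ) j with h | h | h
  · exact hd i j h hf
  · exact absurd (Fin.ext h) hij
  · exact hd j i h hf.symm

theorem pCore_map_equiv {A B : Type*} [Group A] [Group B] {p : ℕ} (e : A ≃* B) :
    (pCore p A).map e.toMonoidHom = pCore p B := by
  refine le_antisymm (Solvable.map_pCore_le e.surjective) fun b hb => ?_
  exact ⟨e.symm b, Solvable.map_pCore_le (f := e.symm.toMonoidHom) e.symm.surjective ⟨b, hb, rfl⟩,
    e.apply_symm_apply b⟩

/-- Sims' theorem in local form. -/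
theorem sims [IsSimpleGroup G] (hna : ¬ IsMulCommutative G) (P : Subgroup G) (hP : IsCoatom P)
    (hchar : centralizer (pCore 2 ↥P : Set ↥P) ≤ pCore 2 ↥P) (S : Sylow 2 ↥P)
    (hN : ¬ Subgroup.normalizer (((S : Subgroup ↥P).map P.subtype : Subgroup G) : Set G) ≤ P)
    (q : ℕ) (hq : q.Prime) (hD : Nonempty (↥P ⧸ pCore 2 ↥P ≃* DihedralGroup q)) :
    Nonempty (↥P ≃* Equiv.Perm (Fin 4)) ∨
      Nonempty (↥P ≃* Equiv.Perm (Fin 4) × Multiplicative (ZMod 2)) := by
  classical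
  haveI : Fact (Nat.Prime 2) := ⟨Nat.prime_two⟩
  haveI := Fact.mk hq
  haveI := CfsgLib.LocalStructure.pCore_normal (p := 2) (G := ↥P)
  haveI : NeZero q := ⟨hq.ne_zero⟩
  obtain ⟨e⟩ := hD
  set T := (S : Subgroup ↥P).map P.subtype with hT
  set Q := pCoreOf 2 P with hQdef
  have hTP : T ≤ P := map_subtype_le _
  have hQT : Q ≤ T := map_mono (IsPGroup.le_sylow_of_normal pCore_isPGroup S)
  have hTp : IsPGroup 2 T := S.2.map _
  have hQp : IsPGroup 2 Q := pCoreOf_isPGroup P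
  have hPQ : P ≤ Subgroup.normalizer (Q : Set G) := le_normalizer_pCoreOf P
  have hcQ : P ⊓ centralizer (Q : Set G) ≤ Q := (CfsgLib.LocalStructure.charP_iff P).1 hchar
  -- the homomorphism onto the dihedral group
  let π : ↥P →* DihedralGroup q := e.toMonoidHom.comp (QuotientGroup.mk' (pCore 2 ↥P))
  have hπs : Function.Surjective π := e.surjective.comp (QuotientGroup.mk'_surjective _)
  have hπ1 : ∀ x : ↥P, π x = 1 ↔ (x : G) ∈ Q := fun x => by
    show e (QuotientGroup.mk x) = 1 ↔ _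
    rw [map_eq_one_iff _ e.injective, QuotientGroup.eq_one_iff]
    exact ⟨fun h => ⟨x, h, rfl⟩, fun ⟨y, hy, he⟩ => (Subtype.ext he : y = x) ▸ hy⟩
  have hQcard : Nat.card Q = Nat.card (pCore 2 ↥P) :=
    card_map_of_injective P.subtype_injective
  have hcardP : Nat.card P = 2 * q * Nat.card Q := by
    rw [hQcard, ← (pCore 2 ↥P).index_mul_card, Subgroup.index, Nat.card_congr e.toEquiv,
      DihedralGroup.nat_card]
  -- `q` is odd
  have hq2 : q ≠ 2 := by
    intro h2
    obtain ⟨a, ha⟩ := IsPGroup.iff_card.1 hQp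
    have hPp : IsPGroup 2 ↥P := IsPGroup.of_card (n := a + 2) (by rw [hcardP, ha, h2]; ring)
    have htop : (⊤ : Subgroup ↥P) ≤ pCore 2 ↥P :=
      CfsgLib.LocalStructure.le_pCore (hPp.to_subgroup ⊤)
    have := Subgroup.index_eq_one.2 (top_le_iff.1 htop)
    rw [Subgroup.index, Nat.card_congr e.toEquiv, DihedralGroup.nat_card] at this
    omega
  have hTcard : Nat.card T = 2 * Nat.card Q := by
    obtain ⟨a, ha⟩ := IsPGroup.iff_card.1 hQp
    rw [hT, card_map_of_injective P.subtype_injective, S.card_eq_multiplicity, hcardP, ha,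
      show 2 * q * 2 ^ a = 2 ^ (a + 1) * q by ring,
      Nat.factorization_mul (by positivity) hq.ne_zero, Finsupp.add_apply,
      Nat.Prime.factorization_pow Nat.prime_two, Nat.Prime.factorization hq]
    simp [Ne.symm hq2, pow_succ, mul_comm]
  -- the conjugate
  obtain ⟨g, hgT, hgP⟩ := SetLike.not_le_iff_exists.1 hN
  set P₂ := conjS g P with hP₂
  have hgTeq : conjS g T = T := conj_map_eq_of_mem_normalizer hgT
  have hne : P₂ ≠ P := by
    intro h
    rcases (Subgroup.le_normalizer : P ≤ Subgroup.normalizer (P : Set G)).eq_or_lt with h' | h'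
    · exact hgP (h' ▸ mem_normalizer_of_conjS_eq h)
    · rcases (normalizer_eq_top_iff.1 (hP.2 _ h') : P.Normal).eq_bot_or_eq_top with hb | ht
      · have h1 : Nat.card P = 1 := by rw [hb, Subgroup.card_bot]
        rw [hcardP] at h1
        have := hq.two_le
        nlinarith [Nat.card_pos (α := Q)]
      · exact hP.1 ht
  have hgen : P ⊔ P₂ = ⊤ := by
    refine hP.2 _ (lt_of_le_of_ne le_sup_left fun h => hne ?_)
    exact Subgroup.eq_of_le_of_card_ge (h ▸ le_sup_right)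
      (card_map_of_injective (MulAut.conj g).injective).ge
  have hTP₂ : T ≤ P₂ := hgTeq.ge.trans (conjS_mono hTP)
  have hTinf : T = P ⊓ P₂ := by
    refine Subgroup.eq_of_le_of_card_ge (le_inf hTP hTP₂) ?_
    obtain ⟨j, hj⟩ := Subgroup.card_dvd_of_le (le_inf hTP hTP₂ : T ≤ P ⊓ P₂)
    have h1 := Subgroup.card_dvd_of_le (inf_le_left : P ⊓ P₂ ≤ P)
    rw [hj, hcardP, hTcard, show 2 * q * Nat.card Q = 2 * Nat.card Q * q by ring] at h1
    rcases (Nat.dvd_prime hq).1 ((Nat.mul_dvd_mul_iff_left (by positivity [Nat.card_pos (α := Q)])).1 h1)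
      with rfl | rfl
    · rw [hj, mul_one]
    · exfalso
      have hle : P ⊓ P₂ = P := Subgroup.eq_of_le_of_card_ge inf_le_left
        (by rw [hj, hcardP, hTcard]; exact le_of_eq (by ring))
      exact hne (Subgroup.eq_of_le_of_card_ge (inf_eq_left.1 hle)
        (card_map_of_injective (MulAut.conj g).injective).le).symm
  -- nothing normalized by `N(T)` is normal in `P`
  have hnoN : ∀ X : Subgroup G, X ≤ T → P ≤ Subgroup.normalizer (X : Set G) → conjS g X = X →
      X = ⊥ := by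
    intro X hXT hPX hgX
    have hP₂X : P₂ ≤ Subgroup.normalizer (X : Set G) := by
      rw [← hgX, normalizer_conjS]; exact conjS_mono hPX
    rcases (normalizer_eq_top_iff.1 (top_le_iff.1 (hgen.ge.trans (sup_le hPX hP₂X))) :
      X.Normal).eq_bot_or_eq_top with h | h
    · exact h
    · exact absurd (top_le_iff.1 (h ▸ hXT.trans hTP)) hP.1
  have hgc : g ∈ Subgroup.normalizer (centralizer (T : Set G) : Set G) :=
    LocalStructure.normalizer_le_normalizer_centralizer _ hgT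
  set Z₀ := omegaZ 2 T with hZ₀
  have hgZ : conjS g Z₀ = Z₀ :=
    conj_map_eq_of_mem_normalizer (normalizer_le_normalizer_omegaZ T hgT)
  have hTne : T ≠ ⊥ := fun h => by
    rw [h, Subgroup.card_bot] at hTcard; omega
  have hZne : Z₀ ≠ ⊥ := by
    obtain ⟨w, hw, hw1, hwc⟩ := exists_fixed_of_isPGroup hTp hTp hTne Subgroup.le_normalizer
    obtain ⟨k, hk⟩ := IsPGroup.iff_orderOf.1 hTp ⟨w, hw⟩
    rw [orderOf_mk] at hk
    have hk0 : k ≠ 0 := fun h => hw1 (orderOf_eq_one_iff.1 (by rw [hk, h, pow_zero]))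
    obtain ⟨m, rfl⟩ := Nat.exists_eq_succ_of_ne_zero hk0
    intro hb
    have hmem : w ^ (2 ^ m) ∈ Z₀ := mem_omegaZ.2 ⟨pow_mem hw _, pow_mem hwc _, by
      rw [← pow_mul, ← pow_succ, ← hk, pow_orderOf_eq_one]⟩
    rw [hb, mem_bot] at hmem
    have := orderOf_dvd_of_pow_eq_one hmem
    rw [hk] at this
    have := Nat.le_of_dvd (by positivity) this
    rw [pow_succ] at this
    have : 0 < 2 ^ m := by positivity
    omega
  have h5 : ¬ P ≤ centralizer (Z₀ : Set G) := fun h =>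
    hZne (hnoN Z₀ (omegaZ_le T) (h.trans (centralizer_le_normalizer _)) hgZ)
  -- the module `V`
  set V := omegaZ 2 Q with hVdef
  have hVQ : V ≤ Q := omegaZ_le Q
  have hPV : P ≤ Subgroup.normalizer (V : Set G) :=
    hPQ.trans (normalizer_le_normalizer_omegaZ Q)
  have hZQ : Z₀ ≤ V := by
    intro z hz
    obtain ⟨h1, h2, h3⟩ := mem_omegaZ.1 hz
    have hc : z ∈ centralizer (Q : Set G) := centralizer_le hQT h2
    exact mem_omegaZ.2 ⟨hcQ ⟨hTP h1, hc⟩, hc, h3⟩
  have hVab : ∀ a ∈ V, ∀ b ∈ V, a * b = b * a := fun a ha b hb =>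
    elab_comm (omegaZ_elab Q) ha hb
  -- `C_P(V) = Q`
  have hCV : P ⊓ centralizer (V : Set G) ≤ Q := by
    set C := P ⊓ centralizer (V : Set G)
    have hCn : P ≤ Subgroup.normalizer (C : Set G) := le_normalizer_inf' Subgroup.le_normalizer
      (hPV.trans (LocalStructure.normalizer_le_normalizer_centralizer _))
    by_contra hne'
    have hnp : ¬ IsPGroup 2 C := fun h => hne' (LocalStructure.le_pCoreOf inf_le_left hCn h)
    have hqC : q ∣ Nat.card C := by
      by_contra hnd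
      obtain ⟨a, ha⟩ := IsPGroup.iff_card.1 hQp
      have h1 := Subgroup.card_dvd_of_le (inf_le_left : C ≤ P)
      rw [hcardP, ha, show 2 * q * 2 ^ a = q * 2 ^ (a + 1) by ring] at h1
      obtain ⟨b, -, hb⟩ := (Nat.dvd_prime_pow Nat.prime_two).1
        (((Nat.Prime.coprime_iff_not_dvd hq).2 hnd).symm.dvd_of_dvd_mul_left h1)
      exact hnp (IsPGroup.of_card hb)
    have hTC : T ⊔ C = P := by
      refine Subgroup.eq_of_le_of_card_ge (sup_le hTP inf_le_left) ?_
      have h1 := Subgroup.card_dvd_of_le (le_sup_left : T ≤ T ⊔ C)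
      have h2 := Subgroup.card_dvd_of_le (le_sup_right : C ≤ T ⊔ C)
      have hcop : (Nat.card T).Coprime q := by
        obtain ⟨a, ha⟩ := IsPGroup.iff_card.1 hTp
        rw [ha]
        exact Nat.Coprime.pow_left _ ((Nat.coprime_primes Nat.prime_two hq).2 (Ne.symm hq2))
      have := Nat.le_of_dvd Nat.card_pos (hcop.mul_dvd_of_dvd_of_dvd h1 (hqC.trans h2))
      rw [hcardP]
      rw [hTcard] at this
      linarith
    refine h5 (hTC.ge.trans (sup_le ?_ (inf_le_right.trans (centralizer_le hZQ))))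
    exact le_centralizer_omegaZ T
  -- a maximal elementary abelian subgroup outside `Q`
  set E := {A : Subgroup G | A ≤ T ∧ IsElementaryAbelian 2 A}
  obtain ⟨A₀, hA₀, hA₀max⟩ := Set.exists_max_image E (fun A => Nat.card A) (Set.toFinite _)
    ⟨⊥, bot_le, isElementaryAbelian_bot⟩
  set F := {A : Subgroup G | A ∈ E ∧ Nat.card A = Nat.card A₀}
  obtain ⟨A, ⟨⟨hAT, hAel⟩, hAcard⟩, hAQ⟩ : ∃ A ∈ F, ¬ A ≤ Q := by
    by_contra hcon
    push Not at hcon
    set J := ⨆ A ∈ F, A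
    have hcard : ∀ (x : G) (A : Subgroup G), Nat.card (conjS x A) = Nat.card A := fun x A =>
      card_map_of_injective (MulAut.conj x).injective
    have hel : ∀ (x : G) (A : Subgroup G), IsElementaryAbelian 2 A →
        IsElementaryAbelian 2 (conjS x A) := by
      intro x A hA
      refine isElementaryAbelian_iff.2 ⟨?_, ?_⟩
      · rintro _ ⟨a, ha, rfl⟩ _ ⟨b, hb, rfl⟩
        rw [← map_mul, ← map_mul, elab_comm hA ha hb]
      · rintro _ ⟨a, ha, rfl⟩
        rw [← map_pow, hA.2 a ha, map_one]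
    have hconj : ∀ x : G, (∀ A ∈ F, conjS x A ≤ T) → conjS x J ≤ J := by
      intro x hx
      rw [conjS, Subgroup.map_iSup]
      refine iSup_le fun A => ?_
      rw [Subgroup.map_iSup]
      exact iSup_le fun hA => le_biSup (fun A => A) (show conjS x A ∈ F from
        ⟨⟨hx A hA, hel x A hA.1.2⟩, by rw [hcard, hA.2]⟩)
    have hJQ : J ≤ Q := iSup₂_le hcon
    have hJ : J = ⊥ := hnoN J (hJQ.trans hQT) (fun x hx => mem_normalizer_of_forall fun y hy =>
        hconj x (fun A hA => (conjS_mono (hcon A hA)).trans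
          ((conj_map_eq_of_mem_normalizer (hPQ hx)).le.trans hQT)) ⟨y, hy, rfl⟩)
      (Subgroup.eq_of_le_of_card_ge (hconj g fun A hA => (conjS_mono hA.1.1).trans hgTeq.le)
        (hcard g J).ge)
    have hA₀J : A₀ ≤ J := le_biSup (fun A => A) (show A₀ ∈ F from ⟨hA₀, rfl⟩)
    have h1 := hA₀max Z₀ ⟨omegaZ_le T, omegaZ_elab T⟩
    rw [hJ, le_bot_iff] at hA₀J
    simp only [hA₀J, Subgroup.card_bot] at h1
    exact hZne ((Subgroup.eq_bot_iff_card _).2 (le_antisymm h1 Nat.card_pos))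
  obtain ⟨t, htA, htQ⟩ := SetLike.not_le_iff_exists.1 hAQ
  have htP : t ∈ P := hTP (hAT htA)
  -- `|V : C_V(t)| ≤ 2`
  have hVt : (V ⊓ centralizer ({t} : Set G)).relIndex V ≤ 2 := by
    have hB : IsElementaryAbelian 2 ((A ⊓ Q) ⊔ V) :=
      isElementaryAbelian_sup (isElementaryAbelian_of_le hAel inf_le_left) (omegaZ_elab Q)
        (inf_le_right.trans (le_centralizer_omegaZ Q))
    have h1 := hA₀max _ ⟨sup_le (inf_le_left.trans hAT) (hVQ.trans hQT), hB⟩
    have h2 := CfsgLib.LocalEvenBasic.card_mul_le_inf_mul_sup (A ⊓ Q) V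
    rw [show (A ⊓ Q) ⊓ V = A ⊓ V by rw [inf_assoc, inf_eq_right.2 hVQ]] at h2
    have hle : A ⊓ V ≤ V ⊓ centralizer ({t} : Set G) := le_inf inf_le_right
      fun x hx => mem_centralizer_singleton_iff.2 (elab_comm hAel hx.1 htA)
    have h3 : Nat.card A ≤ 2 * Nat.card ↥(A ⊓ Q) := by
      have e1 := CfsgLib.LocalEvenBasic.card_mul_relIndex_of_le (A ⊓ Q) A inf_le_left
      have hQi : Q.relIndex T = 2 := by
        have e2 := CfsgLib.LocalEvenBasic.card_mul_relIndex_of_le Q T hQT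
        rw [hTcard, mul_comm 2] at e2
        exact Nat.eq_of_mul_eq_mul_left Nat.card_pos e2
      have e3 : (A ⊓ Q).relIndex A = Q.relIndex A := by rw [inf_comm, inf_relIndex_right]
      have e4 : Q.relIndex A ≤ 2 :=
        (Subgroup.relIndex_le_of_le_right hAT (by rw [hQi]; norm_num)).trans hQi.le
      rw [e3] at e1
      rw [← e1, mul_comm 2]
      exact Nat.mul_le_mul_left _ e4
    have h4 := CfsgLib.LocalEvenBasic.card_mul_relIndex_of_le _ V
      (inf_le_left : V ⊓ centralizer ({t} : Set G) ≤ V)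
    have h5' : Nat.card ↥(A ⊓ V) ≤ Nat.card ↥(V ⊓ centralizer ({t} : Set G)) :=
      Nat.le_of_dvd Nat.card_pos (Subgroup.card_dvd_of_le hle)
    have h6 : Nat.card ↥(A ⊓ Q) * Nat.card V ≤ Nat.card ↥(A ⊓ Q) *
        (2 * Nat.card ↥(V ⊓ centralizer ({t} : Set G))) := by
      calc Nat.card ↥(A ⊓ Q) * Nat.card V
          ≤ Nat.card ↥(A ⊓ V) * Nat.card ↥((A ⊓ Q) ⊔ V) := h2
        _ ≤ Nat.card ↥(V ⊓ centralizer ({t} : Set G)) * Nat.card A₀ := Nat.mul_le_mul h5' h1
        _ ≤ Nat.card ↥(V ⊓ centralizer ({t} : Set G)) * (2 * Nat.card ↥(A ⊓ Q)) :=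
            Nat.mul_le_mul_left _ (hAcard ▸ h3)
        _ = _ := by ring
    have h7 := Nat.le_of_mul_le_mul_left h6 Nat.card_pos
    rw [← h4, mul_comm 2] at h7
    exact Nat.le_of_mul_le_mul_left h7 Nat.card_pos
  -- two transvections
  obtain ⟨ρ, hρ⟩ := hπs (DihedralGroup.r 1)
  set x := (ρ : G) * t * (ρ : G)⁻¹ with hx
  have hxP : x ∈ P := mul_mem (mul_mem ρ.2 htP) (inv_mem ρ.2)
  have hVx : (V ⊓ centralizer ({x} : Set G)).relIndex V ≤ 2 := by
    have e1 : conjS (ρ : G) (V ⊓ centralizer ({t} : Set G)) ≤ V ⊓ centralizer ({x} : Set G) := by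
      rintro _ ⟨v, hv, rfl⟩
      refine ⟨(mem_normalizer_iff.1 (hPV ρ.2) v).1 hv.1, mem_centralizer_singleton_iff.2 ?_⟩
      have := mem_centralizer_singleton_iff.1 hv.2
      show (ρ : G) * v * (ρ : G)⁻¹ * x = x * ((ρ : G) * v * (ρ : G)⁻¹)
      rw [hx]
      calc (ρ : G) * v * (ρ : G)⁻¹ * ((ρ : G) * t * (ρ : G)⁻¹) = ρ * (v * t) * (ρ : G)⁻¹ := by group
        _ = ρ * (t * v) * (ρ : G)⁻¹ := by rw [this]
        _ = _ := by group
    have h1 := Nat.le_of_dvd Nat.card_pos (Subgroup.card_dvd_of_le e1)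
    rw [card_map_of_injective (MulAut.conj (ρ : G)).injective] at h1
    have h2 := CfsgLib.LocalEvenBasic.card_mul_relIndex_of_le _ V
      (inf_le_left : V ⊓ centralizer ({x} : Set G) ≤ V)
    have h3 := CfsgLib.LocalEvenBasic.card_mul_relIndex_of_le _ V
      (inf_le_left : V ⊓ centralizer ({t} : Set G) ≤ V)
    refine Nat.le_of_mul_le_mul_left ?_ (Nat.card_pos (α := ↥(V ⊓ centralizer ({x} : Set G))))
    rw [h2, ← h3]
    exact Nat.mul_le_mul h1 hVt
  set D := (V ⊓ centralizer ({t} : Set G)) ⊓ (V ⊓ centralizer ({x} : Set G))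
  have hDidx : D.relIndex V ≤ 4 := Subgroup.relIndex_inf_le.trans (Nat.mul_le_mul hVt hVx)
  have ht2 : t * t = 1 := by rw [← sq]; exact hAel.2 t htA
  obtain ⟨hu1, huq⟩ := dihedral_product hq hq2 (τ := π ⟨t, htP⟩)
    (fun h => htQ ((hπ1 _).1 h))
    (by rw [← map_mul, show (⟨t, htP⟩ : ↥P) * ⟨t, htP⟩ = 1 from Subtype.ext ht2, map_one])
  set u : ↥P := ⟨t, htP⟩ * ⟨x, hxP⟩
  have hπu : π u = π ⟨t, htP⟩ * (DihedralGroup.r 1 * π ⟨t, htP⟩ * (DihedralGroup.r 1)⁻¹) := by
    rw [map_mul, show (⟨x, hxP⟩ : ↥P) = ρ * ⟨t, htP⟩ * ρ⁻¹ from rfl, map_mul, map_mul, map_inv, hρ]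
  rw [← hπu] at hu1 huq
  obtain ⟨a, b, ha, hb, ⟨k, hk⟩, hbc, hab⟩ := exists_pPart_mul (p := 2) (u : G)
  have hbP : b ∈ P := zpowers_le.2 u.2 hb
  have haP : a ∈ P := zpowers_le.2 u.2 ha
  have hb1 : π ⟨b, hbP⟩ ≠ 1 := by
    intro h
    have hu : π u = π ⟨a, haP⟩ := by
      rw [show u = ⟨a, haP⟩ * ⟨b, hbP⟩ from Subtype.ext hab.symm, map_mul, h, mul_one]
    have h1 : (π u) ^ 2 ^ k = 1 := by
      rw [hu, ← map_pow, show (⟨a, haP⟩ : ↥P) ^ 2 ^ k = 1 from
        Subtype.ext (by simp [← hk, pow_orderOf_eq_one]), map_one]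
    exact hu1 (orderOf_eq_one_iff.1 (Nat.eq_one_of_dvd_coprimes
      (Nat.Coprime.pow_left k ((Nat.coprime_primes Nat.prime_two hq).2 (Ne.symm hq2)))
      (orderOf_dvd_of_pow_eq_one h1) (orderOf_dvd_of_pow_eq_one huq)))
  have hbD : b ∈ centralizer (D : Set G) := by
    refine zpowers_le.2 (mem_centralizer_iff.2 fun d hd => ?_) hb
    show d * (t * x) = t * x * d
    have h1 := mem_centralizer_singleton_iff.1 hd.1.2
    have h2 := mem_centralizer_singleton_iff.1 hd.2.2
    calc d * (t * x) = d * t * x := (mul_assoc _ _ _).symm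
      _ = t * (d * x) := by rw [h1, mul_assoc]
      _ = t * (x * d) := by rw [h2]
      _ = t * x * d := (mul_assoc _ _ _).symm
  have hb6 : b ^ 6 = 1 := by
    refine eq_one_of_coprime_of_mem hQp (hCV ⟨pow_mem hbP 6, ?_⟩)
      (Nat.Coprime.coprime_dvd_left (orderOf_pow_dvd 6) hbc)
    exact mem_centralizer_of_stab (hQp.to_le (inf_le_left.trans inf_le_left |>.trans hVQ))
      (Nat.Coprime.coprime_dvd_left (orderOf_pow_dvd 6) hbc) (pow_mem hbD 6)
      fun v hv => six_stab (D := D) (inf_le_left.trans inf_le_left) hVab hDidx (hPV hbP) hbD hv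
  have hq3 : q = 3 := by
    have h1 : orderOf (π ⟨b, hbP⟩) ∣ 3 := by
      have h6 : orderOf b ∣ 2 * 3 := orderOf_dvd_of_pow_eq_one hb6
      refine ((orderOf_map_dvd π _).trans (orderOf_mk b hbP).dvd).trans ?_
      exact hbc.dvd_of_dvd_mul_left h6
    have h3 : orderOf (π ⟨b, hbP⟩) = 3 := ((Nat.dvd_prime Nat.prime_three).1 h1).resolve_left
      fun h => hb1 (orderOf_eq_one_iff.1 h)
    have h4 := orderOf_dvd_natCard (π ⟨b, hbP⟩)
    rw [h3, DihedralGroup.nat_card] at h4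
    rcases (Nat.Prime.dvd_mul Nat.prime_three).1 h4 with h | h
    · norm_num at h
    · exact ((Nat.prime_dvd_prime_iff_eq Nat.prime_three hq).1 h).symm
  subst hq3
  -- the amalgam
  have h4 : Nonempty (↥P ⧸ pCore 2 ↥P ≃* Equiv.Perm (Fin 3)) :=
    ⟨e.trans Cfsg.Agent.S3755.d3Perm⟩
  let eg : ↥P ≃* ↥P₂ := P.equivMapOfInjective (MulAut.conj g).toMonoidHom (MulAut.conj g).injective
  have h4' : Nonempty (↥P₂ ⧸ pCore 2 ↥P₂ ≃* Equiv.Perm (Fin 3)) := by
    haveI := CfsgLib.LocalStructure.pCore_normal (p := 2) (G := ↥P₂)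
    obtain ⟨f⟩ := h4
    exact ⟨(QuotientGroup.congr _ _ eg (pCore_map_equiv eg)).symm.trans f⟩
  have hsyl : ∀ R : Subgroup G, T ≤ R → Nat.card R = Nat.card P →
      ∃ S' : Sylow 2 ↥R, (S' : Subgroup ↥R) = T.subgroupOf R := by
    intro R hTR hR
    refine ⟨Sylow.ofCard (T.subgroupOf R) ?_, Sylow.coe_ofCard _ _⟩
    rw [Nat.card_congr (subgroupOfEquivOfLe hTR).toEquiv, hR, hT,
      card_map_of_injective P.subtype_injective, S.card_eq_multiplicity]
  have hcardP₂ : Nat.card P₂ = Nat.card P := card_map_of_injective (MulAut.conj g).injective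
  have hres := CfsgLib.LocalEven48.S3Amalgam.classification hgen T hTinf
    (by
      intro R hR
      rcases hR with hR | hR <;> rw [hR]
      · exact hcQ
      · exact (CfsgLib.LocalStructure.charP_iff P₂).1 (charP_conjS g hchar))
    (by
      intro R hR
      rcases hR with hR | hR <;> rw [hR]
      · exact hsyl P hTP rfl
      · exact hsyl P₂ hTP₂ hcardP₂)
    (fun X hX hXT => hnoN X hXT ((normalizer_eq_top_iff.2 hX).ge.trans' le_top)
      (conj_map_eq_of_mem_normalizer (by rw [normalizer_eq_top_iff.2 hX]; exact mem_top g)))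
    (by
      intro R hR
      rcases hR with hR | hR <;> rw [hR]
      · exact h4
      · exact h4')
    (by
      intro R hR
      rcases hR with hR | hR <;> rw [hR]
      · exact h5
      · intro h
        apply h5
        change conjS g P ≤ centralizer (Z₀ : Set G) at h
        rw [← hgZ, centralizer_conjS] at h
        exact (map_le_map_iff_of_injective (MulAut.conj g).injective).1 h)
  rcases hres with ⟨⟨a⟩, -⟩ | ⟨⟨a⟩, -⟩
  · exact Or.inl ⟨a⟩
  · exact Or.inr ⟨a.trans MulEquiv.prodComm⟩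

end CfsgLib.LocalEven48.SimsLocal
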