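import Cfsg.Agent.LocalStructure.WeaklyClosed
import Cfsg.Agent.LocalStructure.Largest
import Cfsg.Agent.LocalEven48.Basic

/-!
Products `H° = H₁H₂` of a weak closure with `[H₁, H₂] ≤ N(Q)`: the subgroups
`Kᵢ = O^p(⟨Q^{Hᵢ}⟩)`.
-/

namespace CfsgLib.LocalEven48.WCProduct

open Subgroup Cfsg CfsgLib.LocalStructure
open scoped commutatorElement

variable {G : Type*} [Group G] [Finite G] {p : ℕ} [Fact p.Prime]

/-- The elements of `N(X)` that centralise `A` modulo `X`. -/
def commLe (A X : Subgroup G) : Subgroup G where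
  carrier := {x | x ∈ Subgroup.normalizer (X : Set G) ∧ ∀ a ∈ A, ⁅a, x⁆ ∈ X}
  one_mem' := ⟨one_mem _, fun a _ => by simp [X.one_mem]⟩
  mul_mem' := fun {u v} hu hv => ⟨mul_mem hu.1 hv.1, fun a ha => by
    have e : ⁅a, u * v⁆ = ⁅a, u⁆ * (u * ⁅a, v⁆ * u⁻¹) := by simp [commutatorElement_def]; group
    rw [e]
    exact X.mul_mem (hu.2 a ha) ((mem_normalizer_iff.1 hu.1 _).1 (hv.2 a ha))⟩
  inv_mem' := fun {u} hu => ⟨inv_mem hu.1, fun a ha => by
    have e : ⁅a, u⁻¹⁆ = u⁻¹ * ⁅a, u⁆⁻¹ * u := by simp [commutatorElement_def]; group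
    rw [e]
    exact (mem_normalizer_iff''.1 hu.1 _).1 (X.inv_mem (hu.2 a ha))⟩

omit [Finite G] in
theorem commutator_le_of_le_commLe {A B X : Subgroup G} (h : B ≤ commLe A X) : ⁅A, B⁆ ≤ X :=
  commutator_le.2 fun a ha _ hb => (h hb).2 a ha

omit [Finite G] in
theorem le_commLe {A B X : Subgroup G} (hn : B ≤ Subgroup.normalizer (X : Set G))
    (h : ⁅A, B⁆ ≤ X) : B ≤ commLe A X := fun _ hb =>
  ⟨hn hb, fun _ ha => h (commutator_mem_commutator ha hb)⟩

omit [Finite G] in
theorem commutator_sup_le {A B C X : Subgroup G} (hn : B ⊔ C ≤ Subgroup.normalizer (X : Set G))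
    (hB : ⁅A, B⁆ ≤ X) (hC : ⁅A, C⁆ ≤ X) : ⁅A, B ⊔ C⁆ ≤ X :=
  commutator_le_of_le_commLe
    (sup_le (le_commLe (le_sup_left.trans hn) hB) (le_commLe (le_sup_right.trans hn) hC))

/-- A `p`-group normalising `A` does not change `O^p(A)`. -/
theorem pResOf_sup_pgroup {A Q : Subgroup G} (hQ : IsPGroup p Q)
    (hn : Q ≤ Subgroup.normalizer (A : Set G)) : pResOf p (A ⊔ Q) = pResOf p A := by
  refine le_antisymm (pResOf_le_of_forall fun g hg hc => ?_) (pResOf_mono le_sup_left)
  obtain ⟨k, hk⟩ := exists_pow_mem_of_mem_sup hQ hn ((sup_comm A Q).le hg)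
  exact mem_pResOf (mem_of_coprime_of_pow_mem hc hk) hc

/-- If `W` is the normal closure of `Q` in itself, then `W = O^p(W) Q`. -/
theorem le_pResOf_sup {W Q : Subgroup G} (hQW : Q ≤ W)
    (hgen : ∀ X : Subgroup G, Q ≤ X → X ≤ W → W ≤ Subgroup.normalizer (X : Set G) → W ≤ X) :
    W ≤ pResOf p W ⊔ Q := by
  set Y := (pResOf p W ⊔ Q).subgroupOf W with hY
  by_contra hne
  have hYtop : Y ≠ ⊤ := fun h => hne (subgroupOf_eq_top.1 h)
  obtain h | ⟨Z, hZ, hYZ⟩ := eq_top_or_exists_le_coatom Y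
  · exact hYtop h
  have : (pResidual p ↥W).Normal := pResidual_normal
  haveI : Group.IsNilpotent (↥W ⧸ pResidual p ↥W) :=
    (isPGroup_quotient_pResidual (G := ↥W) (p := p)).isNilpotent
  set f := QuotientGroup.mk' (pResidual p ↥W) with hf
  have hker : f.ker ≤ Z := by
    rw [QuotientGroup.ker_mk']
    intro x hx
    refine hYZ (mem_subgroupOf.2 (mem_sup_left ?_))
    rw [← map_pResidual W]
    exact ⟨x, hx, rfl⟩
  have hc : IsCoatom (Z.map f) := by
    refine ⟨fun h => hZ.1 ?_, fun K hK => ?_⟩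
    · rw [← comap_map_eq_self hker, h, comap_top]
    · have hlt : Z < K.comap f := by
        refine lt_of_le_of_ne (map_le_iff_le_comap.1 hK.le) fun h => hK.ne ?_
        rw [h, map_comap_eq_self_of_surjective (QuotientGroup.mk'_surjective _)]
      rw [← map_comap_eq_self_of_surjective (QuotientGroup.mk'_surjective _) K, ← hf, hZ.2 _ hlt,
        map_top_of_surjective _ (QuotientGroup.mk'_surjective _)]
  have hZn : Z.Normal := by
    rw [← comap_map_eq_self hker]
    exact (NormalizerCondition.normal_of_coatom _ Group.normalizerCondition_of_isNilpotent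
      hc).comap f
  refine hZ.1 (top_le_iff.1 ?_)
  have h1 := hgen (Z.map W.subtype) (fun q hq => ⟨⟨q, hQW hq⟩, hYZ (mem_sup_right hq), rfl⟩)
    (map_subtype_le _) ?_
  · intro x _
    obtain ⟨y, hy, e⟩ := h1 x.2
    exact (Subtype.ext e : y = x) ▸ hy
  · intro w hw
    refine mem_normalizer_of_forall ?_
    rintro _ ⟨z, hz, rfl⟩
    exact ⟨_, hZn.conj_mem z hz ⟨w, hw⟩, rfl⟩

variable {Q Hc H J : Subgroup G}

/-- One factor of the product. -/
theorem factor (hQp : IsPGroup p Q) (hwc : IsWeaklyClosedSubgroup p Q)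
    (hHc : Hc = weakClosure Q ⊤) (hH : H ≤ Hc ∧ Hc ≤ Subgroup.normalizer (H : Set G))
    (hJ : J ≤ Hc ∧ Hc ≤ Subgroup.normalizer (J : Set G)) (hprod : H ⊔ J = Hc)
    (hcomm : ⁅H, J⁆ ≤ Subgroup.normalizer (Q : Set G))
    (K : Subgroup G) (hK : K = pResOf p (weakClosure Q (H ⊔ Q))) :
    (⁅K, Q⁆ = K ∧ ⁅K, H⁆ = K ∧ K ≤ ⁅H, H⁆ ∧ Hc ≤ Subgroup.normalizer (K : Set G)) ∧
      K ≤ H ∧ K ≤ pResOf p Hc ∧ ⁅K, J⁆ ≤ pCoreOf p Hc ∧
      ∀ h ∈ H, conjS h Q ≤ K ⊔ Q := by
  set R := pCoreOf p Hc with hR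
  have hRp : IsPGroup p R := pCoreOf_isPGroup Hc
  have hHcR : Hc ≤ Subgroup.normalizer (R : Set G) := le_normalizer_pCoreOf Hc
  have hQHc : Q ≤ Hc := hHc ▸ self_le_weakClosure le_top
  have hconj : ∀ g : G, conjS g Q ≤ Hc := fun g => hHc ▸ conjS_le_weakClosure le_top
  have hRQ : R ≤ Subgroup.normalizer (Q : Set G) := le_sup_right.trans
    (wc_le_normalizer hwc (isPGroup_sup hQp hRp (hQHc.trans hHcR)) le_sup_left)
  have hRHc : R ≤ Hc := pCoreOf_le Hc
  set C := ⁅H, J⁆ with hC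
  have hCHc : C ≤ Hc := (commutator_mono hH.1 hJ.1).trans (commutator_le.2 fun a ha b hb => by
    rw [commutatorElement_def]
    exact Hc.mul_mem (Hc.mul_mem (Hc.mul_mem ha hb) (Hc.inv_mem ha)) (Hc.inv_mem hb))
  have hHcC : Hc ≤ Subgroup.normalizer (C : Set G) :=
    (le_inf hH.2 hJ.2).trans (normalizer_le_normalizer_commutator H J)
  have hCR : ⁅C, Hc⁆ ≤ R := by
    refine commutator_le_of_le_commLe ?_
    conv_lhs => rw [hHc]
    refine weakClosure_le_iff.2 fun g _ => le_commLe ((hconj g).trans hHcR) ?_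
    obtain ⟨k, hk, e⟩ := wc_conj_in hQp hwc hQHc (hconj g)
    have hCg : C ≤ Subgroup.normalizer (conjS g Q : Set G) := by
      rw [e, normalizer_conjS]
      exact (conjS_eq_self_iff.2 (hHcC hk)).ge.trans (conjS_mono hcomm)
    set X := C ⊓ conjS g Q
    have hX : X ≤ pCoreOf p C := le_pCoreOf inf_le_left
      (le_normalizer_inf' Subgroup.le_normalizer hCg) (hQp.map _).to_inf_right
    refine le_trans ?_ (hX.trans (le_pCoreOf ((pCoreOf_le C).trans hCHc)
      (hHcC.trans (normalizer_le_normalizer_pCoreOf C)) (pCoreOf_isPGroup C)))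
    exact le_inf (le_normalizer_iff_commutator_le_left.1 ((hconj g).trans hHcC))
      (le_normalizer_iff_commutator_le_right.1 hCg)
  have hHHJ : ⁅⁅H, H⁆, J⁆ ≤ R := three_subgroups_le (hH.1.trans hHcR) (hH.1.trans hHcR)
    (hJ.1.trans hHcR) ((commutator_mono le_rfl hH.1).trans hCR)
    (by rw [commutator_comm J H]; exact (commutator_mono le_rfl hH.1).trans hCR)
  set A := ⁅Q, H⁆ with hA
  have hAH : A ≤ H := le_normalizer_iff_commutator_le_right.1 (hQHc.trans hH.2)
  have hHcHH : Hc ≤ Subgroup.normalizer ((⁅H, H⁆ ⊔ C : Subgroup G) : Set G) :=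
    le_normalizer_sup ((le_inf hH.2 hH.2).trans (normalizer_le_normalizer_commutator H H)) hHcC
  have hAle : A ≤ ⁅H, H⁆ ⊔ C := by
    rw [hA, commutator_comm]
    refine (commutator_mono le_rfl (hQHc.trans hprod.ge)).trans ?_
    exact commutator_sup_le (hprod.le.trans hHcHH) le_sup_left le_sup_right
  have hAJ : ⁅J, A⁆ ≤ R := by
    refine (commutator_mono le_rfl hAle).trans (commutator_sup_le ?_ ?_ ?_)
    · exact (sup_le ((commutator_mono hH.1 hH.1).trans (commutator_le.2 fun a ha b hb => by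
        rw [commutatorElement_def]
        exact Hc.mul_mem (Hc.mul_mem (Hc.mul_mem ha hb) (Hc.inv_mem ha)) (Hc.inv_mem hb)))
        hCHc).trans hHcR
    · rw [commutator_comm]; exact hHHJ
    · rw [commutator_comm]; exact (commutator_mono le_rfl hJ.1).trans hCR
  have hQA : Q ≤ Subgroup.normalizer (A : Set G) :=
    le_sup_left.trans (CfsgLib.Coprime.sup_le_normalizer_commutator Q H)
  have hHA : H ≤ Subgroup.normalizer (A : Set G) :=
    le_sup_right.trans (CfsgLib.Coprime.sup_le_normalizer_commutator Q H)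
  have hRA : R ≤ Subgroup.normalizer (A : Set G) :=
    (le_inf hRQ (hRHc.trans hH.2)).trans (normalizer_le_normalizer_commutator Q H)
  -- the weak closure
  have hHQ : H ⊔ Q ≤ Subgroup.normalizer ((A ⊔ Q : Subgroup G) : Set G) := by
    refine sup_le (fun h hh => mem_normalizer_of_forall fun x hx => ?_)
      (le_normalizer_sup hQA Subgroup.le_normalizer)
    obtain ⟨q, hq, a, ha, rfl⟩ := exists_mul_of_mem_sup hQA ((sup_comm A Q).le hx)
    have e : h * (q * a) * h⁻¹ = ⁅q, h⁆⁻¹ * q * (h * a * h⁻¹) := by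
      simp [commutatorElement_def]; group
    rw [e]
    exact mul_mem (mul_mem (mem_sup_left (A.inv_mem (commutator_mem_commutator hq hh)))
      (mem_sup_right hq)) (mem_sup_left ((mem_normalizer_iff.1 (hHA hh) a).1 ha))
  set W := weakClosure Q (H ⊔ Q) with hW
  have hQW : Q ≤ W := self_le_weakClosure le_sup_right
  have hWA : W = A ⊔ Q := by
    refine le_antisymm (weakClosure_le_iff.2 fun g hg => ?_) (sup_le ?_ hQW)
    · obtain ⟨k, hk, e⟩ := wc_conj_in hQp hwc le_sup_right hg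
      exact e.le.trans ((conjS_mono le_sup_right).trans (conjS_eq_self_iff.2 (hHQ hk)).le)
    · refine (commutator_mono hQW le_rfl).trans (le_normalizer_iff_commutator_le_left.1 ?_)
      exact le_sup_left.trans (Subgroup.le_normalizer.trans
        (normalizer_le_normalizer_weakClosure Q (H ⊔ Q)))
  have hKA : K = pResOf p A := by rw [hK, hWA, pResOf_sup_pgroup hQp hQA]
  have hKleA : K ≤ A := hKA ▸ pResOf_le A
  have hHcK : Hc ≤ Subgroup.normalizer (K : Set G) := by
    have hD : K = pResOf p (A ⊔ R) := by rw [hKA, pResOf_sup_pgroup hRp hRA]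
    rw [hD]
    refine le_trans ?_ (normalizer_le_normalizer_pResOf _)
    rw [← hprod]
    refine sup_le (le_normalizer_sup hHA (hH.1.trans hHcR)) ?_
    rw [le_normalizer_iff_commutator_le_right]
    refine (commutator_sup_le (X := R) ?_ hAJ ?_).trans le_sup_right
    · exact sup_le ((hAH.trans hH.1).trans hHcR) Subgroup.le_normalizer
    · exact le_normalizer_iff_commutator_le_right.1 (hJ.1.trans hHcR)
  have hgen : ∀ X : Subgroup G, Q ≤ X → X ≤ W → W ≤ Subgroup.normalizer (X : Set G) → W ≤ X := by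
    intro X hQX _ hX
    refine weakClosure_le_iff.2 fun g hg => ?_
    obtain ⟨k, hk, e⟩ := wc_conj_in hQp hwc hQW (conjS_le_weakClosure hg)
    exact e.le.trans ((conjS_mono hQX).trans (conjS_eq_self_iff.2 (hX hk)).le)
  have hWK : W ≤ K ⊔ Q := hK ▸ le_pResOf_sup hQW hgen
  have hQK : ⁅K, Q⁆ = K := by
    refine le_antisymm (le_normalizer_iff_commutator_le_left.1 (hQHc.trans hHcK)) ?_
    set X := ⁅K, Q⁆
    have hKX : K ≤ Subgroup.normalizer (X : Set G) :=
      le_sup_left.trans (CfsgLib.Coprime.sup_le_normalizer_commutator K Q)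
    have hQX : Q ≤ Subgroup.normalizer (X : Set G) :=
      le_sup_right.trans (CfsgLib.Coprime.sup_le_normalizer_commutator K Q)
    have hn : K ⊔ Q ≤ Subgroup.normalizer ((X ⊔ Q : Subgroup G) : Set G) := by
      refine sup_le (fun k hk => mem_normalizer_of_forall fun x hx => ?_)
        (le_normalizer_sup hQX Subgroup.le_normalizer)
      obtain ⟨q, hq, a, ha, rfl⟩ := exists_mul_of_mem_sup hQX ((sup_comm X Q).le hx)
      have e : k * (q * a) * k⁻¹ = ⁅k, q⁆ * q * (k * a * k⁻¹) := by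
        simp [commutatorElement_def]
      rw [e]
      exact mul_mem (mul_mem (mem_sup_left (commutator_mem_commutator hk hq))
        (mem_sup_right hq)) (mem_sup_left ((mem_normalizer_iff.1 (hKX hk) a).1 ha))
    have hXW : X ⊔ Q ≤ W := sup_le
      ((le_normalizer_iff_commutator_le_left.1 (hQHc.trans hHcK)).trans
        (hKleA.trans (hWA ▸ le_sup_left))) hQW
    have h1 : W ≤ X ⊔ Q := hgen _ le_sup_right hXW (hWK.trans hn)
    calc K = pResOf p W := hK
      _ ≤ pResOf p (X ⊔ Q) := pResOf_mono h1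
      _ = pResOf p X := pResOf_sup_pgroup hQp hQX
      _ ≤ X := pResOf_le X
  have hKJ : ⁅K, J⁆ ≤ R := by
    rw [commutator_comm]; exact (commutator_mono le_rfl hKleA).trans hAJ
  have hKH : ⁅K, H⁆ = K := by
    refine le_antisymm (le_normalizer_iff_commutator_le_left.1 (hH.1.trans hHcK)) ?_
    set Y := ⁅K, H⁆
    have hHcY : Hc ≤ Subgroup.normalizer (Y : Set G) :=
      (le_inf hHcK hH.2).trans (normalizer_le_normalizer_commutator K H)
    have h1 : K ≤ Y ⊔ R := by
      conv_lhs => rw [← hQK]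
      refine (commutator_mono le_rfl (hQHc.trans hprod.ge)).trans
        (commutator_sup_le (hprod.le.trans (le_normalizer_sup hHcY hHcR)) le_sup_left
          (hKJ.trans le_sup_right))
    calc K = pResOf p K := by rw [hK, pResOf_idem]
      _ ≤ pResOf p (Y ⊔ R) := pResOf_mono h1
      _ = pResOf p Y := pResOf_sup_pgroup hRp (hRHc.trans hHcY)
      _ ≤ Y := pResOf_le Y
  refine ⟨⟨hQK, hKH, ?_, hHcK⟩, hKleA.trans hAH, hKA ▸ pResOf_mono (hAH.trans hH.1), hKJ,
    fun h hh => ?_⟩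
  · conv_lhs => rw [← hKH]
    exact commutator_mono (hKleA.trans hAH) le_rfl
  · refine le_trans ?_ hWK
    refine conjS_le_weakClosure ?_
    exact (conjS_mono le_sup_right).trans
      (conjS_eq_self_iff.2 (Subgroup.le_normalizer (mem_sup_left hh))).le

theorem sup_eq (hQp : IsPGroup p Q) (hwc : IsWeaklyClosedSubgroup p Q)
    (hHc : Hc = weakClosure Q ⊤) (hprod : H ⊔ J = Hc) {K L : Subgroup G}
    (hK : Hc ≤ Subgroup.normalizer (K : Set G)) (hL : Hc ≤ Subgroup.normalizer (L : Set G))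
    (hKres : K ≤ pResOf p Hc) (hLres : L ≤ pResOf p Hc)
    (hHQ : ∀ h ∈ H, conjS h Q ≤ K ⊔ Q) (hJQ : ∀ h ∈ J, conjS h Q ≤ L ⊔ Q) :
    K ⊔ L = pResOf p Hc := by
  refine le_antisymm (sup_le hKres hLres) ?_
  set N := K ⊔ L
  have hN : Hc ≤ Subgroup.normalizer (N : Set G) := le_normalizer_sup hK hL
  have hQHc : Q ≤ Hc := hHc ▸ self_le_weakClosure le_top
  have hn : Hc ≤ Subgroup.normalizer ((N ⊔ Q : Subgroup G) : Set G) := by
    have key : ∀ (X : Subgroup G) (F : Subgroup G), X ≤ Hc → F ≤ N →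
        (∀ h ∈ X, conjS h Q ≤ F ⊔ Q) → X ≤ Subgroup.normalizer ((N ⊔ Q : Subgroup G) : Set G) := by
      intro X F hX hF hc h hh
      refine conjS_eq_self_iff.1 (eq_of_le_of_card_ge ?_
        (card_map_of_injective (MulAut.conj h).injective).ge)
      rw [conjS, Subgroup.map_sup]
      exact sup_le ((conjS_eq_self_iff.2 (hN (hX hh))).le.trans le_sup_left)
        ((hc h hh).trans (sup_le_sup_right hF Q))
    rw [← hprod]
    exact sup_le (key H K (le_sup_left.trans hprod.le) le_sup_left hHQ)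
      (key J L (le_sup_right.trans hprod.le) le_sup_right hJQ)
  have hle : Hc ≤ N ⊔ Q := by
    conv_lhs => rw [hHc]
    refine weakClosure_le_iff.2 fun g hg => ?_
    obtain ⟨k, hk, e⟩ := wc_conj_in hQp hwc hQHc (hHc ▸ conjS_le_weakClosure hg)
    exact e.le.trans ((conjS_mono le_sup_right).trans (conjS_eq_self_iff.2 (hn hk)).le)
  calc pResOf p Hc ≤ pResOf p (N ⊔ Q) := pResOf_mono hle
    _ = pResOf p N := pResOf_sup_pgroup hQp (hQHc.trans hN)
    _ ≤ N := pResOf_le N

end CfsgLib.LocalEven48.WCProduct
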